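import Groth.Agent.SyntLCI.RelFibre
import Groth.Agent.NLAmp.Main
import Mathlib.RingTheory.Smooth.Kaehler
import Mathlib.RingTheory.Smooth.Basic

/-!
# A flat map between smooth algebras is syntomic
-/

set_option autoImplicit false

noncomputable section

universe u

namespace Groth.Agent.SyntLCI

variable (R A B : Type u) [CommRing R] [CommRing A] [CommRing B] [Algebra R A] [Algebra R B] [Algebra A B]
  [IsScalarTower R A B]

theorem conormalFlat_of_formallySmooth {n : ℕ} [Algebra.FormallySmooth R A] [Algebra.FormallySmooth R B]
    (f : MvPolynomial (Fin n) A →ₐ[A] B) (hf : Function.Surjective f) :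
    NLAmp.ConormalFlat (RingHom.ker f.toRingHom) := by
  let := f.toRingHom.toAlgebra
  have : IsScalarTower R (MvPolynomial (Fin n) A) B := .of_algebraMap_eq fun r => by
    show _ = f (algebraMap R (MvPolynomial (Fin n) A) r)
    rw [IsScalarTower.algebraMap_apply R A (MvPolynomial (Fin n) A), f.commutes, ← IsScalarTower.algebraMap_apply]
  let σ : B → MvPolynomial (Fin n) A := fun b => (hf b).choose
  let E : Algebra.Extension.{u} R B := { Ring := MvPolynomial (Fin n) A, σ := σ, algebraMap_σ := fun b => (hf b).choose_spec }
  have : Algebra.FormallySmooth R E.Ring := Algebra.FormallySmooth.comp R A (MvPolynomial (Fin n) A)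
  obtain ⟨l, hl⟩ := E.formallySmooth_iff_split_injection.1 inferInstance
  have : Module.Projective B E.CotangentSpace := inferInstance
  have : Module.Projective B E.Cotangent := Module.Projective.of_split E.cotangentComplex l hl
  exact NLAmp.conormalFlat_of_flat E

theorem isSyntomic_of_smooth_over [Algebra.Smooth R A] [Algebra.Smooth R B] [Module.Flat A B] :
    Synt.IsSyntomic A B := by
  have : Algebra.FinitePresentation A B := .of_restrict_scalars_finitePresentation R A B
  obtain ⟨n, f, hf, hfg⟩ := Algebra.FinitePresentation.out (R := A) (A := B)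
  have : Module.Flat A (MvPolynomial (Fin n) A ⧸ RingHom.ker f.toRingHom) :=
    Module.Flat.of_linearEquiv (Ideal.quotientKerAlgEquivOfSurjective hf).toLinearEquiv
  exact (isSyntomic_iff A B).2 ⟨inferInstance, inferInstance, n, f, hf,
    NLAmp.isKoszulRegularIdeal_of_conormalFlat _ hfg (conormalFlat_of_formallySmooth R A B f hf)⟩

end Groth.Agent.SyntLCI
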