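import Groth.Agent.SyntLCI.Base
import Mathlib.AlgebraicGeometry.Morphisms.RingHomProperties

/-!
# Syntomic morphisms form a local property induced by syntomic ring maps
-/

set_option autoImplicit false

universe u

open AlgebraicGeometry CategoryTheory

namespace Groth.Agent.SyntLCI

/-- The morphism property induced by `Syn`. -/
def synMor : MorphismProperty Scheme.{u} := affineLocally @Syn

instance : HasRingHomProperty synMor.{u} @Syn := ⟨syn_propertyIsLocal, rfl⟩

theorem isSyntomicMor_iff {X S : Scheme.{u}} (f : X ⟶ S) : Synt.IsSyntomicMor f ↔ synMor f := by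
  rw [HasRingHomProperty.iff_exists_appLE (P := synMor) syn_stableUnderCompositionWithLocalizationAwaySource]
  exact forall_congr' fun x =>
    ⟨fun ⟨U, V, e, hx, h⟩ => ⟨V, U, hx, e, h⟩, fun ⟨V, U, hx, e, h⟩ => ⟨U, V, e, hx, h⟩⟩

theorem isSyntomic_appLE {X S : Scheme.{u}} {f : X ⟶ S} (h : Synt.IsSyntomicMor f) (V : S.affineOpens) (U : X.affineOpens)
    (e : U.1 ≤ f ⁻¹ᵁ V.1) :
    letI := (f.appLE V.1 U.1 e).hom.toAlgebra
    Synt.IsSyntomic Γ(S, V.1) Γ(X, U.1) :=
  HasRingHomProperty.appLE synMor f ((isSyntomicMor_iff f).1 h) V U e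

end Groth.Agent.SyntLCI
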