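import Groth.Agent.SyntLCI.KoszulSmooth
import Groth.Agent.SyntLCI.Mor
import Groth.Prelude.Def_RegImm
import Mathlib.AlgebraicGeometry.Morphisms.Smooth
import Mathlib.AlgebraicGeometry.Morphisms.ClosedImmersion
import Mathlib.AlgebraicGeometry.Morphisms.Flat

/-!
# Flat Koszul morphisms and syntomic morphisms
-/

set_option autoImplicit false

noncomputable section

universe u

open AlgebraicGeometry CategoryTheory

namespace Groth.Agent.SyntLCI

theorem mem_basicOpen_iff_notMem {X : Scheme.{u}} {U : X.Opens} (hU : IsAffineOpen U) (x : U) (g : Γ(X, U)) :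
    (x : X) ∈ X.basicOpen g ↔ g ∉ (hU.primeIdealOf x).asIdeal := by
  have h : hU.primeIdealOf x ∈ hU.fromSpec ⁻¹ᵁ X.basicOpen g ↔ (x : X) ∈ X.basicOpen g := by
    change hU.fromSpec (hU.primeIdealOf x) ∈ X.basicOpen g ↔ _
    rw [hU.fromSpec_primeIdealOf]
  rw [← h, hU.fromSpec_preimage_basicOpen]
  rfl

/-- A flat morphism which is Koszul at `x` is syntomic at `x`. -/
theorem isSyntomicAt_of_isKoszulAt {X S : Scheme.{u}} (f : X ⟶ S) [Flat f] (x : X) (h : Synt.IsKoszulAt f x) :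
    Synt.IsSyntomicAt f x := by
  classical
  obtain ⟨U, P, i, π, hxU, -, ⟨-, hreg⟩, hsm, hiπ⟩ := h
  obtain ⟨W, hzW, hcl, rs, hrs, hker⟩ := hreg ⟨x, hxU⟩
  let z : (U : Scheme.{u}) := ⟨x, hxU⟩
  obtain ⟨_, ⟨V, hV, rfl⟩, hxV, -⟩ :=
    S.isBasis_affineOpens.exists_subset_of_mem_open (Set.mem_univ (f x)) isOpen_univ
  have hπz : π (i z) = f x := by rw [← Scheme.Hom.comp_apply, hiπ]; rfl
  obtain ⟨h, hle, hmem⟩ := W.2.exists_basicOpen_le (V := π ⁻¹ᵁ V) ⟨i z, show π (i z) ∈ V by rw [hπz]; exact hxV⟩ hzW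
  let W' := P.basicOpen h
  have hW' : IsAffineOpen W' := W.2.basicOpen h
  -- the closed subscheme over `W`
  have : IsAffine (W.1 : Scheme.{u}) := W.2
  have hO : IsAffineOpen (i ⁻¹ᵁ W.1) := isAffine_of_isAffineHom (i ∣_ W.1)
  have hsurj : Function.Surjective (i.app W.1).hom := by
    have h1 := (i ∣_ W.1).app_surjective ⊤ (isAffineOpen_top _)
    rw [morphismRestrict_app] at h1
    have h2 : Function.Surjective (i.app (W.1.ι ''ᵁ ⊤)) :=
      ((Function.Surjective.of_comp_iff' (ConcreteCategory.bijective_of_isIso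
        ((U : Scheme.{u}).presheaf.map (eqToHom (image_morphismRestrict_preimage i W.1 ⊤)).op)) _).1 h1)
    have key : ∀ W'' : P.Opens, W'' = W.1 → Function.Surjective (i.app W'') → Function.Surjective (i.app W.1).hom := by
      rintro _ rfl h3; exact h3
    exact key _ W.1.ι_image_top h2
  let B₀ := Γ((U : Scheme.{u}), i ⁻¹ᵁ W.1)
  let b : B₀ := i.app W.1 h
  have hO'eq : i ⁻¹ᵁ W' = (U : Scheme.{u}).basicOpen b := Scheme.preimage_basicOpen i h
  have hO' : IsAffineOpen (i ⁻¹ᵁ W') := hO'eq ▸ hO.basicOpen b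
  letI algC : Algebra Γ(P, W.1) Γ(P, W') := (P.presheaf.map (homOfLE (P.basicOpen_le h)).op).hom.toAlgebra
  have hlocC : IsLocalization.Away h Γ(P, W') := W.2.isLocalization_basicOpen h
  letI algB : Algebra B₀ Γ((U : Scheme.{u}), i ⁻¹ᵁ W') :=
    ((U : Scheme.{u}).presheaf.map (homOfLE (i.preimage_mono (P.basicOpen_le h))).op).hom.toAlgebra
  have hlocB : IsLocalization.Away b Γ((U : Scheme.{u}), i ⁻¹ᵁ W') := hO.isLocalization_of_eq_basicOpen b _ hO'eq
  have hsq : (i.app W').hom.comp (algebraMap Γ(P, W.1) Γ(P, W')) =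
      (algebraMap B₀ Γ((U : Scheme.{u}), i ⁻¹ᵁ W')).comp (i.app W.1).hom := by
    have := i.naturality (homOfLE (P.basicOpen_le h)).op
    exact congrArg CommRingCat.Hom.hom this
  have hM : (Submonoid.powers h).map (i.app W.1).hom = Submonoid.powers b := Submonoid.map_powers _ _
  haveI : IsLocalization ((Submonoid.powers h).map (i.app W.1).hom) Γ((U : Scheme.{u}), i ⁻¹ᵁ W') := by
    rw [hM]; exact hlocB
  have happ : (i.app W').hom = IsLocalization.map Γ((U : Scheme.{u}), i ⁻¹ᵁ W') (i.app W.1).hom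
      (Submonoid.powers h).le_comap_map :=
    IsLocalization.ringHom_ext (Submonoid.powers h) (hsq.trans (RingHom.ext fun a => (IsLocalization.map_eq (M := Submonoid.powers h) (Submonoid.powers h).le_comap_map a).symm))
  -- the algebras over `A = Γ(S, V)`
  have e1 : W' ≤ π ⁻¹ᵁ V := hle
  have e2 : i ⁻¹ᵁ W' ≤ (U.ι ≫ f) ⁻¹ᵁ V := by
    rw [← hiπ]
    exact fun y hy => e1 hy
  letI algAC : Algebra Γ(S, V) Γ(P, W') := (π.appLE V W' e1).hom.toAlgebra
  letI algAB : Algebra Γ(S, V) Γ((U : Scheme.{u}), i ⁻¹ᵁ W') := ((U.ι ≫ f).appLE V (i ⁻¹ᵁ W') e2).hom.toAlgebra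
  haveI : Algebra.Smooth Γ(S, V) Γ(P, W') := π.smooth_appLE hV hW' e1
  haveI : Module.Flat Γ(S, V) Γ((U : Scheme.{u}), i ⁻¹ᵁ W') := Scheme.Hom.flat_appLE (U.ι ≫ f) hV hO' e2
  have hcomm : π.appLE V W' e1 ≫ i.app W' = (U.ι ≫ f).appLE V (i ⁻¹ᵁ W') e2 := by
    rw [← i.appLE_eq_app, Scheme.Hom.appLE_comp_appLE]
    simp only [hiπ]
  let ψ : Γ(P, W') →ₐ[Γ(S, V)] Γ((U : Scheme.{u}), i ⁻¹ᵁ W') :=
    { (i.app W').hom with commutes' := fun c => congr(($hcomm).hom c) }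
  have hψ : Function.Surjective ψ := by
    show Function.Surjective (i.app W').hom
    rw [happ]
    exact IsLocalization.map_surjective_of_surjective _ _ _ hsurj
  let G₀ : Fin rs.length → Γ(P, W.1) := rs.get
  let G : Fin rs.length → Γ(P, W') := fun j => algebraMap Γ(P, W.1) Γ(P, W') (G₀ j)
  haveI : Module.Flat Γ(P, W.1) Γ(P, W') := IsLocalization.flat _ (Submonoid.powers h)
  have hG : CAlgX.IsH1Regular G :=
    isH1Regular_of_flat (isH1Regular_of_isExact ((KoszulExt.isExact_iff G₀).2 (by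
      rw [show List.ofFn G₀ = rs from List.ofFn_get rs]; exact hrs)))
  have hkerψ : RingHom.ker ψ.toRingHom = Ideal.span (Set.range G) := by
    show RingHom.ker (i.app W').hom = _
    rw [happ, IsLocalization.ker_map Γ((U : Scheme.{u}), i ⁻¹ᵁ W') (i.app W.1).hom rfl, hker,
      show Ideal.ofList rs = Ideal.span (Set.range G₀) from by
        rw [← NLAmp.ofList_ofFn, List.ofFn_get], Ideal.map_span, ← Set.range_comp]
    rfl
  have hzW' : z ∈ i ⁻¹ᵁ W' := hmem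
  obtain ⟨g, hg, hsyn⟩ := exists_isSyntomic_away ψ hψ G hG hkerψ (hO'.primeIdealOf ⟨z, hzW'⟩).asIdeal
  let O := (U : Scheme.{u}).basicOpen g
  have hzO : z ∈ O := (mem_basicOpen_iff_notMem hO' ⟨z, hzW'⟩ g).2 hg
  have e3 : O ≤ (U.ι ≫ f) ⁻¹ᵁ V := ((U : Scheme.{u}).basicOpen_le g).trans e2
  letI algBO : Algebra Γ((U : Scheme.{u}), i ⁻¹ᵁ W') Γ((U : Scheme.{u}), O) :=
    ((U : Scheme.{u}).presheaf.map (homOfLE ((U : Scheme.{u}).basicOpen_le g)).op).hom.toAlgebra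
  haveI : IsLocalization.Away g Γ((U : Scheme.{u}), O) := hO'.isLocalization_basicOpen g
  letI algAO : Algebra Γ(S, V) Γ((U : Scheme.{u}), O) := ((U.ι ≫ f).appLE V O e3).hom.toAlgebra
  haveI : IsScalarTower Γ(S, V) Γ((U : Scheme.{u}), i ⁻¹ᵁ W') Γ((U : Scheme.{u}), O) :=
    IsScalarTower.of_algebraMap_eq' (congrArg CommRingCat.Hom.hom
      ((U.ι ≫ f).appLE_map (U := V) e2 (homOfLE ((U : Scheme.{u}).basicOpen_le g)).op).symm)
  have hsynO : Synt.IsSyntomic Γ(S, V) Γ((U : Scheme.{u}), O) :=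
    isSyntomic_congr Γ(S, V) ((IsLocalization.algEquiv (Submonoid.powers g) (Localization.Away g)
      Γ((U : Scheme.{u}), O)).restrictScalars Γ(S, V)) hsyn
  -- back to `X`
  have e4 : U.ι ''ᵁ O ≤ f ⁻¹ᵁ V := by
    rintro _ ⟨y, hy, rfl⟩
    exact e3 hy
  refine ⟨⟨U.ι ''ᵁ O, (hO'.basicOpen g).image_of_isOpenImmersion U.ι⟩, ⟨V, hV⟩, e4, ⟨z, hzO, rfl⟩, ?_⟩
  have happLE : (U.ι ≫ f).appLE V O e3 = f.appLE V (U.ι ''ᵁ O) e4 := by
    simp [Scheme.Hom.appLE]
    erw [← X.presheaf.map_comp]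
    rfl
  show @Synt.IsSyntomic Γ(S, V) _ Γ(X, U.ι ''ᵁ O) _ (f.appLE V (U.ι ''ᵁ O) e4).hom.toAlgebra
  rw [← happLE]
  exact hsynO

/-- A syntomic morphism is flat. -/
theorem flat_of_isSyntomicMor {X S : Scheme.{u}} (f : X ⟶ S) (h : Synt.IsSyntomicMor f) : Flat f :=
  ⟨fun {U} hU {V} hV e => by
    have := isSyntomic_appLE h ⟨U, hU⟩ ⟨V, hV⟩ e
    exact this.1⟩

/-- A syntomic morphism is Koszul at every point. -/
theorem isKoszulAt_of_isSyntomicMor {X S : Scheme.{u}} (f : X ⟶ S) (h : Synt.IsSyntomicMor f) (x : X) :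
    Synt.IsKoszulAt f x := by
  classical
  obtain ⟨U, V, e, hxU, hsyn⟩ := h x
  letI algU : Algebra Γ(S, V.1) Γ(X, U.1) := (f.appLE V.1 U.1 e).hom.toAlgebra
  obtain ⟨g, hg, m, c, F, -, hreg, ⟨ε⟩⟩ :=
    exists_relGCI_nhd_of_isSyntomic hsyn (U.2.primeIdealOf ⟨x, hxU⟩).asIdeal
  let U' := X.basicOpen g
  have hU' : IsAffineOpen U' := U.2.basicOpen g
  have hxU' : x ∈ U' := (mem_basicOpen_iff_notMem U.2 ⟨x, hxU⟩ g).2 hg
  have e' : U' ≤ f ⁻¹ᵁ V.1 := (X.basicOpen_le g).trans e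
  letI algUU' : Algebra Γ(X, U.1) Γ(X, U') := (X.presheaf.map (homOfLE (X.basicOpen_le g)).op).hom.toAlgebra
  haveI : IsLocalization.Away g Γ(X, U') := U.2.isLocalization_basicOpen g
  letI algU' : Algebra Γ(S, V.1) Γ(X, U') := (f.appLE V.1 U' e').hom.toAlgebra
  haveI : IsScalarTower Γ(S, V.1) Γ(X, U.1) Γ(X, U') :=
    IsScalarTower.of_algebraMap_eq' (congrArg CommRingCat.Hom.hom
      (f.appLE_map (U := V.1) e (homOfLE (X.basicOpen_le g)).op).symm)
  let ε' : Γ(X, U') ≃ₐ[Γ(S, V.1)] Synt.RelGCIRing Γ(S, V.1) m c F :=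
    ((IsLocalization.algEquiv (Submonoid.powers g) Γ(X, U') (Localization.Away g)).restrictScalars Γ(S, V.1)).trans ε
  let R := MvPolynomial (Fin m) Γ(S, V.1)
  let ψ : R →ₐ[Γ(S, V.1)] Γ(X, U') := ε'.symm.toAlgHom.comp (Ideal.Quotient.mkₐ _ _)
  have hψ : Function.Surjective ψ := ε'.symm.surjective.comp Ideal.Quotient.mk_surjective
  have hψker : RingHom.ker ψ.toRingHom = Ideal.span (Set.range F) := by
    ext y
    rw [RingHom.mem_ker]
    show ε'.symm (Ideal.Quotient.mk _ y) = 0 ↔ _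
    rw [map_eq_zero_iff _ ε'.symm.injective, Ideal.Quotient.eq_zero_iff_mem]
  let P : Scheme.{u} := Spec (CommRingCat.of R)
  let φc : Γ(S, V.1) ⟶ CommRingCat.of R := CommRingCat.ofHom (algebraMap Γ(S, V.1) R)
  let π : P ⟶ S := Spec.map φc ≫ V.2.fromSpec
  let j : Spec Γ(X, U') ⟶ P := Spec.map (CommRingCat.ofHom ψ.toRingHom)
  let i : (U' : Scheme.{u}) ⟶ P := hU'.isoSpec.hom ≫ j
  haveI : IsClosedImmersion j := IsClosedImmersion.spec_of_surjective _ hψ
  haveI hi : IsClosedImmersion i := inferInstanceAs (IsClosedImmersion (hU'.isoSpec.hom ≫ j))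
  haveI hsmR : Algebra.Smooth Γ(S, V.1) (MvPolynomial (Fin m) Γ(S, V.1)) := ⟨inferInstance, inferInstance⟩
  haveI : Smooth (Spec.map φc) := by
    rw [HasRingHomProperty.Spec_iff (P := @Smooth)]
    exact RingHom.smooth_algebraMap.2 hsmR
  haveI : Smooth π := inferInstanceAs (Smooth (Spec.map φc ≫ V.2.fromSpec))
  have hiπ : i ≫ π = U'.ι ≫ f := by
    have h1 : φc ≫ CommRingCat.ofHom ψ.toRingHom = f.appLE V.1 U' e' := CommRingCat.hom_ext ψ.comp_algebraMap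
    show (hU'.isoSpec.hom ≫ Spec.map _) ≫ Spec.map φc ≫ V.2.fromSpec = _
    rw [Category.assoc, ← Spec.map_comp_assoc, h1, V.2.SpecMap_appLE_fromSpec f hU' e',
      hU'.isoSpec_hom_fromSpec_assoc]
  refine ⟨U', P, i, π, hxU', ?_, ⟨inferInstance, fun z => ?_⟩, inferInstance, hiπ⟩
  · rw [← hiπ]
    infer_instance
  · refine ⟨⟨⊤, isAffineOpen_top P⟩, trivial, IsZariskiLocalAtTarget.restrict hi ⊤,
      (List.ofFn F).map (Scheme.ΓSpecIso (CommRingCat.of R)).inv.hom, ?_, ?_⟩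
    · exact KoszulExt.isKoszulRegularSeq_of_isWeaklyRegular
        (isWeaklyRegular_map_ringEquiv (Scheme.ΓSpecIso (CommRingCat.of R)).symm.commRingCatIsoToRingEquiv hreg)
    · rw [← Ideal.map_ofList, NLAmp.ofList_ofFn, ← hψker]
      have h1 : (Scheme.ΓSpecIso (CommRingCat.of R)).inv ≫ i.appTop =
          CommRingCat.ofHom ψ.toRingHom ≫ U'.topIso.inv := by
        show _ ≫ (hU'.isoSpec.hom ≫ j).appTop = _
        rw [Scheme.Hom.comp_appTop, hU'.isoSpec_hom_appTop]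
        erw [← Category.assoc, ← Scheme.ΓSpecIso_inv_naturality, Category.assoc, Iso.inv_hom_id_assoc]
      ext y
      obtain ⟨w, rfl⟩ := (ConcreteCategory.bijective_of_isIso (Scheme.ΓSpecIso (CommRingCat.of R)).inv).2 y
      rw [RingHom.mem_ker]
      have h3 : (i.app ⊤).hom ((Scheme.ΓSpecIso (CommRingCat.of R)).inv w) = U'.topIso.inv (ψ w) :=
        congr(($h1).hom w)
      erw [h3, map_eq_zero_iff _ (ConcreteCategory.bijective_of_isIso U'.topIso.inv).1]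
      rw [Ideal.mem_map_iff_of_surjective _ (ConcreteCategory.bijective_of_isIso (Scheme.ΓSpecIso (CommRingCat.of R)).inv).2]
      exact ⟨fun hw => ⟨w, hw, rfl⟩, fun ⟨w', hw', he⟩ =>
        (ConcreteCategory.bijective_of_isIso (Scheme.ΓSpecIso (CommRingCat.of R)).inv).1 he ▸ hw'⟩

end Groth.Agent.SyntLCI
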