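import Groth.Agent.SyntLCI.RelFibre
import Mathlib.RingTheory.Localization.BaseChange
import Mathlib.RingTheory.RingHom.FinitePresentation

/-!
# Syntomic ring maps are local on the target
-/

set_option autoImplicit false

noncomputable section

universe u

open TensorProduct

namespace Groth.Agent.SyntLCI

theorem isLCIOver_congr {k T T' : Type u} [Field k] [CommRing T] [CommRing T'] [Algebra k T] [Algebra k T']
    (e : T ≃ₐ[k] T') (h : Synt.IsLCIOver k T) : Synt.IsLCIOver k T' := by
  letI := e.toRingEquiv.toRingHom.toAlgebra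
  have : IsScalarTower k T T' := .of_algebraMap_eq fun c => (e.commutes c).symm
  have : IsLocalization.Away (1 : T) T' := IsLocalization.away_of_isUnit_of_bijective T' isUnit_one e.bijective
  exact isLCIOver_away h 1 T'

variable (R : Type u) {S : Type u} [CommRing R] [CommRing S] [Algebra R S]

theorem isSyntomic_away (h : Synt.IsSyntomic R S) (g : S) (L : Type u) [CommRing L] [Algebra S L] [Algebra R L]
    [IsScalarTower R S L] [IsLocalization.Away g L] : Synt.IsSyntomic R L := by
  obtain ⟨hflat, hfp, hfib⟩ := h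
  have : Algebra.FinitePresentation S L := IsLocalization.Away.finitePresentation g
  have : Module.Flat S L := IsLocalization.flat L (Submonoid.powers g)
  refine ⟨Module.Flat.trans R S L, .trans R S L, fun p => ?_⟩
  exact isLCIOver_congr (IsLocalization.Away.tensorProductEquivTMulRight R p.asIdeal.ResidueField g L).symm
    (isLCIOver_away (hfib p) ((1 : p.asIdeal.ResidueField) ⊗ₜ[R] g) _)

theorem isSyntomic_of_span (s : Set S) (hs : Ideal.span s = ⊤)
    (h : ∀ g ∈ s, Synt.IsSyntomic R (Localization.Away g)) : Synt.IsSyntomic R S := by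
  have hfp : Algebra.FinitePresentation R S :=
    Algebra.FinitePresentation.of_span_eq_top_target s hs fun g hg => (h g hg).2.1
  have hflat : Module.Flat R S :=
    Module.flat_of_isLocalized_span (R := R) S S s hs (fun r => Localization.Away r.1)
      (fun r => Algebra.linearMap S (Localization.Away r.1)) fun r => (h r.1 r.2).1
  refine ⟨hflat, hfp, fun p => ?_⟩
  refine (isLCIOver_iff_atPrime _ _).2 ⟨inferInstance, fun Q => ?_⟩
  obtain ⟨g, hg, hgQ⟩ : ∃ g ∈ s, (1 : p.asIdeal.ResidueField) ⊗ₜ[R] g ∉ Q.asIdeal := by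
    by_contra hno
    push Not at hno
    have hle : Ideal.span s ≤ Q.asIdeal.comap (Algebra.TensorProduct.includeRight (R := R) (A := p.asIdeal.ResidueField) (B := S)).toRingHom :=
      Ideal.span_le.2 hno
    rw [hs] at hle
    exact Ideal.comap_ne_top _ Q.2.ne_top (top_le_iff.1 hle)
  have hd : Disjoint ((Submonoid.powers ((1 : p.asIdeal.ResidueField) ⊗ₜ[R] g) : Submonoid (p.asIdeal.Fiber S)) : Set (p.asIdeal.Fiber S))
      (Q.asIdeal : Set (p.asIdeal.Fiber S)) :=
    (Ideal.disjoint_powers_iff_notMem _ Q.2.isRadical).2 hgQ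
  have : (Q.asIdeal.map (algebraMap _ (Localization.Away ((1 : p.asIdeal.ResidueField) ⊗ₜ[R] g)))).IsPrime :=
    IsLocalization.isPrime_of_isPrime_disjoint _ _ _ Q.2 hd
  exact (isCIOver_localRing_congr (Submonoid.powers ((1 : p.asIdeal.ResidueField) ⊗ₜ[R] g)) _ Q.asIdeal
    (IsLocalization.under_map_of_isPrime_disjoint (Submonoid.powers ((1 : p.asIdeal.ResidueField) ⊗ₜ[R] g)) _ Q.2 hd)).1 (isCIOver_of_isLCIOver
      (isLCIOver_congr (IsLocalization.Away.tensorProductEquivTMulRight R p.asIdeal.ResidueField g (Localization.Away g))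
        ((h g hg).2.2 p)) _)

theorem isSyntomic_congr {S' : Type u} [CommRing S'] [Algebra R S'] (e : S ≃ₐ[R] S') (h : Synt.IsSyntomic R S) :
    Synt.IsSyntomic R S' := by
  letI := e.toRingEquiv.toRingHom.toAlgebra
  have : IsScalarTower R S S' := .of_algebraMap_eq fun c => (e.commutes c).symm
  have : IsLocalization.Away (1 : S) S' := IsLocalization.away_of_isUnit_of_bijective S' isUnit_one e.bijective
  exact isSyntomic_away R h 1 S'

end Groth.Agent.SyntLCI
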