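import Groth.Agent.SyntLCI.Dim
import Groth.Agent.SyntLCI.Local
import Groth.Agent.FieldExtDim.Basic

/-!
# Base change of relative global complete intersections and of syntomic algebras
-/

set_option autoImplicit false

noncomputable section

universe u

open MvPolynomial TensorProduct

namespace Groth.Agent.SyntLCI

variable {R : Type u} [CommRing R] {n c : ℕ}

/-- The base change of a presentation. -/
theorem exists_tensor_pres (R' : Type u) [CommRing R'] [Algebra R R'] (F : Fin c → MvPolynomial (Fin n) R) :
    Nonempty (R' ⊗[R] Synt.RelGCIRing R n c F ≃ₐ[R']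
      Synt.RelGCIRing R' n c (fun i => MvPolynomial.map (algebraMap R R') (F i))) := by
  let I := Ideal.span (Set.range F)
  let φ := Ideal.Quotient.mkₐ R I
  let g : R' ⊗[R] MvPolynomial (Fin n) R →ₐ[R'] R' ⊗[R] Synt.RelGCIRing R n c F :=
    Algebra.TensorProduct.map (AlgHom.id R' R') φ
  let e := MvPolynomial.algebraTensorAlgEquiv R R' (σ := Fin n)
  let ψ := g.comp e.symm.toAlgHom
  have hψ : Function.Surjective ψ :=
    (LinearMap.lTensor_surjective R' (g := φ.toLinearMap) Ideal.Quotient.mk_surjective).comp e.symm.surjective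
  have hker : RingHom.ker ψ.toRingHom = Ideal.span (Set.range fun i => MvPolynomial.map (algebraMap R R') (F i)) := by
    have hg : RingHom.ker g.toRingHom =
        I.map (Algebra.TensorProduct.includeRight : _ →ₐ[R] R' ⊗[R] MvPolynomial (Fin n) R).toRingHom := by
      have h := Algebra.TensorProduct.lTensor_ker (A := R') φ Ideal.Quotient.mk_surjective
      rw [show RingHom.ker φ = I from Ideal.mk_ker] at h
      exact h
    have hc : e.symm.toAlgHom.toRingHom.comp (MvPolynomial.map (algebraMap R R')) =
        (Algebra.TensorProduct.includeRight : _ →ₐ[R] R' ⊗[R] MvPolynomial (Fin n) R).toRingHom :=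
      RingHom.ext fun x => MvPolynomial.algebraTensorAlgEquiv_symm_map R R' x
    rw [show RingHom.ker ψ.toRingHom = (RingHom.ker g.toRingHom).comap e.symm.toAlgHom.toRingHom from
      (RingHom.comap_ker _ _).symm, hg, ← hc, ← Ideal.map_map,
      Ideal.comap_map_of_bijective e.symm.toAlgHom.toRingHom e.symm.bijective, Ideal.map_span, ← Set.range_comp]
    rfl
  exact ⟨(Ideal.quotientKerAlgEquivOfSurjective hψ).symm.trans (Ideal.quotientEquivAlgOfEq R' hker)⟩

/-- Being a relative global complete intersection is stable under base change. -/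
theorem isRelGCI_map {F : Fin c → MvPolynomial (Fin n) R} (hF : Synt.IsRelGCI R n c F) (R' : Type u) [CommRing R']
    [Algebra R R'] : Synt.IsRelGCI R' n c (fun i => MvPolynomial.map (algebraMap R R') (F i)) := by
  intro p' hnt
  let p := p'.asIdeal.comap (algebraMap R R')
  let f : p.ResidueField →+* p'.asIdeal.ResidueField := Ideal.ResidueField.map p p'.asIdeal (algebraMap R R') rfl
  let := f.toAlgebra
  let G : Fin c → MvPolynomial (Fin n) p.ResidueField := fun i => MvPolynomial.map (algebraMap R p.ResidueField) (F i)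
  obtain ⟨e⟩ := exists_tensor_pres (R := p.ResidueField) p'.asIdeal.ResidueField G
  have hdim : ringKrullDim (p'.asIdeal.Fiber (Synt.RelGCIRing R' n c fun i => MvPolynomial.map (algebraMap R R') (F i))) =
      ringKrullDim (p.Fiber (Synt.RelGCIRing R n c F)) := by
    rw [← fibre_quotient_dim, ← fibre_quotient_dim]
    have hG : (fun i => MvPolynomial.map (algebraMap R' p'.asIdeal.ResidueField) (MvPolynomial.map (algebraMap R R') (F i))) =
        fun i => MvPolynomial.map (algebraMap p.ResidueField p'.asIdeal.ResidueField) (G i) := funext fun i => by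
      simp only [G, MvPolynomial.map_map]
      congr 2
      exact RingHom.ext fun r => (Ideal.ResidueField.map_algebraMap p p'.asIdeal (algebraMap R R') rfl r).symm
    rw [hG]
    exact (ringKrullDim_eq_of_ringEquiv e.toRingEquiv).symm.trans
      (FieldExtDim.ringKrullDim_tensor_field (k := p.ResidueField) (K := p'.asIdeal.ResidueField) _)
  have hne : Nontrivial (p.Fiber (Synt.RelGCIRing R n c F)) := by
    by_contra hsub
    rw [not_nontrivial_iff_subsingleton] at hsub
    rw [ringKrullDim_eq_bot_of_subsingleton (R := p.Fiber (Synt.RelGCIRing R n c F))] at hdim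
    have h0 := ringKrullDim_nonneg_of_nontrivial (R := p'.asIdeal.Fiber (Synt.RelGCIRing R' n c fun i => MvPolynomial.map (algebraMap R R') (F i)))
    rw [hdim] at h0
    simp at h0
  obtain ⟨h1, h2⟩ := hF ⟨p, inferInstance⟩ hne
  exact ⟨h1, hdim.trans h2⟩

/-- Syntomic algebras are stable under base change. -/
theorem isSyntomic_baseChange {S : Type u} [CommRing S] [Algebra R S] (h : Synt.IsSyntomic R S) (R' : Type u)
    [CommRing R'] [Algebra R R'] : Synt.IsSyntomic R' (R' ⊗[R] S) := by
  let s : Set S := {g | ∃ (m c : ℕ) (F : Fin c → MvPolynomial (Fin m) R), Synt.IsRelGCI R m c F ∧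
    Nonempty (Localization.Away g ≃ₐ[R] Synt.RelGCIRing R m c F)}
  have hs : Ideal.span s = ⊤ := by
    by_contra hne
    obtain ⟨M, hM, hle⟩ := Ideal.exists_le_maximal _ hne
    obtain ⟨g, hg, m, c, F, hF, -, hE⟩ := exists_relGCI_nhd_of_isSyntomic h M
    exact hg (hle (Ideal.subset_span (show g ∈ s from ⟨m, c, F, hF, hE⟩)))
  refine isSyntomic_of_span R' ((Algebra.TensorProduct.includeRight : S →ₐ[R] R' ⊗[R] S) '' s)
    (by
      have h := congrArg (Ideal.map (Algebra.TensorProduct.includeRight : S →ₐ[R] R' ⊗[R] S)) hs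
      rwa [Ideal.map_span, Ideal.map_top] at h) ?_
  rintro _ ⟨g, ⟨m, c, F, hF, ⟨E⟩⟩, rfl⟩
  obtain ⟨e⟩ := exists_tensor_pres R' F
  let e₁ := IsLocalization.Away.tensorProductEquivTMulRight R R' g (Localization.Away g)
  let e₂ := Algebra.TensorProduct.congr (AlgEquiv.refl (R := R') (A₁ := R')) E
  exact isSyntomic_congr R' ((e.symm.trans e₂.symm).trans e₁) (isSyntomic_relGCI (isRelGCI_map hF R'))

end Groth.Agent.SyntLCI
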