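import Groth.Agent.SyntLCI.RelFibre
import Groth.Agent.KoszulExt.BaseChange
import Groth.Agent.KoszulExt.Homology

/-!
# Koszul exactness is local
-/

set_option autoImplicit false

noncomputable section

universe u

open RingTheory.Sequence TensorProduct

namespace Groth.Agent.SyntLCI

variable {A : Type u} [CommRing A] {c : ℕ}

theorem isExact_of_isUnit (f : Fin c → A) (i : Fin c) (hi : IsUnit (f i)) : KoszulExt.IsExact f := by
  classical
  cases c with
  | zero => exact i.elim0
  | succ c =>
    have hw : IsWeaklyRegular A (List.ofFn fun j => f (Equiv.swap 0 i j)) := by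
      rw [S2189.weaklyRegular_iff]
      intro j w hw
      rcases eq_or_ne j 0 with rfl | hj
      · rw [show Set.Iio (0 : Fin (c + 1)) = ∅ from Set.eq_empty_of_forall_notMem fun x hx => Fin.not_lt_zero x hx,
          Set.image_empty, Ideal.span_empty, Ideal.mem_bot] at hw ⊢
        rw [Equiv.swap_apply_left] at hw
        exact hi.mul_right_eq_zero.1 hw
      · have htop : Ideal.span ((fun j => f (Equiv.swap 0 i j)) '' Set.Iio j) = ⊤ :=
          Ideal.eq_top_of_isUnit_mem _ (Ideal.subset_span ⟨0, Fin.pos_iff_ne_zero.2 hj, by simp only [Equiv.swap_apply_left]⟩) hi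
        rw [htop]
        trivial
    have h := ((KoszulExt.isExact_iff _).2 (KoszulExt.isKoszulRegularSeq_of_isWeaklyRegular hw)).reindex (Equiv.swap 0 i)
    simpa using h

theorem isExact_tensor_of_isWeaklyRegular {B : Type u} [CommRing B] [Algebra A B] (f : Fin c → A)
    (h : IsWeaklyRegular B (List.ofFn fun i => algebraMap A B (f i))) :
    KoszulExt.IsExact fun i => algebraMap A (A ⊗[A] B) (f i) := by
  have h1 := isWeaklyRegular_map_ringEquiv (Algebra.TensorProduct.lid A B).symm.toRingEquiv h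
  rw [List.map_ofFn] at h1
  refine (KoszulExt.isExact_iff _).2 (KoszulExt.isKoszulRegularSeq_of_isWeaklyRegular ?_)
  convert h1 using 2
  funext i
  exact ((Algebra.TensorProduct.lid A B).symm.commutes (f i)).symm

/-- Koszul exactness may be checked at maximal ideals. -/
theorem isExact_of_localized (f : Fin c → A)
    (h : ∀ (m : Ideal A) [m.IsMaximal],
      KoszulExt.IsExact fun i => algebraMap A (A ⊗[A] Localization.AtPrime m) (f i)) :
    KoszulExt.IsExact f := by
  intro k z
  refine ⟨fun hz => ?_, fun ⟨y, hy⟩ => hy ▸ KoszulExt.dk_dk f k y⟩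
  let Q := KoszulExt.G A c (k + 1) ⧸ LinearMap.range (KoszulExt.dk f (k + 1))
  let zb : Q := Submodule.Quotient.mk z
  suffices hzb : zb = 0 from (Submodule.Quotient.mk_eq_zero _).1 hzb
  by_contra hzb
  have hne : (Submodule.span A {zb}).annihilator ≠ ⊤ := fun htop => hzb (by
    have := Submodule.mem_annihilator.1 (htop ▸ Submodule.mem_top : (1 : A) ∈ _) zb (Submodule.mem_span_singleton_self zb)
    simpa using this)
  obtain ⟨m, hm, hle⟩ := Ideal.exists_le_maximal _ hne
  let B := Localization.AtPrime m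
  have hexA : KoszulExt.IsExact fun i => algebraMap A (A ⊗[A] B) (f i) := h m
  have hcomm : ∀ j (w : B ⊗[A] KoszulExt.G A c (j + 1)),
      KoszulExt.dk (fun i => algebraMap A (A ⊗[A] B) (f i)) j (KoszulExt.nu A B (j + 1) w) =
        KoszulExt.nu A B j ((KoszulExt.dk f j).lTensor B w) := by
    intro j w
    induction w using TensorProduct.induction_on with
    | zero => simp
    | add a b ha hb => simp only [map_add, ha, hb]
    | tmul b x =>
      refine Subtype.ext ?_
      rw [KoszulExt.dk_coe, KoszulExt.nu_tmul, LinearMap.lTensor_tmul, KoszulExt.nu_tmul, map_smul, KoszulExt.ct_sigma]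
      rfl
  have h0 : KoszulExt.dk (fun i => algebraMap A (A ⊗[A] B) (f i)) k (KoszulExt.nu A B (k + 1) ((1 : B) ⊗ₜ z)) = 0 := by
    rw [hcomm, LinearMap.lTensor_tmul, hz, TensorProduct.tmul_zero, map_zero]
  obtain ⟨y, hy⟩ := (hexA k _).1 h0
  obtain ⟨w, rfl⟩ := (KoszulExt.nu_bijective (P := A) (n := c) (A := A) (B := B) (k + 2)).2 y
  rw [hcomm] at hy
  have h4 := (KoszulExt.nu_bijective (P := A) (n := c) (A := A) (B := B) (k + 1)).1 hy
  have h5 : (TensorProduct.mk A B Q 1) zb = 0 := by
    show ((1 : B) ⊗ₜ[A] zb) = 0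
    rw [show ((1 : B) ⊗ₜ[A] zb) = (LinearMap.range (KoszulExt.dk f (k + 1))).mkQ.lTensor B ((1 : B) ⊗ₜ z) from rfl,
      ← h4, ← LinearMap.comp_apply, ← LinearMap.lTensor_comp,
      show (LinearMap.range (KoszulExt.dk f (k + 1))).mkQ ∘ₗ KoszulExt.dk f (k + 1) = 0 from
        LinearMap.ext fun x => (Submodule.Quotient.mk_eq_zero _).2 ⟨x, rfl⟩, LinearMap.lTensor_zero]
    rfl
  obtain ⟨⟨t, ht⟩, ht0⟩ := (IsLocalizedModule.eq_zero_iff m.primeCompl (TensorProduct.mk A B Q 1)).1 h5
  refine ht (hle ?_)
  rw [Submodule.mem_annihilator_span_singleton]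
  exact ht0

end Groth.Agent.SyntLCI
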