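import Groth.Agent.SyntLCI.Nhd
import Groth.Agent.SyntLCI.SmoothOver
import Groth.Agent.NLAmp.Main
import Groth.Agent.KoszulExt.Conormal
import Groth.Agent.KoszulExt.Homology
import Groth.Prelude.Def_CAlgX
import Mathlib.RingTheory.Smooth.Flat

/-!
# A flat quotient of a smooth algebra by a Koszul-regular sequence is syntomic
-/

set_option autoImplicit false

noncomputable section

universe u

open RingTheory.Sequence

namespace Groth.Agent.SyntLCI

/-- An exact Koszul sequence is `H₁`-regular. -/
theorem isH1Regular_of_isExact {A : Type u} [CommRing A] {c : ℕ} {f : Fin c → A} (hf : KoszulExt.IsExact f) :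
    CAlgX.IsH1Regular f := by
  classical
  intro v hv
  set T := Submodule.span A {v : Fin c → A | ∃ i j : Fin c, v = Pi.single i (f j) - Pi.single j (f i)}
  have hG1 : ExteriorAlgebra.ι A v ∈ KoszulExt.G A c 1 := by
    rw [KoszulExt.G, ExteriorAlgebra.exteriorPower, pow_one]; exact LinearMap.mem_range_self _ _
  obtain ⟨y, hy⟩ := (hf 0 ⟨ExteriorAlgebra.ι A v, hG1⟩).1 (Subtype.ext (by
    rw [KoszulExt.dk_coe]; simp [KoszulExt.ct_ι, hv]))
  have hy2 : (y : ExteriorAlgebra A (Fin c → A)) ∈ KoszulExt.G A c 2 := y.2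
  change (y : ExteriorAlgebra A (Fin c → A)) ∈ LinearMap.range (ExteriorAlgebra.ι A : (Fin c → A) →ₗ[A] _) ^ 2 at hy2
  rw [pow_two] at hy2
  have key : KoszulExt.ct f y.1 ∈ T.map (ExteriorAlgebra.ι A) := by
    refine Submodule.mul_induction_on hy2 ?_ fun a b ha hb => by rw [map_add]; exact add_mem ha hb
    rintro _ ⟨a, rfl⟩ _ ⟨b, rfl⟩
    rw [KoszulExt.ct_ι_mul, KoszulExt.ct_ι]
    refine ⟨(∑ i, a i * f i) • b - (∑ i, b i * f i) • a, ?_, ?_⟩
    · have : (∑ i, a i * f i) • b - (∑ i, b i * f i) • a =
          ∑ i, ∑ j, (a i * b j) • (Pi.single j (f i) - Pi.single i (f j)) := by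
        funext k
        simp only [Pi.sub_apply, Pi.smul_apply, Finset.sum_apply, smul_eq_mul, mul_sub,
          Finset.sum_sub_distrib, Pi.single_apply, mul_ite, mul_zero, Finset.sum_ite_eq,
          Finset.mem_univ, if_true, Finset.sum_mul]
        congr 1
        · exact Finset.sum_congr rfl fun i _ => by ring
        · rw [Finset.sum_comm]
          simp only [Finset.sum_ite_eq, Finset.mem_univ, if_true]
          exact Finset.sum_congr rfl fun i _ => by ring
      rw [this]
      exact Submodule.sum_mem _ fun i _ => Submodule.sum_mem _ fun j _ =>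
        Submodule.smul_mem _ _ (Submodule.subset_span ⟨j, i, rfl⟩)
    · rw [map_sub, map_smul, map_smul]
      congr 1
      rw [← Algebra.commutes, ← Algebra.smul_def]
  rw [show KoszulExt.ct f y.1 = ExteriorAlgebra.ι A v from congrArg Subtype.val hy] at key
  obtain ⟨w, hw, hwv⟩ := key
  exact ExteriorAlgebra.ι_leftInverse.injective hwv ▸ hw

/-- `H₁`-regularity is preserved by flat algebras. -/
theorem isH1Regular_of_flat {A : Type u} [CommRing A] {L : Type u} [CommRing L] [Algebra A L] [Module.Flat A L]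
    {c : ℕ} {f : Fin c → A} (hf : CAlgX.IsH1Regular f) :
    CAlgX.IsH1Regular fun i => algebraMap A L (f i) := by
  classical
  intro l hl
  obtain ⟨k, a, y, hly, ha⟩ := Module.Flat.isTrivialRelation_of_sum_smul_eq_zero (R := A) (M := L) (f := f) (x := l) (by
    rw [← hl]
    exact Finset.sum_congr rfl fun i _ => by rw [Algebra.smul_def, mul_comm])
  set T := Submodule.span L {v : Fin c → L | ∃ i j : Fin c,
    v = Pi.single i (algebraMap A L (f j)) - Pi.single j (algebraMap A L (f i))}
  have hT : ∀ b : Fin c → A, b ∈ Submodule.span A {v : Fin c → A | ∃ i j : Fin c, v = Pi.single i (f j) - Pi.single j (f i)} →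
      (fun i => algebraMap A L (b i)) ∈ T := by
    intro b hb
    have h1 : ((Algebra.linearMap A L).compLeft (Fin c)) b ∈ T.restrictScalars A := by
      refine (Submodule.map_le_iff_le_comap.2 (Submodule.span_le.2 ?_)) (Submodule.mem_map_of_mem hb)
      rintro _ ⟨i, j, rfl⟩
      refine Submodule.subset_span ⟨i, j, funext fun k => ?_⟩
      simp [Pi.single_apply, apply_ite (algebraMap A L)]
    exact h1
  have hl' : l = ∑ j, y j • fun i => algebraMap A L (a i j) := by
    funext i
    rw [hly i, Finset.sum_apply]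
    exact Finset.sum_congr rfl fun j _ => by rw [Pi.smul_apply, Algebra.smul_def, smul_eq_mul, mul_comm]
  rw [hl']
  exact Submodule.sum_mem _ fun j _ => Submodule.smul_mem _ _ (hT _ (hf _ (by
    rw [← ha j]
    exact Finset.sum_congr rfl fun i _ => mul_comm _ _)))

variable {P Q : Type u} [CommRing P] [CommRing Q] {r : ℕ}

/-- A combination of lifts of an `H₁`-regular sequence lying in the kernel lies in the product. -/
theorem mem_ker_mul (ψ : P →+* Q) (hψ : Function.Surjective ψ) (a : Fin r → P)
    (hH : CAlgX.IsH1Regular fun i => ψ (a i)) {d : Fin r → P} (hd : ψ (∑ i, d i * a i) = 0) :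
    ∑ i, d i * a i ∈ RingHom.ker ψ * Ideal.span (Set.range a) := by
  classical
  have hmem : ∀ v ∈ Submodule.span Q {v : Fin r → Q | ∃ i j : Fin r,
      v = Pi.single i (ψ (a j)) - Pi.single j (ψ (a i))},
      ∃ e : Fin r → P, (∀ i, ψ (e i) = v i) ∧ ∑ i, e i * a i = 0 := by
    intro v hv
    induction hv using Submodule.span_induction with
    | mem v hv =>
      obtain ⟨i, j, rfl⟩ := hv
      refine ⟨Pi.single i (a j) - Pi.single j (a i), fun k => by simp [Pi.single_apply, apply_ite ψ], ?_⟩
      simp [sub_mul, Finset.sum_sub_distrib, Pi.single_apply, ite_mul, mul_comm (a i) (a j)]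
    | zero => exact ⟨0, by simp, by simp⟩
    | add v w _ _ hv hw =>
      obtain ⟨e, he, he'⟩ := hv
      obtain ⟨e₂, he₂, he₂'⟩ := hw
      exact ⟨e + e₂, by simp [he, he₂], by simp [add_mul, Finset.sum_add_distrib, he', he₂']⟩
    | smul s v _ hv =>
      obtain ⟨e, he, he'⟩ := hv
      obtain ⟨s, rfl⟩ := hψ s
      exact ⟨s • e, by simp [he], by simp [mul_assoc, ← Finset.mul_sum, he']⟩
  obtain ⟨e, he, he'⟩ := hmem (fun i => ψ (d i)) (hH _ (by rw [← hd, map_sum]; simp))
  rw [show ∑ i, d i * a i = ∑ i, (d i - e i) * a i by simp [sub_mul, Finset.sum_sub_distrib, he']]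
  exact Ideal.sum_mem _ fun i _ =>
    Ideal.mul_mem_mul (by rw [RingHom.mem_ker, map_sub, he, sub_self]) (Ideal.subset_span ⟨i, rfl⟩)

/-- The preimage of an ideal with `H₁`-regular generators under a quotient by a regular sequence has a basis
modulo its square. -/
theorem hasLocalBases_comap (ψ : P →+* Q) (hψ : Function.Surjective ψ) {c : ℕ} (F : Fin c → P)
    (hF : RingHom.ker ψ = Ideal.span (Set.range F))
    (hFrel : ∀ v : Fin c → P, ∑ i, v i * F i = 0 → ∀ i, v i ∈ RingHom.ker ψ)
    (G : Fin r → Q) (hG : CAlgX.IsH1Regular G) :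
    NLAmp.HasLocalBases ((Ideal.span (Set.range G)).comap ψ) := by
  classical
  choose a ha using fun i => hψ (G i)
  obtain rfl : (fun i => ψ (a i)) = G := funext ha
  set N := RingHom.ker ψ
  set A' := Ideal.span (Set.range a)
  set J := (Ideal.span (Set.range fun i => ψ (a i))).comap ψ
  have hJ : J = A' ⊔ N := by
    rw [show J = ((A'.map ψ).comap ψ) by rw [Ideal.map_span, ← Set.range_comp]; rfl,
      Ideal.comap_map_of_surjective ψ hψ]
    rfl
  have haJ : ∀ i, a i ∈ J := fun i => Ideal.mem_comap.2 (Ideal.subset_span ⟨i, rfl⟩)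
  have hNJ : N ≤ J := fun x hx => by rw [Ideal.mem_comap, RingHom.mem_ker.1 hx]; exact zero_mem _
  have hAJ : A' ≤ J := Ideal.span_le.2 (Set.range_subset_iff.2 haJ)
  have hFJ : ∀ i, F i ∈ J := fun i => hNJ (hF.ge (Ideal.subset_span ⟨i, rfl⟩))
  intro q hq _
  refine ⟨1, fun h => hq.ne_top ((Ideal.eq_top_iff_one q).2 h), c + r, Fin.append F a, fun k => ?_, fun z hz => ?_, ?_⟩
  · refine Fin.addCases (fun i => ?_) (fun i => ?_) k <;> simp [hFJ, haJ]
  · rw [hJ, hF] at hz
    obtain ⟨y, hy, w, hw, rfl⟩ := Submodule.mem_sup.1 hz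
    obtain ⟨cy, rfl⟩ := Ideal.mem_span_range_iff_exists_fun.1 hy
    obtain ⟨cw, rfl⟩ := Ideal.mem_span_range_iff_exists_fun.1 hw
    refine ⟨0, Fin.append cw cy, ?_⟩
    simp [Fin.sum_univ_add, add_comm]
  · intro k hk
    rw [Fin.sum_univ_add] at hk
    simp only [Fin.append_left, Fin.append_right] at hk
    set x := ∑ i, k (Fin.castAdd r i) * F i
    set y := ∑ i, k (Fin.natAdd c i) * a i
    have hxN : x ∈ N := hF ▸ Ideal.sum_mem _ fun i _ => Ideal.mul_mem_left _ _ (Ideal.subset_span ⟨i, rfl⟩)
    have hψx : ψ x = 0 := hxN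
    have hsq : ψ (x + y) ∈ (Ideal.span (Set.range fun i => ψ (a i))) ^ 2 := by
      refine (Ideal.pow_right_mono (Ideal.map_comap_le (f := ψ) : J.map ψ ≤ _) 2) ?_
      rw [← Ideal.map_pow]
      exact Ideal.mem_map_of_mem _ hk
    rw [map_add, hψx, zero_add] at hsq
    -- the coefficients of `a` lie in `J`
    have hb : ∀ i, k (Fin.natAdd c i) ∈ J := by
      rw [pow_two, ← smul_eq_mul] at hsq
      obtain ⟨e, he, hes⟩ := (Submodule.mem_ideal_smul_span_iff_exists_sum _ (fun i => ψ (a i)) _).1 hsq
      rw [Finsupp.sum_fintype _ _ (fun _ => by simp)] at hes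
      intro i
      have hrel : ∑ i, (ψ (k (Fin.natAdd c i)) - e i) * ψ (a i) = 0 := by
        simp only [sub_mul, Finset.sum_sub_distrib, ← map_mul, ← map_sum]
        rw [sub_eq_zero]
        simpa [y] using hes.symm
      have hTle : Submodule.span Q {v : Fin r → Q | ∃ i j : Fin r, v = Pi.single i (ψ (a j)) - Pi.single j (ψ (a i))} ≤
          Submodule.pi Set.univ fun _ => Ideal.span (Set.range fun i => ψ (a i)) := by
        refine Submodule.span_le.2 ?_
        rintro _ ⟨i, j, rfl⟩ l -
        refine sub_mem ?_ ?_ <;>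
        · rw [Pi.single_apply]
          split_ifs
          · exact Ideal.subset_span ⟨_, rfl⟩
          · exact zero_mem _
      have := hTle (hG _ hrel) i trivial
      simpa [J] using add_mem this (he i)
    -- so `x` lies in `J ^ 2 ∩ N = J * N`
    have hy2 : y ∈ J ^ 2 := Ideal.sum_mem _ fun i _ => by
      rw [pow_two]; exact Ideal.mul_mem_mul (hb i) (haJ i)
    have hx2 : x ∈ J ^ 2 := by
      have := sub_mem hk hy2
      rwa [add_sub_cancel_right] at this
    have hx3 : x ∈ J * N := by
      have hle : J ^ 2 ≤ A' * A' ⊔ J * N := by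
        conv_lhs => rw [pow_two]; arg 2; rw [hJ]
        rw [Ideal.mul_sup]
        refine sup_le ?_ le_sup_right
        rw [hJ, Ideal.sup_mul]
        refine sup_le le_sup_left (le_sup_of_le_right ?_)
        rw [mul_comm N A']
        exact Ideal.mul_mono le_sup_left le_rfl
      obtain ⟨u, hu, w, hw, huw⟩ := Submodule.mem_sup.1 (hle hx2)
      have huψ : ψ u = 0 := by
        have h1 : ψ w = 0 := (Ideal.mul_le_right : J * N ≤ N) hw
        have h2 := congrArg ψ huw
        rw [map_add, h1, add_zero, hψx] at h2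
        exact h2
      obtain ⟨d, rfl⟩ := Ideal.mem_span_range_iff_exists_fun.1 ((Ideal.mul_le_left : A' * A' ≤ A') hu)
      rw [← huw]
      refine add_mem ?_ hw
      rw [mul_comm J N]
      exact Ideal.mul_mono le_rfl hAJ (mem_ker_mul ψ hψ a hG huψ)
    -- so the coefficients of `F` lie in `J`
    have hba : ∀ i, k (Fin.castAdd r i) ∈ J := by
      rw [hF, ← smul_eq_mul] at hx3
      obtain ⟨e, he, hes⟩ := (Submodule.mem_ideal_smul_span_iff_exists_sum _ F _).1 hx3
      rw [Finsupp.sum_fintype _ _ (fun _ => by simp)] at hes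
      intro i
      have := hFrel (fun i => k (Fin.castAdd r i) - e i)
        (by simpa [sub_mul, Finset.sum_sub_distrib, sub_eq_zero, x] using hes.symm) i
      simpa using add_mem (hNJ this) (he i)
    exact ⟨0, fun j => by simpa using Fin.addCases (motive := fun j => k j ∈ J) hba hb j⟩

/-- A flat quotient of a smooth algebra by a Koszul-regular sequence is syntomic near every prime. -/
theorem exists_isSyntomic_away {A C B : Type u} [CommRing A] [CommRing C] [CommRing B] [Algebra A C] [Algebra A B]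
    [Algebra.Smooth A C] [Module.Flat A B] (π : C →ₐ[A] B) (hπ : Function.Surjective π) {r : ℕ} (G : Fin r → C)
    (hG : CAlgX.IsH1Regular G) (hker : RingHom.ker π.toRingHom = Ideal.span (Set.range G))
    (q : Ideal B) [q.IsPrime] :
    ∃ g : B, g ∉ q ∧ Synt.IsSyntomic A (Localization.Away g) := by
  classical
  obtain ⟨g, hg, m, c, F, -, hF, ⟨e⟩⟩ :=
    exists_relGCI_nhd_of_isSyntomic (isSyntomic_of_smooth_over A A C) (q.comap π.toRingHom)
  let L := Localization.Away g
  let B' := Localization.Away (π g)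
  have : IsLocalization ((Submonoid.powers g).map π.toRingHom) B' := by
    rw [Submonoid.map_powers]
    exact inferInstanceAs (IsLocalization (Submonoid.powers (π g)) _)
  obtain ⟨π', hπ', -, hker'⟩ := exists_localizationMap π hπ (Submonoid.powers g) L B'
  let ψ : MvPolynomial (Fin m) A →ₐ[A] L := e.symm.toAlgHom.comp (Ideal.Quotient.mkₐ A _)
  have hψ : Function.Surjective ψ := e.symm.surjective.comp Ideal.Quotient.mk_surjective
  have hψker : RingHom.ker ψ.toRingHom = Ideal.span (Set.range F) := by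
    ext x
    rw [RingHom.mem_ker]
    show e.symm (Ideal.Quotient.mk _ x) = 0 ↔ _
    rw [map_eq_zero_iff _ e.symm.injective, Ideal.Quotient.eq_zero_iff_mem]
  have hFrel : ∀ v : Fin c → MvPolynomial (Fin m) A, ∑ i, v i * F i = 0 → ∀ i, v i ∈ RingHom.ker ψ.toRingHom :=
    fun v hv i => hψker ▸
      ((KoszulExt.isExact_iff F).2 (KoszulExt.isKoszulRegularSeq_of_isWeaklyRegular hF)).rel_mem hv i
  have : Module.Flat C L := IsLocalization.flat L (Submonoid.powers g)
  have hGL : CAlgX.IsH1Regular fun i => algebraMap C L (G i) := isH1Regular_of_flat hG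
  have hbases := hasLocalBases_comap ψ.toRingHom hψ F hψker hFrel _ hGL
  let φ : MvPolynomial (Fin m) A →ₐ[A] B' := π'.comp ψ
  have hφker : RingHom.ker φ.toRingHom =
      (Ideal.span (Set.range fun i => algebraMap C L (G i))).comap ψ.toRingHom := by
    have hmap : RingHom.ker π'.toRingHom = Ideal.span (Set.range fun i => algebraMap C L (G i)) := by
      rw [hker', hker, Ideal.map_span, ← Set.range_comp]
      rfl
    rw [← hmap, RingHom.comap_ker]
    rfl
  have hφ : Function.Surjective φ := hπ'.comp hψ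
  have : Module.Flat B B' := IsLocalization.flat B' (Submonoid.powers (π g))
  have : Module.Flat A B' := Module.Flat.trans A B B'
  have : Module.Flat A (MvPolynomial (Fin m) A ⧸ RingHom.ker φ.toRingHom) :=
    Module.Flat.of_linearEquiv (Ideal.quotientKerAlgEquivOfSurjective hφ).toLinearEquiv
  rw [← hφker] at hbases
  exact ⟨π g, hg, (isSyntomic_iff A B').2 ⟨inferInstance, .of_surjective φ hφ, m, φ, hφ,
    NLAmp.isKoszulRegularIdeal_of_conormalFlat _ hbases.fg hbases.conormalFlat⟩⟩

end Groth.Agent.SyntLCI
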