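import Groth.Agent.SyntLCI.Local
import Mathlib.RingTheory.Flat.Localization
import Mathlib.RingTheory.LocalRing.ResidueField.Ideal
import Mathlib.RingTheory.SurjectiveOnStalks

/-!
# Syntomic ring maps and localisation of the base; the ring map property
-/

set_option autoImplicit false

noncomputable section

universe u

open TensorProduct

namespace Groth.Agent.SyntLCI

section Bij

variable {k k' T : Type u} [Field k] [Field k'] [CommRing T] [Algebra k k'] [Algebra k T] [Algebra k' T]

theorem isGlobalCI_of_bijective [IsScalarTower k k' T] (hb : Function.Bijective (algebraMap k k')) (h : Synt.IsGlobalCI k T) :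
    Synt.IsGlobalCI k' T := by
  rcases h with h | ⟨n, c, hcn, φ, r, hφ, hker, hdim⟩
  · exact Or.inl h
  let χ : MvPolynomial (Fin n) k →+* MvPolynomial (Fin n) k' := MvPolynomial.map (algebraMap k k')
  let φ' : MvPolynomial (Fin n) k' →ₐ[k'] T := MvPolynomial.aeval fun i => φ (MvPolynomial.X i)
  have hc : φ'.toRingHom.comp χ = φ.toRingHom := by
    refine MvPolynomial.ringHom_ext (fun a => ?_) fun i => ?_
    · show φ' (χ (MvPolynomial.C a)) = φ (MvPolynomial.C a)
      rw [MvPolynomial.map_C, ← MvPolynomial.algebraMap_eq, ← MvPolynomial.algebraMap_eq, φ'.commutes, φ.commutes,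
        ← IsScalarTower.algebraMap_apply]
    · simp [χ, φ']
  have hχ : Function.Bijective χ :=
    ⟨MvPolynomial.map_injective _ hb.1, MvPolynomial.map_surjective _ hb.2⟩
  refine Or.inr ⟨n, c, hcn, φ', fun i => χ (r i), fun t => ?_, ?_, hdim⟩
  · obtain ⟨x, rfl⟩ := hφ t
    exact ⟨χ x, RingHom.congr_fun hc x⟩
  · rw [Set.range_comp' χ r, ← Ideal.map_span, ← hker, ← hc, ← RingHom.comap_ker,
      Ideal.map_comap_of_surjective χ hχ.2]

theorem isLCIOver_of_bijective (hb : Function.Bijective (algebraMap k k'))
    (ht : ∀ x, algebraMap k T x = algebraMap k' T (algebraMap k k' x)) (h : Synt.IsLCIOver k T) :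
    Synt.IsLCIOver k' T := by
  have : IsScalarTower k k' T := .of_algebraMap_eq ht
  obtain ⟨hft, h⟩ := h
  refine ⟨Algebra.FiniteType.of_restrictScalars_finiteType k k' T, fun p => ?_⟩
  obtain ⟨g, hg, hG⟩ := h p
  exact ⟨g, hg, isGlobalCI_of_bijective hb hG⟩

end Bij

section Loc

variable (R R' S : Type u) [CommRing R] [CommRing R'] [CommRing S] [Algebra R R'] [Algebra R S] [Algebra R' S]
  [IsScalarTower R R' S] (M : Submonoid R) [IsLocalization M R']

include M

/-- The fibre over a point of a localisation of the base. -/
theorem exists_fibre_equiv (p : Ideal R') [p.IsPrime] :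
    ∃ (_ : Algebra (p.under R).ResidueField p.ResidueField)
      (_ : Algebra (p.under R).ResidueField (p.Fiber S))
      (_ : ∀ x, algebraMap (p.under R).ResidueField (p.Fiber S) x =
        algebraMap p.ResidueField (p.Fiber S) (algebraMap (p.under R).ResidueField p.ResidueField x)),
      Function.Bijective (algebraMap (p.under R).ResidueField p.ResidueField) ∧
        Nonempty ((p.under R).Fiber S ≃ₐ[(p.under R).ResidueField] p.Fiber S) := by
  let a : (p.under R).ResidueField →+* p.ResidueField := Ideal.ResidueField.map _ p (algebraMap R R') rfl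
  have hb : Function.Bijective a :=
    (RingHom.surjectiveOnStalks_of_isLocalization R' (M := M)).residueFieldMap_bijective _ _ _
  let := a.toAlgebra
  have : IsScalarTower R (p.under R).ResidueField p.ResidueField := by
    refine .of_algebraMap_eq fun r => ?_
    rw [RingHom.algebraMap_toAlgebra, IsScalarTower.algebraMap_apply R R' p.ResidueField]
    exact (Ideal.ResidueField.map_algebraMap _ p (algebraMap R R') rfl r).symm
  have hc : TensorProduct.CompatibleSMul R R' p.ResidueField S :=
    IsLocalization.tensorProduct_compatibleSMul M R' p.ResidueField S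
  let e₀ := Algebra.TensorProduct.equivOfCompatibleSMul R R' (p.under R).ResidueField p.ResidueField S
  let f : (p.under R).Fiber S →ₐ[(p.under R).ResidueField] p.ResidueField ⊗[R] S :=
    Algebra.TensorProduct.map (Algebra.ofId _ _) (AlgHom.id R S)
  have hf : Function.Bijective f := by
    let e : (p.under R).ResidueField ≃ₐ[R] p.ResidueField :=
      AlgEquiv.ofBijective (IsScalarTower.toAlgHom R (p.under R).ResidueField p.ResidueField) hb
    have heq : (f : _ → _) = Algebra.TensorProduct.congr e (AlgEquiv.refl : S ≃ₐ[R] S) := by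
      funext x
      induction x using TensorProduct.induction_on with
      | zero => simp
      | tmul a b => rfl
      | add x y hx hy => rw [map_add, map_add, hx, hy]
    rw [heq]
    exact AlgEquiv.bijective _
  exact ⟨inferInstance, inferInstance, fun x => rfl, hb, ⟨(AlgEquiv.ofBijective f hf).trans e₀.symm⟩⟩

/-- Syntomicity may be tested after localising the base. -/
theorem isSyntomic_of_localization_base (h : Synt.IsSyntomic R S) : Synt.IsSyntomic R' S := by
  obtain ⟨hflat, hfp, hfib⟩ := h
  refine ⟨(Module.flat_iff_of_isLocalization R' M S).2 hflat, ?_, fun p => ?_⟩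
  · have hc : TensorProduct.CompatibleSMul R R' R' S := IsLocalization.tensorProduct_compatibleSMul M R' R' S
    exact Algebra.FinitePresentation.equiv (Algebra.TensorProduct.lidOfCompatibleSMul R R' S)
  · obtain ⟨i₁, i₂, i₃, hb, ⟨e⟩⟩ := exists_fibre_equiv R R' S M p.asIdeal
    exact isLCIOver_of_bijective hb i₃ (isLCIOver_congr e (hfib ⟨p.asIdeal.under R, inferInstance⟩))

/-- Syntomicity may be tested over the base of a localisation. -/
theorem isSyntomic_of_localization_base_of_finitePresentation [Algebra.FinitePresentation R R'] (h : Synt.IsSyntomic R' S) :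
    Synt.IsSyntomic R S := by
  obtain ⟨hflat, hfp, hfib⟩ := h
  refine ⟨(Module.flat_iff_of_isLocalization R' M S).1 hflat, .trans R R' S, fun p => ?_⟩
  by_cases hd : Disjoint (M : Set R) (p.asIdeal : Set R)
  · let P : PrimeSpectrum R' := ⟨p.asIdeal.map (algebraMap R R'), IsLocalization.isPrime_of_isPrime_disjoint M _ _ p.2 hd⟩
    have := P.2
    have hP : p = ⟨P.asIdeal.under R, inferInstance⟩ :=
      PrimeSpectrum.ext (IsLocalization.under_map_of_isPrime_disjoint M R' p.2 hd).symm
    rw [hP]
    obtain ⟨i₁, i₂, i₃, hb, ⟨e⟩⟩ := exists_fibre_equiv R R' S M P.asIdeal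
    let b := RingEquiv.ofBijective _ hb
    let : Algebra P.asIdeal.ResidueField (P.asIdeal.under R).ResidueField := b.symm.toRingHom.toAlgebra
    exact isLCIOver_congr e.symm (isLCIOver_of_bijective (k := P.asIdeal.ResidueField) b.symm.bijective
      (fun x => (congrArg _ (b.apply_symm_apply x).symm).trans (i₃ (b.symm x)).symm) (hfib P))
  · obtain ⟨m, hmM, hmp⟩ := Set.not_disjoint_iff.1 hd
    have h0 : Subsingleton (p.asIdeal.Fiber S) := by
      rw [← subsingleton_iff_zero_eq_one]
      have hu : IsUnit (algebraMap R (p.asIdeal.Fiber S) m) := by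
        rw [← (Algebra.TensorProduct.includeRight : S →ₐ[R] p.asIdeal.Fiber S).commutes,
          IsScalarTower.algebraMap_apply R R' S]
        exact (((IsLocalization.map_units R' ⟨m, hmM⟩).map (algebraMap R' S)).map _)
      rw [IsScalarTower.algebraMap_apply R p.asIdeal.ResidueField, Ideal.algebraMap_residueField_eq_zero.2 hmp,
        map_zero] at hu
      exact isUnit_zero_iff.1 hu
    exact ⟨inferInstance, fun q => absurd (Subsingleton.elim (1 : p.asIdeal.Fiber S) 0 ▸ q.asIdeal.zero_mem)
      ((Ideal.ne_top_iff_one _).1 q.2.ne_top)⟩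

end Loc

/-- The syntomic ring maps. -/
def Syn {R S : Type u} [CommRing R] [CommRing S] (φ : R →+* S) : Prop :=
  letI := φ.toAlgebra
  Synt.IsSyntomic R S

theorem syn_algebraMap (R S : Type u) [CommRing R] [CommRing S] [Algebra R S] :
    Syn (algebraMap R S) ↔ Synt.IsSyntomic R S := by
  rw [Syn, toAlgebra_algebraMap]

theorem syn_stableUnderCompositionWithLocalizationAwayTarget :
    RingHom.StableUnderCompositionWithLocalizationAwayTarget @Syn := by
  intro R S T _ _ _ _ r _ φ hφ
  let := φ.toAlgebra
  let := ((algebraMap S T).comp φ).toAlgebra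
  have : IsScalarTower R S T := .of_algebraMap_eq fun x => rfl
  exact isSyntomic_away R hφ r T

theorem syn_stableUnderCompositionWithLocalizationAwaySource :
    RingHom.StableUnderCompositionWithLocalizationAwaySource @Syn := by
  intro R S T _ _ _ _ r _ φ hφ
  let := φ.toAlgebra
  let := (φ.comp (algebraMap R S)).toAlgebra
  have : IsScalarTower R S T := .of_algebraMap_eq fun x => rfl
  have : Algebra.FinitePresentation R S := IsLocalization.Away.finitePresentation r
  exact isSyntomic_of_localization_base_of_finitePresentation R S T (Submonoid.powers r) hφ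

theorem syn_localizationAwayPreserves : RingHom.LocalizationAwayPreserves @Syn := by
  intro R S _ _ φ r R' S' _ _ _ _ _ _ hφ
  have h := syn_stableUnderCompositionWithLocalizationAwayTarget S' (φ r) φ hφ
  let ψ := IsLocalization.Away.map R' S' φ r
  let := ψ.toAlgebra
  let := ((algebraMap S S').comp φ).toAlgebra
  have : IsScalarTower R R' S' := .of_algebraMap_eq fun x => by
    simp [RingHom.algebraMap_toAlgebra, ψ, IsLocalization.Away.map]
  exact isSyntomic_of_localization_base R R' S' (Submonoid.powers r) h

theorem syn_ofLocalizationSpanTarget : RingHom.OfLocalizationSpanTarget @Syn := by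
  intro R S _ _ φ s hs h
  let := φ.toAlgebra
  exact isSyntomic_of_span R s hs fun g hg => (syn_algebraMap R (Localization.Away g)).1 (h ⟨g, hg⟩)

theorem syn_ofLocalizationSpan : RingHom.OfLocalizationSpan @Syn := by
  intro R S _ _ φ s hs h
  refine syn_ofLocalizationSpanTarget φ (φ '' s) (by rw [← Ideal.map_span, hs, Ideal.map_top]) ?_
  rintro ⟨_, r, hr, rfl⟩
  have h' := syn_stableUnderCompositionWithLocalizationAwaySource (Localization.Away r) r _ (h ⟨r, hr⟩)
  rwa [show (Localization.awayMap φ r).comp (algebraMap R (Localization.Away r)) =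
      (algebraMap S (Localization.Away (φ r))).comp φ from IsLocalization.map_comp _] at h'

theorem syn_propertyIsLocal : RingHom.PropertyIsLocal @Syn :=
  ⟨syn_localizationAwayPreserves, syn_ofLocalizationSpanTarget, syn_ofLocalizationSpan,
    syn_stableUnderCompositionWithLocalizationAwayTarget⟩

end Groth.Agent.SyntLCI
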