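import Groth.Agent.SyntLCI.BaseChange
import Groth.Agent.SyntLCI.Base
import Groth.Agent.LeadDim.FibreBound
import Groth.Agent.SyntDim.Basic

/-!
# Composition of relative global complete intersections and of syntomic algebras
-/

set_option autoImplicit false

noncomputable section

universe u

open MvPolynomial TensorProduct

namespace Groth.Agent.SyntLCI

section Equations

variable (R : Type u) [CommRing R] (n m : ℕ)

/-- Separate the first `n` variables from the last `m`. -/
def splitVars : MvPolynomial (Fin (n + m)) R →ₐ[R] MvPolynomial (Fin m) (MvPolynomial (Fin n) R) :=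
  aeval (Fin.append (fun i => C (X i)) X)

/-- Collect the variables. -/
def joinVars : MvPolynomial (Fin m) (MvPolynomial (Fin n) R) →ₐ[R] MvPolynomial (Fin (n + m)) R :=
  aevalTower (rename (Fin.castAdd m)) (fun j => X (Fin.natAdd n j))

theorem splitVars_comp_rename :
    (splitVars R n m).comp (rename (Fin.castAdd m)) =
      IsScalarTower.toAlgHom R (MvPolynomial (Fin n) R) (MvPolynomial (Fin m) (MvPolynomial (Fin n) R)) := by
  refine MvPolynomial.algHom_ext fun i => ?_
  simp [splitVars]

/-- The equivalence between the two polynomial rings. -/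
def varsEquiv : MvPolynomial (Fin (n + m)) R ≃ₐ[R] MvPolynomial (Fin m) (MvPolynomial (Fin n) R) :=
  AlgEquiv.ofAlgHom (splitVars R n m) (joinVars R n m)
    (by
      refine MvPolynomial.algHom_ext' ?_ fun j => by simp [splitVars, joinVars]
      refine MvPolynomial.algHom_ext fun i => ?_
      simp [splitVars, joinVars])
    (by
      refine MvPolynomial.algHom_ext fun i => ?_
      refine Fin.addCases (fun a => ?_) (fun b => ?_) i <;> simp [splitVars, joinVars])

/-- The equations of a composite presentation. -/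
def compEq {c d : ℕ} (F : Fin c → MvPolynomial (Fin n) R) (G : Fin d → MvPolynomial (Fin m) (MvPolynomial (Fin n) R)) :
    Fin (c + d) → MvPolynomial (Fin (n + m)) R :=
  Fin.append (fun i => rename (Fin.castAdd m) (F i)) (fun j => joinVars R n m (G j))

theorem map_compEq {K : Type u} [CommRing K] (f : R →+* K) {c d : ℕ} (F : Fin c → MvPolynomial (Fin n) R)
    (G : Fin d → MvPolynomial (Fin m) (MvPolynomial (Fin n) R)) :
    (fun i => MvPolynomial.map f (compEq R n m F G i)) =
      compEq K n m (fun i => MvPolynomial.map f (F i)) (fun j => MvPolynomial.map (MvPolynomial.map f) (G j)) := by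
  have h : ((MvPolynomial.map f).comp (joinVars R n m).toRingHom) =
      (joinVars K n m).toRingHom.comp (MvPolynomial.map (MvPolynomial.map f)) := by
    refine MvPolynomial.ringHom_ext (fun a => ?_) fun j => by simp [joinVars]
    simp [joinVars, MvPolynomial.map_rename]
  funext i
  refine Fin.addCases (fun a => ?_) (fun b => ?_) i
  · simp [compEq, MvPolynomial.map_rename]
  · simpa [compEq] using RingHom.congr_fun h (G b)

theorem nonempty_compEq_equiv {c d : ℕ} (F : Fin c → MvPolynomial (Fin n) R)
    (G : Fin d → MvPolynomial (Fin m) (MvPolynomial (Fin n) R)) :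
    Nonempty (Synt.RelGCIRing R (n + m) (c + d) (compEq R n m F G) ≃ₐ[R]
      Synt.RelGCIRing (Synt.RelGCIRing R n c F) m d
        (fun j => MvPolynomial.map (Ideal.Quotient.mk (Ideal.span (Set.range F))) (G j))) := by
  let I := Ideal.span (Set.range F)
  let B := Synt.RelGCIRing R n c F
  let χ : MvPolynomial (Fin m) (MvPolynomial (Fin n) R) →ₐ[R] MvPolynomial (Fin m) B :=
    MvPolynomial.mapAlgHom (Ideal.Quotient.mkₐ R I)
  let G' : Fin d → MvPolynomial (Fin m) B := fun j => χ (G j)
  let π : MvPolynomial (Fin m) B →ₐ[R] Synt.RelGCIRing B m d G' := (Ideal.Quotient.mkₐ B _).restrictScalars R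
  let Φ := π.comp (χ.comp (varsEquiv R n m).toAlgHom)
  have hχ : Function.Surjective χ := MvPolynomial.map_surjective _ Ideal.Quotient.mk_surjective
  have hΦ : Function.Surjective Φ :=
    Ideal.Quotient.mk_surjective.comp (hχ.comp (varsEquiv R n m).surjective)
  have hker : RingHom.ker Φ.toRingHom = Ideal.span (Set.range (compEq R n m F G)) := by
    have h1 : RingHom.ker Φ.toRingHom = ((Ideal.span (Set.range G')).comap χ.toRingHom).comap (varsEquiv R n m).toAlgHom.toRingHom := by
      have hπ : RingHom.ker π.toRingHom = Ideal.span (Set.range G') := Ideal.mk_ker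
      refine Eq.trans ?_ (congrArg (fun J => Ideal.comap (varsEquiv R n m).toAlgHom.toRingHom (Ideal.comap χ.toRingHom J)) hπ)
      rw [RingHom.comap_ker, RingHom.comap_ker]
      rfl
    have h2 : (Ideal.span (Set.range G')).comap χ.toRingHom = Ideal.span (Set.range G) ⊔ I.map MvPolynomial.C := by
      rw [show Ideal.span (Set.range G') = (Ideal.span (Set.range G)).map χ.toRingHom by
          rw [Ideal.map_span, ← Set.range_comp]; rfl,
        Ideal.comap_map_of_surjective χ.toRingHom hχ, ← RingHom.ker_eq_comap_bot]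
      congr 1
      rw [show RingHom.ker χ.toRingHom = RingHom.ker χ from rfl, MvPolynomial.ker_mapAlgHom]
      exact congrArg (Ideal.map MvPolynomial.C) Ideal.mk_ker
    have h3 : ∀ J : Ideal (MvPolynomial (Fin m) (MvPolynomial (Fin n) R)),
        J.comap (varsEquiv R n m).toAlgHom.toRingHom = J.map (varsEquiv R n m).symm.toAlgHom.toRingHom := fun J =>
      (Ideal.map_symm (I := J) (varsEquiv R n m).toRingEquiv).symm
    rw [h1, h2, h3, Ideal.map_sup, Ideal.map_map, Ideal.map_span, ← Set.range_comp, Ideal.map_span, ← Set.range_comp,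
      ← Ideal.span_union, Set.union_comm]
    congr 1
    ext x
    simp only [Set.mem_union, Set.mem_range, Function.comp_apply]
    constructor
    · rintro (⟨i, rfl⟩ | ⟨j, rfl⟩)
      · exact ⟨Fin.castAdd d i, by simp [compEq, varsEquiv, joinVars]⟩
      · exact ⟨Fin.natAdd c j, by simp [compEq, varsEquiv]⟩
    · rintro ⟨i, rfl⟩
      refine Fin.addCases (fun a => Or.inl ⟨a, ?_⟩) (fun b => Or.inr ⟨b, ?_⟩) i <;> simp [compEq, varsEquiv, joinVars]
  exact ⟨(Ideal.quotientEquivAlgOfEq R hker.symm).trans (Ideal.quotientKerAlgEquivOfSurjective hΦ)⟩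

end Equations

variable {R : Type u} [CommRing R] {n c m d : ℕ}

theorem isRelGCI_compEq {F : Fin c → MvPolynomial (Fin n) R} (hF : Synt.IsRelGCI R n c F)
    (G : Fin d → MvPolynomial (Fin m) (MvPolynomial (Fin n) R))
    (hG : Synt.IsRelGCI (Synt.RelGCIRing R n c F) m d
      (fun j => MvPolynomial.map (Ideal.Quotient.mk (Ideal.span (Set.range F))) (G j))) :
    Synt.IsRelGCI R (n + m) (c + d) (compEq R n m F G) := by
  intro p hnt
  let k := p.asIdeal.ResidueField
  let f := algebraMap R k
  let Fp : Fin c → MvPolynomial (Fin n) k := fun i => MvPolynomial.map f (F i)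
  let Gp : Fin d → MvPolynomial (Fin m) (MvPolynomial (Fin n) k) := fun j => MvPolynomial.map (MvPolynomial.map f) (G j)
  let T := Synt.RelGCIRing k n c Fp
  let ι : Synt.RelGCIRing R n c F →+* T := Ideal.quotientMap _ (MvPolynomial.map f) (by
    rw [Ideal.span_le]
    rintro _ ⟨i, rfl⟩
    exact Ideal.subset_span ⟨i, rfl⟩)
  let := ι.toAlgebra
  have hGT : Synt.IsRelGCI T m d (fun j => MvPolynomial.map (Ideal.Quotient.mk (Ideal.span (Set.range Fp))) (Gp j)) := by
    convert isRelGCI_map hG T using 2 with j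
    rw [MvPolynomial.map_map, MvPolynomial.map_map]
    congr 1
  let U := Synt.RelGCIRing T m d (fun j => MvPolynomial.map (Ideal.Quotient.mk (Ideal.span (Set.range Fp))) (Gp j))
  obtain ⟨e⟩ := nonempty_compEq_equiv k n m Fp Gp
  have hfib : ringKrullDim (p.asIdeal.Fiber (Synt.RelGCIRing R (n + m) (c + d) (compEq R n m F G))) = ringKrullDim U := by
    rw [← fibre_quotient_dim, map_compEq]
    exact ringKrullDim_eq_of_ringEquiv e.toRingEquiv
  have hntU : Nontrivial U := by
    by_contra hsub
    rw [not_nontrivial_iff_subsingleton] at hsub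
    have h0 := ringKrullDim_nonneg_of_nontrivial (R := p.asIdeal.Fiber (Synt.RelGCIRing R (n + m) (c + d) (compEq R n m F G)))
    rw [hfib, ringKrullDim_eq_bot_of_subsingleton] at h0
    simp at h0
  obtain ⟨P⟩ := (inferInstance : Nonempty (PrimeSpectrum U))
  have hntT : Nontrivial T := (algebraMap T U).domain_nontrivial
  have hdT : ringKrullDim (p.asIdeal.Fiber (Synt.RelGCIRing R n c F)) = ringKrullDim T := (fibre_quotient_dim F p.asIdeal).symm
  have hntF : Nontrivial (p.asIdeal.Fiber (Synt.RelGCIRing R n c F)) := by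
    by_contra hsub
    rw [not_nontrivial_iff_subsingleton] at hsub
    have h0 := ringKrullDim_nonneg_of_nontrivial (R := T)
    rw [← hdT, ringKrullDim_eq_bot_of_subsingleton] at h0
    simp at h0
  obtain ⟨hcn, hdim⟩ := hF p hntF
  have hntq : Nontrivial ((P.comap (algebraMap T U)).asIdeal.Fiber U) :=
    PrimeSpectrum.nontrivial ((PrimeSpectrum.preimageHomeomorphFiber T U (P.comap (algebraMap T U))) ⟨P, rfl⟩)
  obtain ⟨hdm, -⟩ := hGT (P.comap (algebraMap T U)) hntq
  refine ⟨by omega, ?_⟩
  rw [hfib]
  have hle : ringKrullDim U ≤ ((n - c : ℕ) : WithBot ℕ∞) + ((m - d : ℕ) : WithBot ℕ∞) := by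
    rw [← hdim, hdT]
    refine LeadDim.ringKrullDim_le_add (m - d) fun q => ?_
    rw [(PrimeSpectrum.preimageHomeomorphFiber T U q).isHomeomorph.topologicalKrullDim_eq,
      PrimeSpectrum.topologicalKrullDim_eq_ringKrullDim]
    by_cases hq : Nontrivial (q.asIdeal.Fiber U)
    · exact le_of_eq (hGT q hq).2
    · rw [not_nontrivial_iff_subsingleton] at hq
      rw [ringKrullDim_eq_bot_of_subsingleton]
      exact bot_le
  have hge := @SyntDim.le_ringKrullDim_quotient k _ (n + m) (c + d) (fun i => MvPolynomial.map f (compEq R n m F G i))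
    (by rw [map_compEq]; exact e.toEquiv.nontrivial)
  rw [map_compEq, ringKrullDim_eq_of_ringEquiv (S := U) e.toRingEquiv] at hge
  refine le_antisymm (hle.trans (le_of_eq ?_)) ?_
  · rw [← Nat.cast_add]; congr 1; omega
  · revert hge
    generalize ringKrullDim U = a
    intro hge
    induction a with
    | bot => simp at hge
    | coe a =>
      induction a using ENat.recTopCoe with
      | top => exact le_top
      | coe b =>
        have h' : n + m ≤ b + (c + d) := by exact_mod_cast hge
        exact WithBot.coe_le_coe.2 (Nat.cast_le.2 (Nat.sub_le_iff_le_add.2 h'))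

theorem exists_relGCI_comp {B : Type u} [CommRing B] [Algebra R B] {F : Fin c → MvPolynomial (Fin n) R}
    (hF : Synt.IsRelGCI R n c F) (E : B ≃ₐ[R] Synt.RelGCIRing R n c F) {C : Type u} [CommRing C] [Algebra R C]
    [Algebra B C] [IsScalarTower R B C] {G : Fin d → MvPolynomial (Fin m) B} (hG : Synt.IsRelGCI B m d G)
    (EC : C ≃ₐ[B] Synt.RelGCIRing B m d G) :
    ∃ H : Fin (c + d) → MvPolynomial (Fin (n + m)) R, Synt.IsRelGCI R (n + m) (c + d) H ∧
      Nonempty (C ≃ₐ[R] Synt.RelGCIRing R (n + m) (c + d) H) := by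
  let B₀ := Synt.RelGCIRing R n c F
  let : Algebra B B₀ := E.toRingEquiv.toRingHom.toAlgebra
  let G₀ : Fin d → MvPolynomial (Fin m) B₀ := fun j => MvPolynomial.map (algebraMap B B₀) (G j)
  choose G' hG' using fun j => MvPolynomial.map_surjective
    (Ideal.Quotient.mk (Ideal.span (Set.range F))) Ideal.Quotient.mk_surjective (G₀ j)
  have hG'' : (fun j => MvPolynomial.map (Ideal.Quotient.mk (Ideal.span (Set.range F))) (G' j)) = G₀ := funext hG'
  refine ⟨compEq R n m F G', isRelGCI_compEq hF G' (hG'' ▸ isRelGCI_map hG B₀), ?_⟩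
  obtain ⟨e⟩ := nonempty_compEq_equiv R n m F G'
  rw [hG''] at e
  let μ : MvPolynomial (Fin m) B ≃ₐ[R] MvPolynomial (Fin m) B₀ := MvPolynomial.mapAlgEquiv (Fin m) E
  refine ⟨((EC.restrictScalars R).trans (Ideal.quotientEquivAlg _ _ μ ?_)).trans e.symm⟩
  rw [Ideal.map_span, ← Set.range_comp]
  rfl

theorem isSyntomic_trans (A B C : Type u) [CommRing A] [CommRing B] [CommRing C] [Algebra A B] [Algebra B C] [Algebra A C]
    [IsScalarTower A B C] (hB : Synt.IsSyntomic A B) (hC : Synt.IsSyntomic B C) : Synt.IsSyntomic A C := by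
  let s : Set B := {g | ∃ (n c : ℕ) (F : Fin c → MvPolynomial (Fin n) A), Synt.IsRelGCI A n c F ∧
    Nonempty (Localization.Away g ≃ₐ[A] Synt.RelGCIRing A n c F)}
  have hs : Ideal.span s = ⊤ := by
    by_contra hne
    obtain ⟨M, hM, hle⟩ := Ideal.exists_le_maximal _ hne
    obtain ⟨g, hg, n, c, F, hF, -, hE⟩ := exists_relGCI_nhd_of_isSyntomic hB M
    exact hg (hle (Ideal.subset_span (show g ∈ s from ⟨n, c, F, hF, hE⟩)))
  refine isSyntomic_of_span A (algebraMap B C '' s) (by rw [← Ideal.map_span, hs, Ideal.map_top]) ?_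
  rintro _ ⟨g, ⟨n, c, F, hF, ⟨E⟩⟩, rfl⟩
  let C' := Localization.Away (algebraMap B C g)
  have hC' : Synt.IsSyntomic B C' := isSyntomic_away B hC (algebraMap B C g) C'
  let : Algebra (Localization.Away g) C' :=
    (IsLocalization.Away.map (Localization.Away g) C' (algebraMap B C) g).toAlgebra
  have : IsScalarTower B (Localization.Away g) C' := .of_algebraMap_eq fun x => by
    rw [IsScalarTower.algebraMap_apply B C C']
    simp [RingHom.algebraMap_toAlgebra, IsLocalization.Away.map, C']
  have hC'' : Synt.IsSyntomic (Localization.Away g) C' :=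
    isSyntomic_of_localization_base B (Localization.Away g) C' (Submonoid.powers g) hC'
  have : IsScalarTower A (Localization.Away g) C' := .of_algebraMap_eq fun x => by
    rw [IsScalarTower.algebraMap_apply A B (Localization.Away g), ← IsScalarTower.algebraMap_apply B (Localization.Away g) C',
      ← IsScalarTower.algebraMap_apply A B C']
  refine isSyntomic_of_span A {h : C' | ∃ (m d : ℕ) (G : Fin d → MvPolynomial (Fin m) (Localization.Away g)),
    Synt.IsRelGCI (Localization.Away g) m d G ∧
      Nonempty (Localization.Away h ≃ₐ[Localization.Away g] Synt.RelGCIRing (Localization.Away g) m d G)} ?_ ?_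
  · by_contra hne
    obtain ⟨M, hM, hle⟩ := Ideal.exists_le_maximal _ hne
    obtain ⟨h, hh, m, d, G, hG, -, hE⟩ := exists_relGCI_nhd_of_isSyntomic hC'' M
    exact hh (hle (Ideal.subset_span ⟨m, d, G, hG, hE⟩))
  · rintro h ⟨m, d, G, hG, ⟨EC⟩⟩
    obtain ⟨H, hH, ⟨e⟩⟩ := exists_relGCI_comp hF E hG EC
    exact isSyntomic_congr A e.symm (isSyntomic_relGCI hH)

end Groth.Agent.SyntLCI
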