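import Groth.Agent.SyntLCI.Mor
import Mathlib.AlgebraicGeometry.Fiber

/-!
# Fibres of syntomic morphisms on affine charts
-/

set_option autoImplicit false

universe u

open AlgebraicGeometry CategoryTheory CategoryTheory.Limits

namespace Groth.Agent.SyntLCI

theorem isLCIOver_of_isSyntomic_field (k T : Type u) [Field k] [CommRing T] [Algebra k T]
    (h : Synt.IsSyntomic k T) : Synt.IsLCIOver k T :=
  (isLCIOver_iff_isLCI k T).2 ((isSyntomic_iff k T).1 h).2

variable {X Y : Scheme.{u}} (f : X ⟶ Y) {U : Y.Opens} (hU : IsAffineOpen U) {V : X.Opens} (hV : IsAffineOpen V)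
  (hVU : V ≤ f ⁻¹ᵁ U) (p : PrimeSpectrum Γ(Y, U))

include hV

/-- A local property of the fibre at a point gives the ring property of the affine chart of the fibre. -/
theorem fibre_chart (P : MorphismProperty Scheme.{u}) {Q : ∀ {R S : Type u} [CommRing R] [CommRing S], (R →+* S) → Prop}
    [HasRingHomProperty P Q] (h : P (f.fiberToSpecResidueField (hU.fromSpec p))) :
    letI := (f.appLE U V hVU).hom.toAlgebra
    Q (algebraMap p.asIdeal.ResidueField (p.asIdeal.Fiber Γ(X, V))) := by
  let := (f.appLE U V hVU).hom.toAlgebra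
  let g : Spec Γ(X, V) ⟶ Spec Γ(Y, U) := Spec.map (f.appLE U V hVU)
  have hsq : g ≫ hU.fromSpec = hV.fromSpec ≫ f := IsAffineOpen.SpecMap_appLE_fromSpec f hU hV hVU
  let ι' : Spec ((Spec Γ(Y, U)).residueField p) ⟶ Spec (Y.residueField (hU.fromSpec p)) :=
    Spec.map (hU.fromSpec.residueFieldMap p)
  have hι' : ι' ≫ Y.fromSpecResidueField (hU.fromSpec p) =
      (Spec Γ(Y, U)).fromSpecResidueField p ≫ hU.fromSpec := by simp [ι']
  let F : g.fiber p ⟶ f.fiber (hU.fromSpec p) :=
    pullback.map g ((Spec Γ(Y, U)).fromSpecResidueField p) f (Y.fromSpecResidueField (hU.fromSpec p))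
      hV.fromSpec ι' hU.fromSpec hsq hι'.symm
  have : IsOpenImmersion F := inferInstanceAs (IsOpenImmersion (pullback.map ..))
  have e : F ≫ f.fiberToSpecResidueField (hU.fromSpec p) = g.fiberToSpecResidueField p ≫ ι' :=
    pullback.lift_snd _ _ _
  have h1 : P (g.fiberToSpecResidueField p) := by
    rw [← MorphismProperty.cancel_right_of_respectsIso P _ ι', ← e]
    exact IsZariskiLocalAtSource.comp h F
  rwa [← CommRingCat.hom_ofHom (algebraMap p.asIdeal.ResidueField (p.asIdeal.Fiber Γ(X, V))),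
    ← HasRingHomProperty.Spec_iff (P := P), ← MorphismProperty.arrow_mk_iso_iff (P := P)
    (Spec.fiberToSpecResidueFieldIso Γ(Y, U) Γ(X, V) p)]

theorem isLCIOver_fibre_chart (h : Synt.IsSyntomicMor (f.fiberToSpecResidueField (hU.fromSpec p))) :
    letI := (f.appLE U V hVU).hom.toAlgebra
    Synt.IsLCIOver p.asIdeal.ResidueField (p.asIdeal.Fiber Γ(X, V)) :=
  let := (f.appLE U V hVU).hom.toAlgebra
  isLCIOver_of_isSyntomic_field _ _ ((syn_algebraMap _ _).1
    (fibre_chart f hU hV hVU p synMor ((isSyntomicMor_iff _).1 h)))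

end Groth.Agent.SyntLCI
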