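import Groth.Agent.SyntLCI.Pres
import Groth.Agent.FlatLocalDepth.Comp
import Groth.Agent.NLAmp.Main

/-!
# Local complete intersections over a field
-/

set_option autoImplicit false

noncomputable section

universe u

open IsLocalRing RingTheory.Sequence MvPolynomial

namespace Groth.Agent.SyntLCI

variable {k : Type u} [Field k] {T : Type u} [CommRing T] [Algebra k T]

theorem exists_pres (k T : Type u) [Field k] [CommRing T] [Algebra k T] [h : Algebra.FiniteType k T] :
    ∃ (n : ℕ) (φ : MvPolynomial (Fin n) k →ₐ[k] T), Function.Surjective φ :=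
  Algebra.FiniteType.iff_quotient_mvPolynomial''.1 h

theorem isCIOver_all_iff_isKoszulRegularIdeal {n : ℕ} (φ : MvPolynomial (Fin n) k →ₐ[k] T) (hφ : Function.Surjective φ) :
    (∀ p : PrimeSpectrum T, Synt.IsCIOver k (Localization.AtPrime p.asIdeal)) ↔
      LCI.IsKoszulRegularIdeal (RingHom.ker φ.toRingHom) := by
  constructor
  · intro h
    refine isKoszulRegularIdeal_of_ci _ fun m _ hm => ?_
    have : (m.map φ.toRingHom).IsPrime := Ideal.map_isPrime_of_surjective hφ hm
    have hq : (m.map φ.toRingHom).comap φ.toRingHom = m := by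
      refine (Ideal.comap_map_of_surjective φ.toRingHom hφ m).trans ?_
      rw [← RingHom.ker_eq_comap_bot]
      exact sup_eq_left.2 hm
    have h1 := (isCIOver_atPrime_iff φ hφ _).1 (h ⟨_, this⟩)
    have key : ∀ (q : Ideal (MvPolynomial (Fin n) k)) [q.IsPrime], q = m →
        IsCIIdeal ((RingHom.ker φ.toRingHom).map (algebraMap (MvPolynomial (Fin n) k) (Localization.AtPrime q))) →
        IsCIIdeal ((RingHom.ker φ.toRingHom).map (algebraMap (MvPolynomial (Fin n) k) (Localization.AtPrime m))) := by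
      rintro q _ rfl h; exact h
    exact key _ hq h1
  · intro h p
    have hIq : RingHom.ker φ.toRingHom ≤ p.asIdeal.comap φ.toRingHom := Ideal.comap_mono bot_le
    exact (isCIOver_atPrime_iff φ hφ p.asIdeal).2 ((fibReg_iff _ _ hIq).1
      ((isKoszulRegularIdeal_iff_fibReg _ (IsNoetherian.noetherian _)).1 h _ hIq))

theorem isLCI_iff (k T : Type u) [Field k] [CommRing T] [Algebra k T] :
    LCI.IsLCI k T ↔ Algebra.FiniteType k T ∧ ∀ p : PrimeSpectrum T, Synt.IsCIOver k (Localization.AtPrime p.asIdeal) := by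
  constructor
  · rintro ⟨hft, n, φ, hφ, h⟩
    exact ⟨hft, (isCIOver_all_iff_isKoszulRegularIdeal φ hφ).2 h⟩
  · rintro ⟨hft, h⟩
    obtain ⟨n, φ, hφ⟩ := exists_pres k T
    exact ⟨hft, n, φ, hφ, (isCIOver_all_iff_isKoszulRegularIdeal φ hφ).1 h⟩

/-- All local rings of a global complete intersection are complete intersections. -/
theorem isCIOver_of_isGlobalCI (h : Synt.IsGlobalCI k T) (p : Ideal T) [p.IsPrime] :
    Synt.IsCIOver k (Localization.AtPrime p) := by
  obtain h | ⟨n, c, hcn, φ, r, hφ, hr, hdim⟩ := h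
  · exact absurd (Subsingleton.elim p ⊤) (Ideal.IsPrime.ne_top ‹_›)
  · refine (isCIOver_all_iff_isKoszulRegularIdeal φ hφ).2 (isKoszulRegularIdeal_of_ci _ fun m _ hm => ?_) ⟨p, ‹_›⟩
    refine isCIIdeal_of_dim_maximal φ r hr.symm hφ ?_ m hm
    rw [hdim]
    exact_mod_cast (Nat.sub_add_cancel hcn).le

theorem isCIOver_localRing_congr {L : Type u} [CommRing L] [Algebra T L] [Algebra k L] [IsScalarTower k T L] (M : Submonoid T)
    [IsLocalization M L] (Q : Ideal L) [Q.IsPrime] (p : Ideal T) [p.IsPrime] (hp : Q.comap (algebraMap T L) = p) :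
    Synt.IsCIOver k (Localization.AtPrime Q) ↔ Synt.IsCIOver k (Localization.AtPrime p) := by
  subst hp
  have := IsLocalization.isLocalization_isLocalization_atPrime_isLocalization M (Localization.AtPrime Q) Q
  have e : Localization.AtPrime Q ≃ₐ[k] Localization.AtPrime (Q.comap (algebraMap T L)) :=
    (IsLocalization.algEquiv (Q.comap (algebraMap T L)).primeCompl (Localization.AtPrime Q)
      (Localization.AtPrime (Q.comap (algebraMap T L)))).restrictScalars k
  exact ⟨isCIOver_congr e, isCIOver_congr e.symm⟩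

theorem isCIOver_atPrime_iff_exists (k T : Type u) [Field k] [CommRing T] [Algebra k T] [Algebra.FiniteType k T]
    (p : Ideal T) [p.IsPrime] :
    Synt.IsCIOver k (Localization.AtPrime p) ↔ ∃ g : T, g ∉ p ∧ Synt.IsGlobalCI k (Localization.Away g) := by
  constructor
  · obtain ⟨n, φ, hφ⟩ := exists_pres k T
    exact exists_isGlobalCI_away φ hφ p
  · rintro ⟨g, hg, hci⟩
    have hd : Disjoint (Submonoid.powers g : Set T) (p : Set T) :=
      (Ideal.disjoint_powers_iff_notMem g (Ideal.IsPrime.isRadical ‹_›)).2 hg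
    have : (p.map (algebraMap T (Localization.Away g))).IsPrime :=
      IsLocalization.isPrime_of_isPrime_disjoint _ _ _ ‹_› hd
    exact (isCIOver_localRing_congr (Submonoid.powers g) _ p
      (IsLocalization.comap_map_of_isPrime_disjoint _ _ (hI := ‹_›) hd)).1 (isCIOver_of_isGlobalCI hci _)

theorem isLCIOver_iff_atPrime (k T : Type u) [Field k] [CommRing T] [Algebra k T] :
    Synt.IsLCIOver k T ↔ Algebra.FiniteType k T ∧ ∀ p : PrimeSpectrum T, Synt.IsCIOver k (Localization.AtPrime p.asIdeal) := by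
  constructor
  · rintro ⟨hft, h⟩
    exact ⟨hft, fun p => (isCIOver_atPrime_iff_exists k T p.asIdeal).2 (h p)⟩
  · rintro ⟨hft, h⟩
    exact ⟨hft, fun p => (isCIOver_atPrime_iff_exists k T p.asIdeal).1 (h p)⟩

theorem isLCIOver_iff_atMaximal (k T : Type u) [Field k] [CommRing T] [Algebra k T] [hft : Algebra.FiniteType k T] :
    Synt.IsLCIOver k T ↔ ∀ m : MaximalSpectrum T, Synt.IsCIOver k (Localization.AtPrime m.asIdeal) := by
  refine ⟨fun h m => ((isLCIOver_iff_atPrime k T).1 h).2 ⟨m.asIdeal, inferInstance⟩, fun h => ⟨hft, fun p => ?_⟩⟩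
  obtain ⟨m, hm, hpm⟩ := Ideal.exists_le_maximal p.asIdeal p.isPrime.ne_top
  obtain ⟨g, hg, hci⟩ := (isCIOver_atPrime_iff_exists k T m).1 (h ⟨m, hm⟩)
  exact ⟨g, fun hgp => hg (hpm hgp), hci⟩

/-- Local complete intersections over a field are the local complete intersection ring maps. -/
theorem isLCIOver_iff_isLCI (k T : Type u) [Field k] [CommRing T] [Algebra k T] :
    Synt.IsLCIOver k T ↔ LCI.IsLCI k T := by
  rw [isLCIOver_iff_atPrime, isLCI_iff]

theorem isCIOver_of_isLCIOver (h : Synt.IsLCIOver k T) (p : Ideal T) [p.IsPrime] :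
    Synt.IsCIOver k (Localization.AtPrime p) :=
  ((isLCIOver_iff_atPrime k T).1 h).2 ⟨p, ‹_›⟩

/-- Basic opens of local complete intersections. -/
theorem isLCIOver_away (h : Synt.IsLCIOver k T) (g : T) (L : Type u) [CommRing L] [Algebra T L] [Algebra k L]
    [IsScalarTower k T L] [IsLocalization.Away g L] : Synt.IsLCIOver k L := by
  have := h.1
  have : Algebra.FinitePresentation T L := IsLocalization.Away.finitePresentation g
  have : Algebra.FiniteType k L := Algebra.FiniteType.trans (S := T) h.1 inferInstance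
  exact (isLCIOver_iff_atPrime k L).2 ⟨this, fun Q =>
    (isCIOver_localRing_congr (Submonoid.powers g) Q.asIdeal _ rfl).2 (isCIOver_of_isLCIOver h _)⟩

theorem isGlobalCI_away_of_isGlobalCI (h : Synt.IsGlobalCI k T) (g : T) :
    Synt.IsGlobalCI k (Localization.Away g) := by
  obtain h | ⟨n, c, hcn, φ, r, hφ, hr, hdim⟩ := h
  · exact Or.inl ((IsLocalization.subsingleton (M := Submonoid.powers g) (Subsingleton.elim (1 : T) 0 ▸ ⟨1, pow_one g |>.trans (Subsingleton.elim _ _)⟩)))
  obtain ⟨g, rfl⟩ := hφ g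
  refine isGlobalCI_away φ hφ g (fun i => algebraMap (MvPolynomial (Fin n) k) _ (r i)) ?_ ?_
  · rw [hr, Ideal.map_span, ← Set.range_comp]
    rfl
  · have : IsLocalization ((Submonoid.powers g).map φ.toRingHom) (Localization.Away (φ g)) := by
      rw [Submonoid.map_powers]
      exact inferInstanceAs (IsLocalization (Submonoid.powers (φ g)) _)
    obtain ⟨π, hπ, -, hker⟩ := exists_localizationMap φ hφ (Submonoid.powers g) (Localization.Away g) (Localization.Away (φ g))
    have e : (Localization.Away g ⧸ Ideal.span (Set.range fun i => algebraMap (MvPolynomial (Fin n) k) (Localization.Away g) (r i))) ≃+*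
        Localization.Away (φ g) :=
      (Ideal.quotEquivOfEq (by rw [hker, hr, Ideal.map_span, ← Set.range_comp]; rfl)).trans
        (RingHom.quotientKerEquivOfSurjective hπ)
    rw [ringKrullDim_eq_of_ringEquiv e]
    refine (add_le_add (ringKrullDim_localization_le (Submonoid.powers (φ g)) _) le_rfl).trans ?_
    rw [hdim]
    exact_mod_cast (Nat.sub_add_cancel hcn).le

/-- Complete intersection local rings are Cohen–Macaulay. -/
theorem isCohenMacaulayLocalRing_of_isCIOver {S : Type u} [CommRing S] [Algebra k S] [IsLocalRing S]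
    (h : Synt.IsCIOver k S) : LocCoh.IsCohenMacaulayLocalRing S := by
  obtain ⟨R, _, _, _, _, rs, hmem, hreg, ⟨e⟩⟩ := h
  have : LocCoh.IsCohenMacaulayLocalRing R := LocCohBasic.isCohenMacaulayLocalRing_of_isRegularLocalRing
  have hne : Ideal.ofList rs ≠ ⊤ := fun h => (maximalIdeal.isMaximal R).ne_top
    (top_le_iff.1 (h ▸ Ideal.span_le.2 hmem))
  have : IsLocalRing (R ⧸ Ideal.ofList rs) := isLocalRing_quotient hne
  have h1 := (CMAux.quot_ofList rs R Depth.isCohenMacaulayModule_self hmem hreg.toIsWeaklyRegular).1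
  let l : (R ⧸ (Ideal.ofList rs • ⊤ : Submodule R R)) ≃ₗ[R] R ⧸ Ideal.ofList rs :=
    Submodule.quotEquivOfEq _ _ (by rw [smul_eq_mul, Ideal.mul_top])
  rw [LocCoh.IsCohenMacaulayModule, Module.supportDim_eq_of_equiv l, Depth.depth_congr l,
    Module.supportDim_quotient_eq_ringKrullDim,
    ← Depth.depth_eq_of_surjective (R := R) (S := R ⧸ Ideal.ofList rs) (M := R ⧸ Ideal.ofList rs)
      Ideal.Quotient.mk_surjective] at h1
  have : LocCoh.IsCohenMacaulayLocalRing (R ⧸ Ideal.ofList rs) := Depth.isCohenMacaulayLocalRing_iff.2 h1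
  exact FlatLocalDepth.isCohenMacaulayLocalRing_of_ringEquiv e.symm.toRingEquiv

theorem isCohenMacaulayRing_of_isLCIOver (h : Synt.IsLCIOver k T) : LocCoh.IsCohenMacaulayRing T := by
  have := h.1
  have : IsNoetherianRing T := Algebra.FiniteType.isNoetherianRing k T
  exact ⟨fun p _ => isCohenMacaulayLocalRing_of_isCIOver (isCIOver_of_isLCIOver h p)⟩

end Groth.Agent.SyntLCI
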