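import Groth.Agent.SyntLCI.Nhd

/-!
# The local criterion for syntomic neighbourhoods
-/

set_option autoImplicit false

noncomputable section

universe u

open TensorProduct

namespace Groth.Agent.SyntLCI

variable {R : Type u} [CommRing R] {S : Type u} [CommRing S] [Algebra R S]

/-- A point of a fibre seen in the fibre of a basic open. -/
theorem exists_fibre_point_away (g : S) (L : Type u) [CommRing L] [Algebra S L] [Algebra R L] [IsScalarTower R S L]
    [IsLocalization.Away g L] (p : Ideal R) [p.IsPrime] (Q : Ideal (p.Fiber S)) [Q.IsPrime]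
    (hgQ : (1 : p.ResidueField) ⊗ₜ[R] g ∉ Q) :
    ∃ Q₁ : Ideal (p.Fiber L), ∃ _ : Q₁.IsPrime,
      (Q₁.comap (Algebra.TensorProduct.includeRight (R := R) (A := p.ResidueField) (B := L)).toRingHom).comap (algebraMap S L) =
        Q.comap (Algebra.TensorProduct.includeRight (R := R) (A := p.ResidueField) (B := S)).toRingHom ∧
      (Synt.IsCIOver p.ResidueField (Localization.AtPrime Q₁) ↔ Synt.IsCIOver p.ResidueField (Localization.AtPrime Q)) := by
  let T := Localization.Away ((1 : p.ResidueField) ⊗ₜ[R] g)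
  let e := IsLocalization.Away.tensorProductEquivTMulRight R p.ResidueField g L
  have hd : Disjoint ((Submonoid.powers ((1 : p.ResidueField) ⊗ₜ[R] g) : Submonoid (p.Fiber S)) : Set (p.Fiber S))
      (Q : Set (p.Fiber S)) :=
    (Ideal.disjoint_powers_iff_notMem _ (Ideal.IsPrime.isRadical ‹_›)).2 hgQ
  have : (Q.map (algebraMap (p.Fiber S) T)).IsPrime := IsLocalization.isPrime_of_isPrime_disjoint _ _ _ ‹_› hd
  have hQ := IsLocalization.under_map_of_isPrime_disjoint (Submonoid.powers ((1 : p.ResidueField) ⊗ₜ[R] g)) T ‹Q.IsPrime› hd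
  refine ⟨(Q.map (algebraMap (p.Fiber S) T)).comap e.toRingEquiv.toRingHom, Ideal.comap_isPrime _ _, ?_, ?_⟩
  · ext x
    simp only [Ideal.mem_comap]
    show e ((1 : p.ResidueField) ⊗ₜ[R] algebraMap S L x) ∈ Q.map (algebraMap (p.Fiber S) T) ↔ (1 : p.ResidueField) ⊗ₜ[R] x ∈ Q
    rw [IsLocalization.Away.tensorProductEquivTMulRight_tmul]
    conv_rhs => rw [← hQ]
    rfl
  · have e' := Localization.localAlgEquiv ((Q.map (algebraMap (p.Fiber S) T)).comap e.toRingEquiv.toRingHom)
      (Q.map (algebraMap (p.Fiber S) T)) e rfl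
    exact (⟨isCIOver_congr e', isCIOver_congr e'.symm⟩ : _ ↔ _).trans
      (isCIOver_localRing_congr (Submonoid.powers ((1 : p.ResidueField) ⊗ₜ[R] g)) _ Q hQ)

theorem isCIOver_of_syntomic_nhd (g : S) (h : Synt.IsSyntomic R (Localization.Away g)) (p : Ideal R) [p.IsPrime]
    (Q : Ideal (p.Fiber S)) [Q.IsPrime] (hgQ : (1 : p.ResidueField) ⊗ₜ[R] g ∉ Q) :
    Synt.IsCIOver p.ResidueField (Localization.AtPrime Q) := by
  obtain ⟨Q₁, _, -, hiff⟩ := exists_fibre_point_away g (Localization.Away g) p Q hgQ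
  exact hiff.1 (isCIOver_of_isLCIOver (h.2.2 ⟨p, ‹_›⟩) Q₁)

theorem fibReg_of_isCIOver {n : ℕ} (φ : MvPolynomial (Fin n) R →ₐ[R] S) (hφ : Function.Surjective φ) (p : Ideal R) [p.IsPrime]
    (Q : Ideal (p.Fiber S)) [Q.IsPrime] (h : Synt.IsCIOver p.ResidueField (Localization.AtPrime Q)) :
    FibReg (RingHom.ker φ.toRingHom)
      ((Q.comap (Algebra.TensorProduct.includeRight (R := R) (A := p.ResidueField) (B := S)).toRingHom).comap φ.toRingHom) := by
  obtain ⟨φp, hφp, hker, hcomp⟩ := exists_fibre_pres φ hφ p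
  let Q' := Q.comap φp.toRingHom
  have hle : (RingHom.ker φ.toRingHom).map (MvPolynomial.map (algebraMap R p.ResidueField)) ≤ Q' := by
    rw [← hker]; exact Ideal.comap_mono bot_le
  have h2 := (isCIOver_atPrime_iff φp hφp Q).1 h
  rw [hker] at h2
  have h1 := (fibReg_iff_isCIIdeal (RingHom.ker φ.toRingHom) p Q' hle).2 h2
  have heq : Q'.comap (MvPolynomial.map (algebraMap R p.ResidueField)) =
      (Q.comap (Algebra.TensorProduct.includeRight (R := R) (A := p.ResidueField) (B := S)).toRingHom).comap φ.toRingHom := by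
    ext x
    simp only [Q', Ideal.mem_comap]
    show φp (MvPolynomial.map (algebraMap R p.ResidueField) x) ∈ Q ↔ _
    rw [hcomp]
    rfl
  have key : ∀ (q q' : Ideal (MvPolynomial (Fin n) R)) [q.IsPrime] [q'.IsPrime], q = q' →
      FibReg (RingHom.ker φ.toRingHom) q → FibReg (RingHom.ker φ.toRingHom) q' := by
    rintro q q' _ _ rfl h'; exact h'
  exact key _ _ heq h1

theorem exists_syntomic_nhd_of_local (p : Ideal R) [p.IsPrime] (Q : Ideal (p.Fiber S)) [Q.IsPrime] (q : Ideal S) [q.IsPrime]
    (hQ : Q.comap (Algebra.TensorProduct.includeRight (R := R) (A := p.ResidueField) (B := S)).toRingHom = q)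
    (g : S) (hg : g ∉ q) [hfp : Algebra.FinitePresentation R (Localization.Away g)]
    [hflat : Module.Flat R (Localization.AtPrime q)] (hci : Synt.IsCIOver p.ResidueField (Localization.AtPrime Q)) :
    ∃ h : S, h ∉ q ∧ Synt.IsSyntomic R (Localization.Away h) := by
  let L := Localization.Away g
  have hgQ : (1 : p.ResidueField) ⊗ₜ[R] g ∉ Q := fun h => hg (hQ ▸ h)
  obtain ⟨Q₁, _, hQ₁, hiff⟩ := exists_fibre_point_away g L p Q hgQ
  rw [hQ] at hQ₁
  obtain ⟨n, φ, hφ, hfg⟩ := Algebra.FinitePresentation.out (R := R) (A := L)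
  let q₁ := Q₁.comap (Algebra.TensorProduct.includeRight (R := R) (A := p.ResidueField) (B := L)).toRingHom
  have : q₁.IsPrime := Ideal.comap_isPrime _ _
  have hloc := IsLocalization.isLocalization_isLocalization_atPrime_isLocalization (Submonoid.powers g)
    (Localization.AtPrime q₁) q₁
  have key : ∀ (q' : Ideal S) [q'.IsPrime] (M : Type u) [CommRing M] [Algebra S M], q' = q →
      IsLocalization.AtPrime M q' → IsLocalization q.primeCompl M := by
    rintro q' _ M _ _ rfl h; exact h
  have : IsLocalization q.primeCompl (Localization.AtPrime q₁) := key _ _ hQ₁ hloc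
  clear hloc key
  have hql : IsLocalization q.primeCompl (Localization.AtPrime q) := Localization.isLocalization
  have tower : IsScalarTower R S (Localization.AtPrime q₁) := .of_algebraMap_eq fun r => by
    rw [IsScalarTower.algebraMap_apply R L (Localization.AtPrime q₁), IsScalarTower.algebraMap_apply R S L,
      ← IsScalarTower.algebraMap_apply S L (Localization.AtPrime q₁)]
  let e₀ : Localization.AtPrime q₁ ≃ₐ[S] Localization.AtPrime q :=
    IsLocalization.algEquiv q.primeCompl (Localization.AtPrime q₁) (Localization.AtPrime q)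
  let e₁ : Localization.AtPrime q₁ ≃ₗ[R] Localization.AtPrime q :=
    LinearEquiv.restrictScalars R e₀.toLinearEquiv
  have : Module.Flat R (Localization.AtPrime q₁) := Module.Flat.of_linearEquiv e₁
  obtain ⟨g₁, hg₁, m, c, F, hF, -, ⟨e⟩⟩ := exists_relGCI_nhd φ hφ hfg q₁ (fibReg_of_isCIOver φ hφ p Q₁ (hiff.2 hci))
  obtain ⟨⟨h₀, s⟩, hs⟩ := IsLocalization.surj (Submonoid.powers g) g₁
  have hh₀ : g * h₀ ∉ q := by
    refine fun hmem => ((‹q.IsPrime›).mem_or_mem hmem).elim hg fun h => ?_
    rw [← hQ₁, Ideal.mem_comap, ← hs] at h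
    exact ((‹q₁.IsPrime›).mem_or_mem h).elim hg₁ fun h' =>
      ‹q₁.IsPrime›.ne_top (Ideal.eq_top_of_isUnit_mem _ h' (IsLocalization.map_units L s))
  refine ⟨g * h₀, hh₀, ?_⟩
  have hsyn : Synt.IsSyntomic R (Localization.Away g₁) := isRelGCI_congr hF e.symm
  have : IsLocalization.Away (algebraMap S L h₀) (Localization.Away g₁) := by
    rw [← hs]
    exact IsLocalization.Away.of_associated (Associated.symm (associated_mul_unit_left _ _ (IsLocalization.map_units L s)))
  have : IsLocalization.Away (g * h₀) (Localization.Away g₁) := IsLocalization.Away.mul' L (Localization.Away g₁) g h₀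
  exact isSyntomic_congr R ((IsLocalization.algEquiv (Submonoid.powers (g * h₀)) (Localization.Away g₁)
    (Localization.Away (g * h₀))).restrictScalars R) hsyn

end Groth.Agent.SyntLCI
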