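import Groth.Agent.SyntLCI.Gap
import Groth.Prelude.Def_RegImm

/-!
# Complete intersection local algebras over a field: independence of the presentation
-/

set_option autoImplicit false

noncomputable section

universe u

open IsLocalRing RingTheory.Sequence MvPolynomial

namespace Groth.Agent.SyntLCI

variable {k : Type u} [Field k]

instance regular_mvPolynomial_atPrime {n : ℕ} (q : Ideal (MvPolynomial (Fin n) k)) [q.IsPrime] :
    IsRegularLocalRing (Localization.AtPrime q) := inferInstance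

theorem isUnit_of_isUnit_map {R S : Type u} [CommRing R] [CommRing S] [IsLocalRing R] [IsLocalRing S]
    (π : R →+* S) (hπ : Function.Surjective π) {a : R} (ha : IsUnit (π a)) : IsUnit a := by
  by_contra h
  have h1 := Ideal.mem_map_of_mem π (show a ∈ maximalIdeal R from h)
  rw [IsLocalRing.map_maximalIdeal_of_surjective π hπ] at h1
  exact h1 ha

/-- Elements generating `R` up to units. -/
def GenUnits {N : ℕ} (R : Type u) [CommRing R] [Algebra k R] (f : Fin N → R) : Prop :=
  ∀ r : R, ∃ t ∈ (aeval (R := k) f).range, IsUnit t ∧ r * t ∈ (aeval (R := k) f).range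

theorem exists_genUnits (R : Type u) [CommRing R] [Algebra k R] [h : Algebra.EssFiniteType k R] :
    ∃ (N : ℕ) (f : Fin N → R), GenUnits (k := k) R f := by
  obtain ⟨σ, hσ⟩ := (Algebra.essFiniteType_iff k R).1 h
  refine ⟨σ.card, fun i => (σ.equivFin.symm i : R), fun r => ?_⟩
  have : (aeval (R := k) fun i => (σ.equivFin.symm i : R)).range = Algebra.adjoin k (σ : Set R) := by
    rw [← Algebra.adjoin_range_eq_range_aeval]
    congr 1
    ext x
    exact ⟨fun ⟨i, hi⟩ => hi ▸ (σ.equivFin.symm i).2, fun hx => ⟨σ.equivFin ⟨x, hx⟩, by simp⟩⟩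
  rw [this]
  exact hσ r

theorem GenUnits.mono {N N' : ℕ} {R : Type u} [CommRing R] [Algebra k R] {f : Fin N → R} {f' : Fin N' → R}
    (h : GenUnits (k := k) R f) (hsub : Set.range f ⊆ Set.range f') : GenUnits (k := k) R f' := by
  intro r
  obtain ⟨t, ht, hu, hrt⟩ := h r
  rw [← Algebra.adjoin_range_eq_range_aeval] at ht hrt ⊢
  exact ⟨t, Algebra.adjoin_mono hsub ht, hu, Algebra.adjoin_mono hsub hrt⟩

/-- A cover of `R` by a localisation of a polynomial ring. -/
theorem exists_cover {N : ℕ} {R S : Type u} [CommRing R] [CommRing S] [Algebra k R] [Algebra k S] [IsLocalRing R]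
    [IsLocalRing S] (π : R →ₐ[k] S) (hπ : Function.Surjective π) (f : Fin N → R) (hf : GenUnits (k := k) R f)
    (M : Ideal (MvPolynomial (Fin N) k)) [M.IsPrime] (hM : M = (maximalIdeal S).comap (π.comp (aeval f)).toRingHom) :
    ∃ ρ : Localization.AtPrime M →ₐ[k] R, Function.Surjective ρ ∧ ∀ p, ρ (algebraMap (MvPolynomial (Fin N) k) _ p) = aeval f p := by
  have hu : ∀ y : M.primeCompl, IsUnit ((aeval (R := k) f) y) := fun y => by
    refine isUnit_of_isUnit_map π.toRingHom hπ ?_
    by_contra h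
    exact y.2 ((SetLike.ext_iff.1 hM _).2 h)
  let ρ : Localization.AtPrime M →ₐ[k] R := IsLocalization.liftAlgHom (M := M.primeCompl) hu
  have hρ : ∀ p, ρ (algebraMap (MvPolynomial (Fin N) k) _ p) = aeval f p := fun p => by simp [ρ]
  refine ⟨ρ, fun r => ?_, hρ⟩
  obtain ⟨t, ⟨t', rfl⟩, htu, ⟨a, ha⟩⟩ := hf r
  have ht' : t' ∈ M.primeCompl := fun h =>
    ((SetLike.ext_iff.1 hM _).1 h : π ((aeval f) t') ∈ maximalIdeal S) (htu.map π)
  refine ⟨IsLocalization.mk' _ a ⟨t', ht'⟩, htu.mul_left_injective ?_⟩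
  have h1 := congrArg ρ (IsLocalization.mk'_spec (Localization.AtPrime M) a ⟨t', ht'⟩)
  rw [map_mul, hρ, hρ] at h1
  exact h1.trans ha

theorem isCIIdeal_ker_comp {R R' S : Type u} [CommRing R] [CommRing R'] [CommRing S] [Algebra k R] [Algebra k R']
    [Algebra k S] [IsRegularLocalRing R] [IsRegularLocalRing R'] [IsLocalRing S] (ρ : R →ₐ[k] R')
    (hρ : Function.Surjective ρ) (π : R' →ₐ[k] S) :
    IsCIIdeal (RingHom.ker (π.comp ρ).toRingHom) ↔ IsCIIdeal (RingHom.ker π.toRingHom) := by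
  have h1 : RingHom.ker (π.comp ρ).toRingHom = (RingHom.ker π.toRingHom).comap ρ.toRingHom :=
    (RingHom.comap_ker _ _).symm
  have h2 : (RingHom.ker (π.comp ρ).toRingHom).map ρ.toRingHom = RingHom.ker π.toRingHom := by
    rw [h1]; exact Ideal.map_comap_of_surjective _ hρ _
  rw [isCIIdeal_iff_map ρ.toRingHom hρ ?_ (RingHom.ker_ne_top _), h2]
  intro x hx
  rw [RingHom.mem_ker] at hx ⊢
  show π (ρ x) = 0
  rw [show ρ x = 0 from hx, map_zero]

/-- Independence of the presentation. -/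
theorem isCIIdeal_ker_iff {R R' S : Type u} [CommRing R] [CommRing R'] [CommRing S] [Algebra k R] [Algebra k R']
    [Algebra k S] [IsRegularLocalRing R] [IsRegularLocalRing R'] [IsLocalRing S] [Algebra.EssFiniteType k R]
    [Algebra.EssFiniteType k R'] (π : R →ₐ[k] S) (hπ : Function.Surjective π) (π' : R' →ₐ[k] S)
    (hπ' : Function.Surjective π') :
    IsCIIdeal (RingHom.ker π.toRingHom) ↔ IsCIIdeal (RingHom.ker π'.toRingHom) := by
  obtain ⟨N, f, hf⟩ := exists_genUnits (k := k) R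
  obtain ⟨N', f', hf'⟩ := exists_genUnits (k := k) R'
  choose g' hg' using fun j => hπ (π' (f' j))
  choose g hg using fun j => hπ' (π (f j))
  let F : Fin (N + N') → R := Fin.append f g'
  let F' : Fin (N + N') → R' := Fin.append g f'
  have heq : π.comp (aeval F) = π'.comp (aeval F') := by
    refine MvPolynomial.algHom_ext fun i => ?_
    induction i using Fin.addCases with
    | left i => simp [F, F', hg]
    | right i => simp [F, F', hg']
  let M : Ideal (MvPolynomial (Fin (N + N')) k) := (maximalIdeal S).comap (π.comp (aeval F)).toRingHom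
  have : M.IsPrime := Ideal.comap_isPrime _ _
  obtain ⟨ρ, hρ, hρx⟩ := exists_cover π hπ F
    (hf.mono (by rintro _ ⟨i, rfl⟩; exact ⟨Fin.castAdd N' i, Fin.append_left _ _ i⟩)) M rfl
  obtain ⟨ρ', hρ', hρx'⟩ := exists_cover π' hπ' F'
    (hf'.mono (by rintro _ ⟨i, rfl⟩; exact ⟨Fin.natAdd N i, Fin.append_right _ _ i⟩)) M (by rw [← heq])
  have hcomp : π.comp ρ = π'.comp ρ' := by
    refine AlgHom.coe_ringHom_injective (IsLocalization.ringHom_ext M.primeCompl (RingHom.ext fun p => ?_))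
    simp only [RingHom.comp_apply, RingHom.coe_coe, AlgHom.comp_apply, hρx, hρx']
    exact DFunLike.congr_fun heq p
  rw [← isCIIdeal_ker_comp ρ hρ π, ← isCIIdeal_ker_comp ρ' hρ' π', hcomp]

/-- The test on any presentation. -/
theorem isCIOver_iff {R S : Type u} [CommRing R] [CommRing S] [Algebra k R] [Algebra k S] [IsRegularLocalRing R]
    [IsLocalRing S] [Algebra.EssFiniteType k R] (π : R →ₐ[k] S) (hπ : Function.Surjective π) :
    Synt.IsCIOver k S ↔ IsCIIdeal (RingHom.ker π.toRingHom) := by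
  constructor
  · rintro ⟨R₀, _, _, _, _, rs, hmem, hreg, ⟨e⟩⟩
    let π₀ : R₀ →ₐ[k] S := e.symm.toAlgHom.comp (Ideal.Quotient.mkₐ k (Ideal.ofList rs))
    have hπ₀ : Function.Surjective π₀ := e.symm.surjective.comp Ideal.Quotient.mk_surjective
    refine (isCIIdeal_ker_iff π₀ hπ₀ π hπ).1 ⟨RingHom.ker_ne_top _, rs, ?_, hreg.toIsWeaklyRegular⟩
    ext x
    rw [RingHom.mem_ker]
    show x ∈ Ideal.ofList rs ↔ e.symm (Ideal.Quotient.mk _ x) = 0
    rw [map_eq_zero_iff _ e.symm.injective, Ideal.Quotient.eq_zero_iff_mem]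
  · rintro ⟨hne, l, hl, hreg⟩
    refine ⟨R, inferInstance, inferInstance, inferInstance, inferInstance, l, ?_, ⟨hreg, ?_⟩, ⟨?_⟩⟩
    · exact mem_maximal_of_ne_top (hl ▸ hne)
    · rw [smul_eq_mul, Ideal.mul_top, hl]
      exact hne.symm
    · exact (Ideal.quotientKerAlgEquivOfSurjective hπ).symm.trans (Ideal.quotientEquivAlgOfEq k hl.symm)

theorem isCIOver_congr {S S' : Type u} [CommRing S] [CommRing S'] [Algebra k S] [Algebra k S'] [IsLocalRing S]
    [IsLocalRing S'] (e : S ≃ₐ[k] S') (h : Synt.IsCIOver k S) : Synt.IsCIOver k S' := by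
  obtain ⟨R₀, i1, i2, i3, h4, rs, hmem, hreg, ⟨e₀⟩⟩ := h
  exact ⟨R₀, i1, i2, i3, h4, rs, hmem, hreg, ⟨e.symm.trans e₀⟩⟩

end Groth.Agent.SyntLCI
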