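import Groth.Agent.SyntLCI.Fibre
import Groth.Agent.SyntLCI.LocalCI
import Groth.Agent.SyntDim.Basic

/-!
# Presentations of finite type algebras over a field and complete intersection points
-/

set_option autoImplicit false

noncomputable section

universe u

open IsLocalRing RingTheory.Sequence MvPolynomial

namespace Groth.Agent.SyntLCI

section Map

variable {k : Type u} [CommRing k] {P T : Type u} [CommRing P] [CommRing T] [Algebra k P] [Algebra k T]

theorem exists_localizationMap (φ : P →ₐ[k] T) (hφ : Function.Surjective φ) (M : Submonoid P) (P' T' : Type u)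
    [CommRing P'] [Algebra P P'] [Algebra k P'] [IsScalarTower k P P'] [IsLocalization M P']
    [CommRing T'] [Algebra T T'] [Algebra k T'] [IsScalarTower k T T'] [IsLocalization (M.map φ.toRingHom) T'] :
    ∃ π : P' →ₐ[k] T', Function.Surjective π ∧ (∀ x, π (algebraMap P P' x) = algebraMap T T' (φ x)) ∧
      RingHom.ker π.toRingHom = (RingHom.ker φ.toRingHom).map (algebraMap P P') := by
  let f : P' →+* T' := IsLocalization.map T' φ.toRingHom M.le_comap_map
  have hf : ∀ x, f (algebraMap P P' x) = algebraMap T T' (φ x) := fun x => IsLocalization.map_eq _ x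
  refine ⟨⟨f, fun c => ?_⟩, IsLocalization.map_surjective_of_surjective _ _ _ hφ, hf,
    IsLocalization.ker_map T' φ.toRingHom rfl⟩
  show f (algebraMap k P' c) = _
  rw [IsScalarTower.algebraMap_apply k P P', hf, φ.commutes, ← IsScalarTower.algebraMap_apply k T T']

omit [Algebra k P] [Algebra k T] in
theorem map_primeCompl_comap (φ : P →+* T) (hφ : Function.Surjective φ) (q : Ideal T) [q.IsPrime] :
    (q.comap φ).primeCompl.map φ = q.primeCompl := by
  ext t
  constructor
  · rintro ⟨x, hx, rfl⟩; exact hx
  · intro ht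
    obtain ⟨x, rfl⟩ := hφ t
    exact ⟨x, ht, rfl⟩

theorem ringKrullDim_localization_le (M : Submonoid P) (P' : Type u) [CommRing P'] [Algebra P P'] [IsLocalization M P'] :
    ringKrullDim P' ≤ ringKrullDim P :=
  Order.krullDim_le_of_strictMono (PrimeSpectrum.comap (algebraMap P P'))
    (Monotone.strictMono_of_injective (fun _ _ h => Ideal.comap_mono h)
      (PrimeSpectrum.localization_comap_injective P' M))

theorem dim_add_length_le : ∀ (len : ℕ) (P : Type u) [CommRing P] (l : List P), l.length = len → IsWeaklyRegular P l →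
    ringKrullDim (P ⧸ Ideal.ofList l) + l.length ≤ ringKrullDim P := by
  intro len
  induction len with
  | zero =>
    intro P _ l hl _
    obtain rfl := List.length_eq_zero_iff.1 hl
    rw [List.length_nil, Nat.cast_zero, add_zero]
    exact ringKrullDim_le_of_surjective _ Ideal.Quotient.mk_surjective
  | succ len ih =>
    intro P _ l hl h
    match l, hl with
    | x :: rs, hl =>
    simp only [List.length_cons, Nat.add_right_cancel_iff] at hl
    rw [isWeaklyRegular_cons_iff] at h
    let e : QuotSMulTop x P ≃ₗ[P] P ⧸ Ideal.span {x} :=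
      Submodule.quotEquivOfEq _ _ (by rw [← Submodule.ideal_span_singleton_smul, smul_eq_mul, Ideal.mul_top])
    have h2 := h.2
    rw [e.isWeaklyRegular_congr, ← isWeaklyRegular_map_algebraMap_iff (P ⧸ Ideal.span {x})] at h2
    have h3 := ih (P ⧸ Ideal.span {x}) _ (by rw [List.length_map, hl]) h2
    rw [List.length_map, ← Ideal.map_ofList, Ideal.Quotient.algebraMap_eq,
      ringKrullDim_eq_of_ringEquiv (DoubleQuot.quotQuotEquivQuotSup _ _), ← Ideal.ofList_cons] at h3
    rw [List.length_cons, Nat.cast_add, Nat.cast_one, ← add_assoc]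
    refine (add_le_add h3 le_rfl).trans (ringKrullDim_quotient_succ_le_of_nonZeroDivisor ?_)
    rw [mem_nonZeroDivisors_iff_right]
    intro z hz
    exact h.1 (show x * z = x * 0 by rw [mul_comm, hz, mul_zero])

end Map

variable {k : Type u} [Field k] {T : Type u} [CommRing T] [Algebra k T] {n : ℕ}

local notation "P" => MvPolynomial (Fin n) k

theorem fibIdeal_eq_bot (q : Ideal P) [q.IsPrime] : fibIdeal q = ⊥ := by
  rcases Ideal.eq_bot_or_top (q.comap (algebraMap k P)) with h | h
  · rw [fibIdeal, h, Ideal.map_bot]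
  · exact absurd h (Ideal.comap_ne_top _ Ideal.IsPrime.ne_top')

theorem isWeaklyRegular_quot_bot {R : Type u} [CommRing R] {J : Ideal R} (hJ : J = ⊥) (l : List R) :
    IsWeaklyRegular (R ⧸ J) (l.map (Ideal.Quotient.mk J)) ↔ IsWeaklyRegular R l := by
  rw [← Ideal.Quotient.algebraMap_eq, isWeaklyRegular_map_algebraMap_iff]
  exact (Submodule.quotEquivOfEqBot J hJ).isWeaklyRegular_congr l

theorem map_le_maximal {I q : Ideal P} [q.IsPrime] (hIq : I ≤ q) :
    I.map (algebraMap P (Localization.AtPrime q)) ≤ maximalIdeal (Localization.AtPrime q) :=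
  Ideal.map_le_iff_le_comap.mpr fun a ha => by
    rw [Ideal.mem_comap, IsLocalization.AtPrime.to_map_mem_maximal_iff (Localization.AtPrime q) q a]
    exact hIq ha

theorem fibReg_iff (I q : Ideal P) [q.IsPrime] (hIq : I ≤ q) :
    FibReg I q ↔ IsCIIdeal (I.map (algebraMap P (Localization.AtPrime q))) := by
  constructor
  · rintro ⟨r, y, hy, hle, hreg⟩
    rw [fibIdeal_eq_bot, sup_bot_eq] at hle
    refine ⟨fun h => (maximalIdeal.isMaximal _).ne_top (top_le_iff.1 (h ▸ map_le_maximal hIq)), List.ofFn y, ?_, ?_⟩
    · rw [ofList_ofFn']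
      exact le_antisymm (Ideal.span_le.2 (Set.range_subset_iff.2 hy)) hle
    · refine (isWeaklyRegular_quot_bot (fibIdeal_eq_bot q) _).1 ?_
      rw [List.map_ofFn]
      exact hreg
  · rintro ⟨-, l, hl, hreg⟩
    refine ⟨l.length, l.get, fun i => hl.le (Ideal.subset_span (List.get_mem l i)), ?_, ?_⟩
    · rw [← ofList_ofFn', List.ofFn_get, hl]
      exact le_sup_left
    · have h := (isWeaklyRegular_quot_bot (fibIdeal_eq_bot q) _).2 hreg
      rw [← List.ofFn_get l, List.map_ofFn] at h
      exact h

variable (φ : MvPolynomial (Fin n) k →ₐ[k] T) (hφ : Function.Surjective φ)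

include hφ in
/-- Complete intersection points on a presentation. -/
theorem isCIOver_atPrime_iff (q : Ideal T) [q.IsPrime] :
    Synt.IsCIOver k (Localization.AtPrime q) ↔
      IsCIIdeal ((RingHom.ker φ.toRingHom).map (algebraMap P (Localization.AtPrime (q.comap φ.toRingHom)))) := by
  have : IsLocalization ((q.comap φ.toRingHom).primeCompl.map φ.toRingHom) (Localization.AtPrime q) := by
    rw [map_primeCompl_comap φ.toRingHom hφ q]
    infer_instance
  obtain ⟨π, hπ, -, hker⟩ := exists_localizationMap φ hφ (q.comap φ.toRingHom).primeCompl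
    (Localization.AtPrime (q.comap φ.toRingHom)) (Localization.AtPrime q)
  have : Algebra.EssFiniteType k (Localization.AtPrime (q.comap φ.toRingHom)) :=
    have := Algebra.EssFiniteType.of_isLocalization (Localization.AtPrime (q.comap φ.toRingHom)) (q.comap φ.toRingHom).primeCompl
    Algebra.EssFiniteType.comp k P _
  rw [isCIOver_iff π hπ, hker]

/-- The dimension criterion gives complete intersection points. -/
theorem isCIIdeal_of_dim_maximal {c : ℕ} (r : Fin c → P) (hr : Ideal.span (Set.range r) = RingHom.ker φ.toRingHom)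
    (hφ : Function.Surjective φ) (hc : ringKrullDim T + c ≤ n) (m : Ideal P) [m.IsMaximal]
    (hm : RingHom.ker φ.toRingHom ≤ m) :
    IsCIIdeal ((RingHom.ker φ.toRingHom).map (algebraMap P (Localization.AtPrime m))) := by
  set I := RingHom.ker φ.toRingHom with hI
  have hd : ringKrullDim (Localization.AtPrime m) = n := by
    rw [IsLocalization.AtPrime.ringKrullDim_eq_height m, Groth.Agent.DimTheory.height_maximal_mvPolynomial k n m]
    rfl
  have hne : I.map (algebraMap P (Localization.AtPrime m)) ≠ ⊤ := fun h =>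
    (maximalIdeal.isMaximal _).ne_top (top_le_iff.1 (h ▸ map_le_maximal hm))
  obtain ⟨e, he⟩ := exists_dim_quotient hne
  refine (isCIIdeal_iff_dim hne hd he).2 ⟨c, fun i => algebraMap P _ (r i), ?_, ?_⟩
  · rw [← hr, Ideal.map_span, ← Set.range_comp]
    rfl
  · let q : Ideal T := m.map φ.toRingHom
    have : q.IsPrime := Ideal.map_isPrime_of_surjective hφ hm
    have hq : q.comap φ.toRingHom = m := by
      show (m.map φ.toRingHom).comap φ.toRingHom = m
      refine (Ideal.comap_map_of_surjective φ.toRingHom hφ m).trans ?_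
      rw [← RingHom.ker_eq_comap_bot]
      exact sup_eq_left.2 hm
    obtain ⟨e'⟩ := NLAmp.nonempty_localization_quotient m φ.toRingHom hφ q hq
    have h1 : (e : WithBot ℕ∞) ≤ ringKrullDim T := by
      rw [← he, ringKrullDim_eq_of_ringEquiv e']
      exact ringKrullDim_localization_le q.primeCompl _
    have := (add_le_add h1 (le_refl (c : WithBot ℕ∞))).trans hc
    exact_mod_cast this

theorem isKoszulRegularIdeal_of_ci (I : Ideal P) (h : ∀ (m : Ideal P) [m.IsMaximal], I ≤ m →
      IsCIIdeal (I.map (algebraMap P (Localization.AtPrime m)))) :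
    LCI.IsKoszulRegularIdeal I := by
  rintro ⟨q, hq⟩ hIq
  obtain ⟨m, hm, hqm⟩ := Ideal.exists_le_maximal q hq.ne_top
  obtain ⟨r, y, hy, hle, hreg⟩ := (fibReg_iff I m ((show I ≤ q from hIq).trans hqm)).2 (h m ((show I ≤ q from hIq).trans hqm))
  obtain ⟨g, hg, a, -, hreg', hspan⟩ := NLAmp.exists_koszulRegular_nhd I (IsNoetherian.noetherian I) m y
    (span_eq_of_fibre I (IsNoetherian.noetherian I) m y hy hle) hreg
  exact ⟨g, fun h' => hg (hqm h'), _, KoszulExt.isKoszulRegularSeq_of_isWeaklyRegular hreg', hspan⟩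

/-- `k[x, z] → k[x][1/g]`. -/
theorem exists_presentation_away (g : P) :
    ∃ Φ : MvPolynomial (Fin (n + 1)) k →ₐ[k] Localization.Away g, Function.Surjective Φ ∧
      ∃ w, RingHom.ker Φ.toRingHom = Ideal.span {w} := by
  let W : Polynomial P := Polynomial.C g * Polynomial.X - 1
  let e := (Localization.awayEquivAdjoin g).symm
  let Φ : MvPolynomial (Fin (n + 1)) k →ₐ[k] Localization.Away g :=
    ((e.toAlgHom.restrictScalars k).comp ((AdjoinRoot.mkₐ W).restrictScalars k)).comp
      (MvPolynomial.finSuccEquiv k n).toAlgHom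
  refine ⟨Φ, e.surjective.comp ((AdjoinRoot.mk_surjective (g := W)).comp (MvPolynomial.finSuccEquiv k n).surjective),
    (MvPolynomial.finSuccEquiv k n).symm W, ?_⟩
  ext x
  rw [RingHom.mem_ker]
  show e (AdjoinRoot.mk W (MvPolynomial.finSuccEquiv k n x)) = 0 ↔ _
  rw [map_eq_zero_iff _ e.injective, AdjoinRoot.mk_eq_zero, Ideal.mem_span_singleton]
  constructor
  · intro hd
    have := map_dvd (MvPolynomial.finSuccEquiv k n).symm hd
    rwa [AlgEquiv.symm_apply_apply] at this
  · intro hd
    have := map_dvd (MvPolynomial.finSuccEquiv k n) hd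
    rwa [AlgEquiv.apply_symm_apply] at this

include hφ in
/-- A basic open of a finite type algebra is a global complete intersection once it is cut out by few equations. -/
theorem isGlobalCI_away (g : P) {c : ℕ} (a : Fin c → Localization.Away g)
    (ha : (RingHom.ker φ.toRingHom).map (algebraMap P (Localization.Away g)) = Ideal.span (Set.range a))
    (hdim : ringKrullDim (Localization.Away g ⧸ Ideal.span (Set.range a)) + c ≤ n) :
    Synt.IsGlobalCI k (Localization.Away (φ g)) := by
  rcases subsingleton_or_nontrivial (Localization.Away (φ g)) with hs | hs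
  · exact Or.inl hs
  right
  have : IsLocalization ((Submonoid.powers g).map φ.toRingHom) (Localization.Away (φ g)) := by
    rw [Submonoid.map_powers]
    exact inferInstanceAs (IsLocalization (Submonoid.powers (φ g)) _)
  obtain ⟨π, hπ, -, hker⟩ := exists_localizationMap φ hφ (Submonoid.powers g) (Localization.Away g) (Localization.Away (φ g))
  obtain ⟨Φ, hΦ, w, hw⟩ := exists_presentation_away g
  choose b hb using fun i => hΦ (a i)
  have hker' : RingHom.ker (π.comp Φ).toRingHom = Ideal.span (Set.range (Fin.cons w b : Fin (c + 1) → _)) := by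
    rw [show RingHom.ker (π.comp Φ).toRingHom = (RingHom.ker π.toRingHom).comap Φ.toRingHom from
      (RingHom.comap_ker _ _).symm, hker, ha, show a = Φ ∘ b from funext fun i => (hb i).symm, Set.range_comp,
      show (Φ : _ → _) '' Set.range b = Φ.toRingHom '' Set.range b from rfl, ← Ideal.map_span,
      Ideal.comap_map_of_surjective Φ.toRingHom hΦ, ← RingHom.ker_eq_comap_bot, hw, Fin.range_cons, Ideal.span_insert, sup_comm]
  have e : (Localization.Away g ⧸ Ideal.span (Set.range a)) ≃+* Localization.Away (φ g) :=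
    (Ideal.quotEquivOfEq (by rw [← ha, ← hker])).trans (RingHom.quotientKerEquivOfSurjective hπ)
  rw [ringKrullDim_eq_of_ringEquiv e] at hdim
  have e' := RingHom.quotientKerEquivOfSurjective (f := (π.comp Φ).toRingHom) (hπ.comp hΦ)
  have hne : Nontrivial (MvPolynomial (Fin (n + 1)) k ⧸ Ideal.span (Set.range (Fin.cons w b : Fin (c + 1) → _))) :=
    ((Ideal.quotEquivOfEq hker'.symm).trans e').toEquiv.nontrivial
  have hge := SyntDim.le_ringKrullDim_quotient (Fin.cons w b : Fin (c + 1) → MvPolynomial (Fin (n + 1)) k)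
  rw [ringKrullDim_eq_of_ringEquiv ((Ideal.quotEquivOfEq hker'.symm).trans e')] at hge
  obtain ⟨d, hd⟩ : ∃ d : ℕ, ringKrullDim (Localization.Away (φ g)) = d := by
    have h0 : ringKrullDim (Localization.Away (φ g)) ≠ ⊥ := ne_bot_of_le_ne_bot (by simp) ringKrullDim_nonneg_of_nontrivial
    generalize ringKrullDim (Localization.Away (φ g)) = x at hdim h0
    induction x with
    | bot => exact absurd rfl h0
    | coe x =>
      induction x with
      | top =>
        have h1 : ((⊤ : ℕ∞) : WithBot ℕ∞) + c = ((⊤ : ℕ∞) : WithBot ℕ∞) := by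
          rw [show ((c : ℕ) : WithBot ℕ∞) = ((c : ℕ∞) : WithBot ℕ∞) from rfl, ← WithBot.coe_add, top_add]
        rw [h1] at hdim
        exact absurd (WithBot.coe_le_coe.1 hdim) (not_le.2 (ENat.natCast_lt_top n))
      | coe x => exact ⟨x, rfl⟩
  rw [hd] at hdim hge
  have h1 : d + c ≤ n := by exact_mod_cast hdim
  have h2 : n + 1 ≤ d + (c + 1) := by exact_mod_cast hge
  exact ⟨n + 1, c + 1, by omega, π.comp Φ, Fin.cons w b, hπ.comp hΦ, hker', by
    rw [hd, show n + 1 - (c + 1) = d by omega]⟩

include hφ in
/-- A complete intersection point has a global complete intersection neighbourhood. -/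
theorem exists_isGlobalCI_away (q : Ideal T) [q.IsPrime] (h : Synt.IsCIOver k (Localization.AtPrime q)) :
    ∃ g : T, g ∉ q ∧ Synt.IsGlobalCI k (Localization.Away g) := by
  set I := RingHom.ker φ.toRingHom
  have hIq : I ≤ q.comap φ.toRingHom := Ideal.comap_mono bot_le
  obtain ⟨r, y, hy, hle, hreg⟩ := (fibReg_iff I _ hIq).2 ((isCIOver_atPrime_iff φ hφ q).1 h)
  obtain ⟨g, hg, a, -, hreg', hspan⟩ := NLAmp.exists_koszulRegular_nhd I (IsNoetherian.noetherian I) _ y
    (span_eq_of_fibre I (IsNoetherian.noetherian I) _ y hy hle) hreg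
  refine ⟨φ g, hg, isGlobalCI_away φ hφ g (fun i => algebraMap P _ (a i)) ?_ ?_⟩
  · rw [hspan, List.map_ofFn, ofList_ofFn']
    rfl
  · have h1 := dim_add_length_le _ _ _ rfl hreg'
    rw [List.length_map, List.length_ofFn, List.map_ofFn, ofList_ofFn'] at h1
    refine le_trans h1 ((ringKrullDim_localization_le (Submonoid.powers g) _).trans ?_)
    rw [MvPolynomial.ringKrullDim_of_isNoetherianRing, ringKrullDim_eq_zero_of_field, zero_add, Nat.card_fin]

end Groth.Agent.SyntLCI
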