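import Groth.Agent.SyntLCI.RelGCI
import Groth.Agent.SyntLCI.Local

/-!
# Relative global complete intersection neighbourhoods
-/

set_option autoImplicit false

noncomputable section

universe u

open IsLocalRing RingTheory.Sequence MvPolynomial TensorProduct

namespace Groth.Agent.SyntLCI

variable {R : Type u} [CommRing R] {n : ℕ}

/-- `R[x, z] → R[x][1/g]`. -/
theorem exists_presentation_away' (g : MvPolynomial (Fin n) R) :
    ∃ Φ : MvPolynomial (Fin (n + 1)) R →ₐ[R] Localization.Away g, Function.Surjective Φ ∧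
      (∀ x, Φ (rename Fin.castSucc x) = algebraMap _ (Localization.Away g) x) ∧
      IsSMulRegular (MvPolynomial (Fin (n + 1)) R) (rename Fin.castSucc g * X (Fin.last n) - 1) ∧
      RingHom.ker Φ.toRingHom = Ideal.span {rename Fin.castSucc g * X (Fin.last n) - 1} := by
  let E : MvPolynomial (Fin (n + 1)) R ≃ₐ[R] Polynomial (MvPolynomial (Fin n) R) :=
    (MvPolynomial.renameEquiv R (finSuccEquiv' (Fin.last n))).trans (MvPolynomial.optionEquivLeft R (Fin n))
  have hC : ∀ x, E (rename Fin.castSucc x) = Polynomial.C x := by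
    intro x
    induction x using MvPolynomial.induction_on with
    | C c => simp [E, MvPolynomial.optionEquivLeft_C]
    | add a b ha hb => simp [ha, hb]
    | mul_X a i ha =>
      rw [map_mul, map_mul, map_mul, ha]
      congr 1
      simp [E, finSuccEquiv'_last_apply_castSucc, MvPolynomial.optionEquivLeft_X_some]
  have hX : E (X (Fin.last n)) = Polynomial.X := by simp [E, finSuccEquiv'_at, MvPolynomial.optionEquivLeft_X_none]
  let W : Polynomial (MvPolynomial (Fin n) R) := Polynomial.C g * Polynomial.X - 1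
  have hW : E (rename Fin.castSucc g * X (Fin.last n) - 1) = W := by rw [map_sub, map_mul, hC, hX, map_one]
  let e := (Localization.awayEquivAdjoin g).symm
  let Φ : MvPolynomial (Fin (n + 1)) R →ₐ[R] Localization.Away g :=
    ((e.toAlgHom.restrictScalars R).comp ((AdjoinRoot.mkₐ W).restrictScalars R)).comp E.toAlgHom
  refine ⟨Φ, e.surjective.comp ((AdjoinRoot.mk_surjective (g := W)).comp E.surjective), fun x => ?_, ?_, ?_⟩
  · show e (AdjoinRoot.mk W (E (rename Fin.castSucc x))) = _
    rw [hC, AdjoinRoot.mk_C, ← AdjoinRoot.algebraMap_eq]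
    exact e.commutes x
  · intro a b hab
    have h1 : W * E (a - b) = 0 := by
      rw [← hW, ← map_mul, mul_sub, sub_eq_zero.2 (show _ * a = _ * b from hab), map_zero]
    have h2 : ∀ j, (E (a - b)).coeff j = 0 := by
      intro j
      induction j with
      | zero =>
        have := congrArg (fun p => Polynomial.coeff p 0) h1
        simp only [W, sub_mul, one_mul, mul_assoc, Polynomial.coeff_sub, Polynomial.coeff_C_mul, Polynomial.mul_coeff_zero,
          Polynomial.coeff_X_zero, zero_mul, mul_zero, zero_sub, Polynomial.coeff_zero, neg_eq_zero] at this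
        exact this
      | succ j ih =>
        have := congrArg (fun p => Polynomial.coeff p (j + 1)) h1
        simp only [W, sub_mul, one_mul, mul_assoc, Polynomial.coeff_sub, Polynomial.coeff_C_mul,
          Polynomial.coeff_X_mul, ih, mul_zero, zero_sub, Polynomial.coeff_zero, neg_eq_zero] at this
        exact this
    exact sub_eq_zero.1 ((map_eq_zero_iff _ E.injective).1 (Polynomial.ext fun j => by simpa using h2 j))
  · ext x
    rw [RingHom.mem_ker]
    show e (AdjoinRoot.mk W (E x)) = 0 ↔ _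
    rw [map_eq_zero_iff _ e.injective, AdjoinRoot.mk_eq_zero, Ideal.mem_span_singleton]
    constructor
    · intro hd
      have := map_dvd E.symm hd
      rwa [← hW, AlgEquiv.symm_apply_apply, AlgEquiv.symm_apply_apply] at this
    · intro hd
      have := map_dvd E hd
      rwa [hW] at this

theorem ringKrullDim_mvPolynomial_field (k : Type u) [Field k] (m : ℕ) :
    ringKrullDim (MvPolynomial (Fin m) k) = (m : WithBot ℕ∞) := by
  rw [MvPolynomial.ringKrullDim_of_isNoetherianRing, ringKrullDim_eq_zero_of_field, zero_add, Nat.card_fin]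

/-- The tensor product of a basic open of affine space with a field has dimension at most `n`. -/
theorem ringKrullDim_away_tensor_le (g : MvPolynomial (Fin n) R) (k : Type u) [Field k] [Algebra R k] :
    ringKrullDim (Localization.Away g ⊗[R] k) ≤ (n : WithBot ℕ∞) := by
  rw [ringKrullDim_eq_of_ringEquiv (Algebra.TensorProduct.comm R (Localization.Away g) k).toRingEquiv,
    ringKrullDim_eq_of_ringEquiv (IsLocalization.Away.tensorProductEquivTMulRight R k g (Localization.Away g)).toRingEquiv,
    ← ringKrullDim_mvPolynomial_field k n,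
    ← ringKrullDim_eq_of_ringEquiv (MvPolynomial.algebraTensorAlgEquiv R k (σ := Fin n)).toRingEquiv]
  exact ringKrullDim_localization_le (Submonoid.powers ((1 : k) ⊗ₜ[R] g)) _

theorem fibre_dim_away (g : MvPolynomial (Fin n) R) {r : ℕ} (a : Fin r → MvPolynomial (Fin n) R)
    (hs : FlatSlice.Sliced R (List.ofFn a) (Localization.Away g))
    (Φ : MvPolynomial (Fin (n + 1)) R →ₐ[R] Localization.Away g) (hΦ : Function.Surjective Φ)
    (F : Fin (r + 1) → MvPolynomial (Fin (n + 1)) R)
    (hker : RingHom.ker ((Ideal.Quotient.mkₐ R ((Ideal.span (Set.range a)).map (algebraMap _ (Localization.Away g)))).comp Φ).toRingHom =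
      Ideal.span (Set.range F))
    (e : Synt.RelGCIRing R (n + 1) (r + 1) F ≃ₐ[R]
      Localization.Away g ⧸ (Ideal.span (Set.range a)).map (algebraMap _ (Localization.Away g)))
    (p : PrimeSpectrum R) (hnt : Nontrivial (p.asIdeal.Fiber (Synt.RelGCIRing R (n + 1) (r + 1) F))) :
    r + 1 ≤ n + 1 ∧
      ringKrullDim (p.asIdeal.Fiber (Synt.RelGCIRing R (n + 1) (r + 1) F)) = ((n + 1 - (r + 1) : ℕ) : WithBot ℕ∞) := by
  let k := p.asIdeal.ResidueField
  let J := (Ideal.span (Set.range a)).map (algebraMap _ (Localization.Away g))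
  let C := Localization.Away g ⊗[R] k
  have hregC : IsWeaklyRegular C ((List.ofFn a).map (algebraMap (MvPolynomial (Fin n) R) C)) :=
    (isWeaklyRegular_map_algebraMap_iff C C (List.ofFn a)).2 (hs.isWeaklyRegular_tensor k)
  have e1 : p.asIdeal.Fiber (Synt.RelGCIRing R (n + 1) (r + 1) F) ≃ₐ[R] C ⧸ J.map (algebraMap (Localization.Away g) C) :=
    ((Algebra.TensorProduct.congr AlgEquiv.refl e).trans (Algebra.TensorProduct.comm R k (Localization.Away g ⧸ J))).trans
      (Algebra.TensorProduct.quotientTensorEquiv (R := R) R k (Localization.Away g) J)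
  have hJ : J.map (algebraMap (Localization.Away g) C) = Ideal.ofList ((List.ofFn a).map (algebraMap (MvPolynomial (Fin n) R) C)) := by
    rw [← Ideal.map_ofList, NLAmp.ofList_ofFn, Ideal.map_map, ← IsScalarTower.algebraMap_eq]
  have hup := dim_add_length_le _ C _ rfl hregC
  rw [List.length_map, List.length_ofFn, ← hJ] at hup
  rw [ringKrullDim_eq_of_ringEquiv (R := p.asIdeal.Fiber (Synt.RelGCIRing R (n + 1) (r + 1) F))
    (S := C ⧸ J.map (algebraMap (Localization.Away g) C)) e1.toRingEquiv]
  have hnt' : Nontrivial (C ⧸ J.map (algebraMap (Localization.Away g) C)) := e1.symm.toEquiv.nontrivial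
  obtain ⟨φp, hφp, hkerp, -⟩ := exists_fibre_pres ((e.symm.toAlgHom).comp
    ((Ideal.Quotient.mkₐ R J).comp Φ)) (e.symm.surjective.comp (Ideal.Quotient.mk_surjective.comp hΦ)) p.asIdeal
  let G : Fin (r + 1) → MvPolynomial (Fin (n + 1)) k := fun i => MvPolynomial.map (algebraMap R k) (F i)
  have hkerF : RingHom.ker ((e.symm.toAlgHom).comp ((Ideal.Quotient.mkₐ R J).comp Φ)).toRingHom = Ideal.span (Set.range F) := by
    refine Eq.trans ?_ hker
    exact RingHom.ker_equiv_comp ((Ideal.Quotient.mkₐ R J).comp Φ).toRingHom e.symm.toRingEquiv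
  rw [hkerF, Ideal.map_span, ← Set.range_comp] at hkerp
  change _ = Ideal.span (Set.range G) at hkerp
  let e2 := RingHom.quotientKerEquivOfSurjective (f := φp.toRingHom) hφp
  have hnt2 : Nontrivial (MvPolynomial (Fin (n + 1)) k ⧸ Ideal.span (Set.range G)) :=
    haveI := e2.toEquiv.nontrivial; (Ideal.quotEquivOfEq hkerp.symm).toEquiv.nontrivial
  have hge := SyntDim.le_ringKrullDim_quotient G
  rw [ringKrullDim_eq_of_ringEquiv (Ideal.quotEquivOfEq hkerp.symm), ringKrullDim_eq_of_ringEquiv (S := p.asIdeal.Fiber (Synt.RelGCIRing R (n + 1) (r + 1) F)) e2,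
    ringKrullDim_eq_of_ringEquiv (R := p.asIdeal.Fiber (Synt.RelGCIRing R (n + 1) (r + 1) F))
    (S := C ⧸ J.map (algebraMap (Localization.Away g) C)) e1.toRingEquiv] at hge
  have hle := hup.trans (ringKrullDim_away_tensor_le g k)
  obtain ⟨d, hd⟩ : ∃ d : ℕ, ringKrullDim (C ⧸ J.map (algebraMap (Localization.Away g) C)) = d := by
    have h0 : ringKrullDim (C ⧸ J.map (algebraMap (Localization.Away g) C)) ≠ ⊥ :=
      ne_bot_of_le_ne_bot (by simp) ringKrullDim_nonneg_of_nontrivial
    generalize ringKrullDim (C ⧸ J.map (algebraMap (Localization.Away g) C)) = x at hle h0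
    induction x with
    | bot => exact absurd rfl h0
    | coe x =>
      induction x with
      | top =>
        have h1 : ((⊤ : ℕ∞) : WithBot ℕ∞) + r = ((⊤ : ℕ∞) : WithBot ℕ∞) := by
          rw [show ((r : ℕ) : WithBot ℕ∞) = ((r : ℕ∞) : WithBot ℕ∞) from rfl, ← WithBot.coe_add, top_add]
        rw [h1] at hle
        exact absurd (WithBot.coe_le_coe.1 hle) (not_le.2 (ENat.natCast_lt_top n))
      | coe x => exact ⟨x, rfl⟩
  rw [hd] at hle hge ⊢
  have h1 : d + r ≤ n := by exact_mod_cast hle
  have h2 : n + 1 ≤ d + (r + 1) := by exact_mod_cast hge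
  exact ⟨by omega, by rw [show n + 1 - (r + 1) = d by omega]⟩

/-- Equations sliced on a basic open define a relative global complete intersection. -/
theorem isRelGCI_away (g : MvPolynomial (Fin n) R) {r : ℕ} (a : Fin r → MvPolynomial (Fin n) R)
    (hs : FlatSlice.Sliced R (List.ofFn a) (Localization.Away g)) :
    Synt.IsRelGCI R (n + 1) (r + 1) (Fin.cons (rename Fin.castSucc g * X (Fin.last n) - 1) fun i => rename Fin.castSucc (a i)) ∧
      IsWeaklyRegular (MvPolynomial (Fin (n + 1)) R)
        (List.ofFn (Fin.cons (rename Fin.castSucc g * X (Fin.last n) - 1) fun i => rename Fin.castSucc (a i) :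
          Fin (r + 1) → MvPolynomial (Fin (n + 1)) R)) ∧
      Nonempty (Synt.RelGCIRing R (n + 1) (r + 1)
          (Fin.cons (rename Fin.castSucc g * X (Fin.last n) - 1) fun i => rename Fin.castSucc (a i)) ≃ₐ[R]
        Localization.Away g ⧸ (Ideal.span (Set.range a)).map (algebraMap _ (Localization.Away g))) := by
  obtain ⟨Φ, hΦ, hΦx, hwreg, hw⟩ := exists_presentation_away' g
  set w := rename Fin.castSucc g * X (Fin.last n) - 1
  set F : Fin (r + 1) → MvPolynomial (Fin (n + 1)) R := Fin.cons w fun i => rename Fin.castSucc (a i)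
  set J := (Ideal.span (Set.range a)).map (algebraMap _ (Localization.Away g))
  have hregL : IsWeaklyRegular (Localization.Away g) ((List.ofFn a).map (algebraMap _ (Localization.Away g))) :=
    (isWeaklyRegular_map_algebraMap_iff _ _ _).2 hs.isWeaklyRegular
  have hJ : J = (Ideal.span (Set.range fun i => rename Fin.castSucc (a i))).map Φ.toRingHom := by
    simp only [J, Ideal.map_span, ← Set.range_comp]
    congr 2
    funext i
    exact (hΦx (a i)).symm
  have hker : RingHom.ker ((Ideal.Quotient.mkₐ R J).comp Φ).toRingHom = Ideal.span (Set.range F) := by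
    rw [show RingHom.ker ((Ideal.Quotient.mkₐ R J).comp Φ).toRingHom = (RingHom.ker (Ideal.Quotient.mkₐ R J).toRingHom).comap Φ.toRingHom from
      (RingHom.comap_ker _ _).symm, show RingHom.ker (Ideal.Quotient.mkₐ R J).toRingHom = J from Ideal.mk_ker, hJ,
      Ideal.comap_map_of_surjective Φ.toRingHom hΦ, ← RingHom.ker_eq_comap_bot, hw, Fin.range_cons, Ideal.span_insert, sup_comm]
  have e : Synt.RelGCIRing R (n + 1) (r + 1) F ≃ₐ[R] Localization.Away g ⧸ J :=
    (Ideal.quotientEquivAlgOfEq R hker.symm).trans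
      (Ideal.quotientKerAlgEquivOfSurjective (f := (Ideal.Quotient.mkₐ R J).comp Φ) (Ideal.Quotient.mk_surjective.comp hΦ))
  refine ⟨fun p hnt => ?_, ?_, ⟨e⟩⟩
  rotate_left 1
  · rw [List.ofFn_succ]
    simp only [F, Fin.cons_zero, Fin.cons_succ]
    rw [isWeaklyRegular_cons_iff]
    refine ⟨hwreg, ?_⟩
    let e₁ : QuotSMulTop w (MvPolynomial (Fin (n + 1)) R) ≃ₗ[MvPolynomial (Fin (n + 1)) R]
        MvPolynomial (Fin (n + 1)) R ⧸ Ideal.span {w} :=
      Submodule.quotEquivOfEq _ _ (by rw [← Submodule.ideal_span_singleton_smul, smul_eq_mul, Ideal.mul_top])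
    let e₂ : (MvPolynomial (Fin (n + 1)) R ⧸ Ideal.span {w}) ≃+* Localization.Away g :=
      (Ideal.quotEquivOfEq hw.symm).trans (RingHom.quotientKerEquivOfSurjective hΦ)
    rw [e₁.isWeaklyRegular_congr, ← isWeaklyRegular_map_algebraMap_iff (MvPolynomial (Fin (n + 1)) R ⧸ Ideal.span {w}),
      List.map_ofFn]
    have h3 := isWeaklyRegular_map_ringEquiv (R := Localization.Away g) (R' := MvPolynomial (Fin (n + 1)) R ⧸ Ideal.span {w})
      e₂.symm hregL
    rw [List.map_ofFn, List.map_ofFn] at h3
    have hf : (algebraMap (MvPolynomial (Fin (n + 1)) R) (MvPolynomial (Fin (n + 1)) R ⧸ Ideal.span {w}) ∘ fun i => rename Fin.castSucc (a i)) =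
        (e₂.symm ∘ algebraMap _ (Localization.Away g) ∘ a) := funext fun i => by
      show Ideal.Quotient.mk (Ideal.span {w}) (rename Fin.castSucc (a i)) = e₂.symm (algebraMap _ (Localization.Away g) (a i))
      rw [e₂.eq_symm_apply]
      exact hΦx (a i)
    rw [hf]
    exact h3
  · exact fibre_dim_away g a hs Φ hΦ F hker e p hnt

theorem exists_sliced_mul (q : Ideal (MvPolynomial (Fin n) R)) [q.IsPrime] {r : ℕ} (a : Fin r → MvPolynomial (Fin n) R)
    (hreg : IsWeaklyRegular (Localization.AtPrime q ⧸ fibIdeal q)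
      ((List.ofFn a).map (algebraMap (MvPolynomial (Fin n) R) (Localization.AtPrime q ⧸ fibIdeal q)))) :
    ∃ g ∉ q, ∀ h : MvPolynomial (Fin n) R, FlatSlice.Sliced R (List.ofFn a) (Localization.Away (g * h)) := by
  rw [isWeaklyRegular_map_algebraMap_iff] at hreg
  let P₀ := MvPolynomial (Fin n) R
  let S := Localization.AtPrime q
  let pP := (q.comap (algebraMap R P₀)).map (algebraMap R P₀)
  have hsub : (pP • ⊤ : Submodule P₀ S) = (fibIdeal q).restrictScalars P₀ := by
    rw [Ideal.smul_top_eq_map, Ideal.map_map, ← IsScalarTower.algebraMap_eq]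
    rfl
  have hreg2 : IsWeaklyRegular (S ⧸ (pP • ⊤ : Submodule P₀ S)) (List.ofFn a) :=
    (((Submodule.quotEquivOfEq _ _ hsub).trans
      (Submodule.Quotient.restrictScalarsEquiv P₀ (fibIdeal q))).isWeaklyRegular_congr _).2 hreg
  have : Module.Flat R S := by
    have : Module.Flat P₀ S := IsLocalization.flat S q.primeCompl
    exact Module.Flat.trans R P₀ S
  let e := IsLocalizedModule.iso q.primeCompl (Algebra.linearMap P₀ S)
  have : Module.Flat R (LocalizedModule q.primeCompl P₀) := Module.Flat.of_linearEquiv (e.restrictScalars R)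
  have hreg' := ((Submodule.Quotient.equiv _ (pP • (⊤ : Submodule P₀ (LocalizedModule q.primeCompl P₀))) e.symm (by
      rw [Submodule.map_smul'', Submodule.map_top, LinearEquiv.range])).isWeaklyRegular_congr _).1 hreg2
  obtain ⟨g, hg, H⟩ := FlatSlice.exists_sliced_pointwise (R := R) (List.ofFn a) P₀ q hreg'
  exact ⟨g, hg, fun h => (FlatSlice.sliced_away (g * h) _ P₀ fun q' _ hq' =>
    H q' fun hmem => hq' (Ideal.mul_mem_right _ _ hmem)).congr
      (IsLocalizedModule.iso (Submonoid.powers (g * h)) (Algebra.linearMap P₀ (Localization.Away (g * h))))⟩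

theorem span_eq_of_flat_localization (I : Ideal (MvPolynomial (Fin n) R)) (hI : I.FG) (q : Ideal (MvPolynomial (Fin n) R))
    [q.IsPrime] [Module.Flat R (Localization.AtPrime q ⧸ I.map (algebraMap _ (Localization.AtPrime q)))] {r : ℕ}
    (y : Fin r → Localization.AtPrime q) (hy : ∀ i, y i ∈ I.map (algebraMap (MvPolynomial (Fin n) R) (Localization.AtPrime q)))
    (hle : I.map (algebraMap (MvPolynomial (Fin n) R) (Localization.AtPrime q)) ≤ Ideal.span (Set.range y) ⊔ fibIdeal q) :
    Ideal.span (Set.range y) = I.map (algebraMap (MvPolynomial (Fin n) R) (Localization.AtPrime q)) := by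
  have h1 : Ideal.span (Set.range y) ≤ I.map (algebraMap (MvPolynomial (Fin n) R) (Localization.AtPrime q)) :=
    Ideal.span_le.2 (Set.range_subset_iff.2 hy)
  refine le_antisymm h1 (Submodule.le_of_le_smul_of_le_jacobson_bot (hI.map _)
    ((fibIdeal_le q).trans (maximalIdeal_le_jacobson ⊥)) ?_)
  intro z hz
  obtain ⟨a, ha, b, hb, rfl⟩ := Submodule.mem_sup.1 (hle hz)
  refine Submodule.mem_sup.2 ⟨a, ha, b, ?_, rfl⟩
  rw [smul_eq_mul]
  exact NLAmp.inter_le_mul (I := I.map (algebraMap _ (Localization.AtPrime q))) (q.comap (algebraMap R (MvPolynomial (Fin n) R)))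
    ⟨by simpa using sub_mem hz (h1 ha), hb⟩

theorem isRelGCI_congr {S : Type u} [CommRing S] [Algebra R S] {m c : ℕ} {F : Fin c → MvPolynomial (Fin m) R}
    (h : Synt.IsRelGCI R m c F) (e : Synt.RelGCIRing R m c F ≃ₐ[R] S) : Synt.IsSyntomic R S :=
  isSyntomic_congr R e (isSyntomic_relGCI h)

/-- A flat point of a finitely presented algebra which is a complete intersection in its fibre has a relative
global complete intersection neighbourhood. -/
theorem exists_relGCI_nhd {S : Type u} [CommRing S] [Algebra R S] (φ : MvPolynomial (Fin n) R →ₐ[R] S)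
    (hφ : Function.Surjective φ) (hfg : (RingHom.ker φ.toRingHom).FG) (q : Ideal S) [q.IsPrime]
    [Module.Flat R (Localization.AtPrime q)] (h : FibReg (RingHom.ker φ.toRingHom) (q.comap φ.toRingHom)) :
    ∃ g : S, g ∉ q ∧ ∃ (m c : ℕ) (F : Fin c → MvPolynomial (Fin m) R), Synt.IsRelGCI R m c F ∧
      IsWeaklyRegular (MvPolynomial (Fin m) R) (List.ofFn F) ∧
      Nonempty (Localization.Away g ≃ₐ[R] Synt.RelGCIRing R m c F) := by
  classical
  set I := RingHom.ker φ.toRingHom
  let q' := q.comap φ.toRingHom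
  let S' := Localization.AtPrime q'
  have : IsLocalization (q'.primeCompl.map φ.toRingHom) (Localization.AtPrime q) :=
    cast (congrArg (fun M => IsLocalization M (Localization.AtPrime q)) (map_primeCompl_comap φ.toRingHom hφ q).symm)
      Localization.isLocalization
  obtain ⟨π, hπ, -, hπker⟩ := exists_localizationMap φ hφ q'.primeCompl S' (Localization.AtPrime q)
  have : Module.Flat R (S' ⧸ I.map (algebraMap _ S')) :=
    Module.Flat.of_linearEquiv ((Ideal.quotientEquivAlgOfEq R hπker.symm).trans (Ideal.quotientKerAlgEquivOfSurjective hπ)).toLinearEquiv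
  obtain ⟨r, y, hy, hle, hreg⟩ := h
  have hyJ := span_eq_of_flat_localization I hfg q' y hy hle
  choose a u haI hu hau using fun i => NLAmp.exists_mem_mul q' (hy i)
  have hreg1 : IsWeaklyRegular (S' ⧸ fibIdeal q') ((List.ofFn a).map (algebraMap _ (S' ⧸ fibIdeal q'))) := by
    have h := NLAmp.unit_seq_regular _ (fun i => Ideal.Quotient.mk (fibIdeal q') (u i)) (fun i => (hu i).map _) hreg
    simp only [S', q', ← map_mul, ← hau] at h ⊢
    rw [List.map_ofFn]
    exact h
  obtain ⟨g, hg, hsl⟩ := exists_sliced_mul q' a hreg1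
  have hle' : I.map (algebraMap _ S') ≤ (Ideal.span (Set.range a)).map (algebraMap _ S') := by
    rw [← hyJ]
    refine Ideal.span_le.2 ?_
    rintro _ ⟨i, rfl⟩
    refine (Ideal.mul_unit_mem_iff_mem _ (hu i)).1 ?_
    rw [← hau]
    exact Ideal.mem_map_of_mem _ (Ideal.subset_span ⟨i, rfl⟩)
  obtain ⟨s, hs⟩ := hfg
  have : ∀ z ∈ s, ∃ t, t ∉ q' ∧ t * z ∈ Ideal.span (Set.range a) := fun z hz => by
    obtain ⟨t, ht, htz⟩ := (IsLocalization.algebraMap_mem_map_algebraMap_iff q'.primeCompl S' _ z).1
      (hle' (Ideal.mem_map_of_mem _ (hs.le (Ideal.subset_span hz))))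
    exact ⟨t, ht, htz⟩
  choose t ht htz using this
  let g' := ∏ z ∈ s.attach, t z.1 z.2
  have hg' : g' ∉ q' := fun hmem => by
    obtain ⟨z, -, hz⟩ := (Ideal.IsPrime.prod_mem_iff).mp hmem
    exact ht z.1 z.2 hz
  let L := Localization.Away (g * g')
  have hIL : I.map (algebraMap _ L) = (Ideal.span (Set.range a)).map (algebraMap _ L) := by
    refine le_antisymm ?_ (Ideal.map_mono (Ideal.span_le.2 (Set.range_subset_iff.2 haI)))
    rw [← hs, Ideal.map_span, Ideal.span_le]
    rintro _ ⟨z, hz, rfl⟩
    have hu' : IsUnit (algebraMap _ L (t z hz)) := by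
      refine isUnit_of_dvd_unit (map_dvd _ ?_) (IsLocalization.Away.algebraMap_isUnit (g * g'))
      exact Dvd.dvd.mul_left (Finset.dvd_prod_of_mem (fun z : s => t z.1 z.2) (Finset.mem_attach s ⟨z, hz⟩)) g
    refine (Ideal.unit_mul_mem_iff_mem _ hu').1 ?_
    rw [← map_mul]
    exact Ideal.mem_map_of_mem _ (htz z hz)
  obtain ⟨hgci, hwreg, ⟨e⟩⟩ := isRelGCI_away (g * g') a (hsl g')
  have : IsLocalization ((Submonoid.powers (g * g')).map φ.toRingHom) (Localization.Away (φ (g * g'))) := by
    rw [Submonoid.map_powers]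
    exact inferInstanceAs (IsLocalization (Submonoid.powers (φ (g * g'))) _)
  obtain ⟨π', hπ', -, hπker'⟩ := exists_localizationMap φ hφ (Submonoid.powers (g * g')) L (Localization.Away (φ (g * g')))
  refine ⟨φ (g * g'), fun hmem => (Ideal.IsPrime.mem_or_mem ‹q.IsPrime› (map_mul φ g g' ▸ hmem)).elim hg hg', _, _, _, hgci, hwreg, ⟨?_⟩⟩
  exact ((Ideal.quotientKerAlgEquivOfSurjective hπ').symm.trans
    (Ideal.quotientEquivAlgOfEq R (hπker'.trans hIL))).trans e.symm

/-- Syntomic algebras are locally relative global complete intersections. -/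
theorem exists_relGCI_nhd_of_isSyntomic {S : Type u} [CommRing S] [Algebra R S] (h : Synt.IsSyntomic R S) (q : Ideal S)
    [q.IsPrime] : ∃ g : S, g ∉ q ∧ ∃ (m c : ℕ) (F : Fin c → MvPolynomial (Fin m) R), Synt.IsRelGCI R m c F ∧
      IsWeaklyRegular (MvPolynomial (Fin m) R) (List.ofFn F) ∧
      Nonempty (Localization.Away g ≃ₐ[R] Synt.RelGCIRing R m c F) := by
  obtain ⟨hflat, hfp, hfib⟩ := h
  obtain ⟨m, φ, hφ, hfg⟩ := Algebra.FinitePresentation.out (R := R) (A := S)
  have : Module.Flat S (Localization.AtPrime q) := IsLocalization.flat _ q.primeCompl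
  have : Module.Flat R (Localization.AtPrime q) := Module.Flat.trans R S _
  exact exists_relGCI_nhd φ hφ hfg q ((fibres_isLCIOver_iff φ hφ).1 hfib _ (Ideal.comap_mono bot_le))

end Groth.Agent.SyntLCI
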