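import Groth.Agent.SyntLCI.RelFibre
import Groth.Agent.SyntLCI.KoszulLocal

/-!
# Relative global complete intersections
-/

set_option autoImplicit false

noncomputable section

universe u

open IsLocalRing RingTheory.Sequence MvPolynomial

namespace Groth.Agent.SyntLCI

theorem isWeaklyRegular_atPrime_of_le {P₀ : Type u} [CommRing P₀] (m q : Ideal P₀) [m.IsPrime] [q.IsPrime] (hqm : q ≤ m)
    {l : List P₀} (h : IsWeaklyRegular (Localization.AtPrime m) (l.map (algebraMap P₀ (Localization.AtPrime m)))) :
    IsWeaklyRegular (Localization.AtPrime q) (l.map (algebraMap P₀ (Localization.AtPrime q))) := by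
  have hu : ∀ y : m.primeCompl, IsUnit (algebraMap P₀ (Localization.AtPrime q) y) := fun y =>
    IsLocalization.map_units (Localization.AtPrime q) (⟨y.1, fun hy => y.2 (hqm hy)⟩ : q.primeCompl)
  let φ : Localization.AtPrime m →+* Localization.AtPrime q := IsLocalization.lift hu
  letI := φ.toAlgebra
  have : IsScalarTower P₀ (Localization.AtPrime m) (Localization.AtPrime q) :=
    .of_algebraMap_eq fun z => (IsLocalization.lift_eq hu z).symm
  have : Module.Flat P₀ (Localization.AtPrime q) := IsLocalization.flat _ q.primeCompl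
  have : Module.Flat (Localization.AtPrime m) (Localization.AtPrime q) :=
    (Module.flat_iff_of_isLocalization (Localization.AtPrime m) m.primeCompl (Localization.AtPrime q)).2 inferInstance
  have h2 := h.of_flat (S := Localization.AtPrime q)
  rw [List.map_map, ← RingHom.coe_comp, ← IsScalarTower.algebraMap_eq] at h2
  exact h2

/-- Equations cutting out a subset of the expected dimension are regular at its points. -/
theorem isWeaklyRegular_field {k : Type u} [Field k] {n c : ℕ} {T : Type u} [CommRing T] [Algebra k T]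
    (φ : MvPolynomial (Fin n) k →ₐ[k] T) (hφ : Function.Surjective φ) (G : Fin c → MvPolynomial (Fin n) k)
    (hker : Ideal.span (Set.range G) = RingHom.ker φ.toRingHom) (hdim : ringKrullDim T + c ≤ n)
    (Q : Ideal (MvPolynomial (Fin n) k)) [Q.IsPrime] (hGQ : Ideal.span (Set.range G) ≤ Q) :
    IsWeaklyRegular (Localization.AtPrime Q) ((List.ofFn G).map (algebraMap _ (Localization.AtPrime Q))) := by
  obtain ⟨m, hm, hQm⟩ := Ideal.exists_le_maximal Q ‹Q.IsPrime›.ne_top
  have hm' : RingHom.ker φ.toRingHom ≤ m := hker ▸ hGQ.trans hQm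
  have hne : (RingHom.ker φ.toRingHom).map (algebraMap _ (Localization.AtPrime m)) ≠ ⊤ := fun h =>
    (maximalIdeal.isMaximal _).ne_top (top_le_iff.1 (h ▸ map_le_maximal hm'))
  have hdm : ringKrullDim (Localization.AtPrime m) = n := by
    rw [IsLocalization.AtPrime.ringKrullDim_eq_height m, Groth.Agent.DimTheory.height_maximal_mvPolynomial _ n m]
    rfl
  obtain ⟨e, he⟩ := exists_dim_quotient hne
  let q' : Ideal T := m.map φ.toRingHom
  have : q'.IsPrime := Ideal.map_isPrime_of_surjective hφ hm'
  have hq' : q'.comap φ.toRingHom = m := by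
    refine (Ideal.comap_map_of_surjective φ.toRingHom hφ m).trans ?_
    rw [← RingHom.ker_eq_comap_bot]
    exact sup_eq_left.2 hm'
  obtain ⟨e'⟩ := NLAmp.nonempty_localization_quotient m φ.toRingHom hφ q' hq'
  have hle : (e : WithBot ℕ∞) ≤ ringKrullDim T := by
    rw [← he, ringKrullDim_eq_of_ringEquiv e']
    exact ringKrullDim_localization_le q'.primeCompl _
  have hec : e + c ≤ n := by exact_mod_cast (add_le_add hle (le_refl (c : WithBot ℕ∞))).trans hdim
  have hreg := isWeaklyRegular_of_dim (fun i => algebraMap _ (Localization.AtPrime m) (G i)) hne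
    (by rw [← hker, Ideal.map_span, ← Set.range_comp]; rfl) hdm he hec
  refine isWeaklyRegular_atPrime_of_le m Q hQm ?_
  rw [List.map_ofFn]
  exact hreg

variable {R : Type u} [CommRing R] {n c : ℕ} {F : Fin c → MvPolynomial (Fin n) R}

theorem fibre_regular' (h : Synt.IsRelGCI R n c F) (p : PrimeSpectrum R)
    (Q : Ideal (MvPolynomial (Fin n) p.asIdeal.ResidueField)) [Q.IsPrime]
    (hQ : Ideal.span (Set.range F) ≤ Q.comap (MvPolynomial.map (algebraMap R p.asIdeal.ResidueField))) :
    IsWeaklyRegular (Localization.AtPrime (Q.comap (MvPolynomial.map (algebraMap R p.asIdeal.ResidueField))) ⧸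
        fibIdeal (Q.comap (MvPolynomial.map (algebraMap R p.asIdeal.ResidueField))))
      (List.ofFn fun i => Ideal.Quotient.mk (fibIdeal (Q.comap (MvPolynomial.map (algebraMap R p.asIdeal.ResidueField))))
        (algebraMap _ (Localization.AtPrime (Q.comap (MvPolynomial.map (algebraMap R p.asIdeal.ResidueField)))) (F i))) := by
  obtain ⟨φp, hφp, hker, -⟩ := exists_fibre_pres (Ideal.Quotient.mkₐ R (Ideal.span (Set.range F))) Ideal.Quotient.mk_surjective p.asIdeal
  rw [show RingHom.ker (Ideal.Quotient.mkₐ R (Ideal.span (Set.range F))).toRingHom = Ideal.span (Set.range F) from Ideal.mk_ker,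
    Ideal.map_span, ← Set.range_comp] at hker
  let G : Fin c → MvPolynomial (Fin n) p.asIdeal.ResidueField := fun i => MvPolynomial.map (algebraMap R p.asIdeal.ResidueField) (F i)
  change _ = Ideal.span (Set.range G) at hker
  have hGQ : Ideal.span (Set.range G) ≤ Q := Ideal.span_le.2 (by
    rintro _ ⟨i, rfl⟩; exact hQ (Ideal.subset_span ⟨i, rfl⟩))
  have hnt : Nontrivial (p.asIdeal.Fiber (Synt.RelGCIRing R n c F)) :=
    have : Nontrivial (MvPolynomial (Fin n) p.asIdeal.ResidueField ⧸ RingHom.ker φp.toRingHom) :=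
      Ideal.Quotient.nontrivial_iff.2 fun htop => ‹Q.IsPrime›.ne_top (top_le_iff.1 ((hker ▸ htop : Ideal.span (Set.range G) = ⊤) ▸ hGQ))
    (RingHom.quotientKerEquivOfSurjective (f := φp.toRingHom) hφp).symm.toEquiv.nontrivial
  obtain ⟨hcn, hdim⟩ := h p hnt
  have hd : ringKrullDim (p.asIdeal.Fiber (Synt.RelGCIRing R n c F)) + (c : WithBot ℕ∞) ≤ (n : WithBot ℕ∞) :=
    calc _ = ((n - c : ℕ) : WithBot ℕ∞) + (c : WithBot ℕ∞) := by rw [hdim]
      _ ≤ _ := by exact_mod_cast (Nat.sub_add_cancel hcn).le
  have hregQ : IsWeaklyRegular (Localization.AtPrime Q) ((List.ofFn G).map (algebraMap _ (Localization.AtPrime Q))) :=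
    isWeaklyRegular_field (Ideal.Quotient.mkₐ _ (Ideal.span (Set.range G))) Ideal.Quotient.mk_surjective G
      Ideal.mk_ker.symm (by
        rw [ringKrullDim_eq_of_ringEquiv (Ideal.quotEquivOfEq hker.symm),
          ringKrullDim_eq_of_ringEquiv (S := p.asIdeal.Fiber (Synt.RelGCIRing R n c F))
            (RingHom.quotientKerEquivOfSurjective (f := φp.toRingHom) hφp)]
        exact hd) Q hGQ
  obtain ⟨-, ψ, hψs, hψker, hψ⟩ := exists_fibre_map p.asIdeal Q
  set q := Q.comap (MvPolynomial.map (σ := Fin n) (algebraMap R p.asIdeal.ResidueField))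
  let e : (Localization.AtPrime q ⧸ fibIdeal q) ≃+* Localization.AtPrime Q :=
    (Ideal.quotEquivOfEq hψker.symm).trans (RingHom.quotientKerEquivOfSurjective hψs)
  have : IsLocalRing (Localization.AtPrime q ⧸ fibIdeal q) := e.symm.isLocalRing
  have h1 := isWeaklyRegular_map_ringEquiv (R := Localization.AtPrime Q) (R' := Localization.AtPrime q ⧸ fibIdeal q) e.symm hregQ
  rw [List.map_ofFn, List.map_ofFn] at h1
  have hf : (fun i => Ideal.Quotient.mk (fibIdeal q) (algebraMap _ (Localization.AtPrime q) (F i))) =
      ⇑e.symm ∘ ⇑(algebraMap _ (Localization.AtPrime Q)) ∘ G := funext fun i => by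
    show _ = e.symm (algebraMap _ (Localization.AtPrime Q) (G i))
    rw [e.eq_symm_apply]
    exact hψ (F i)
  rw [hf]
  exact h1

/-- The equations are a regular sequence in the local rings of the fibres. -/
theorem fibre_regular (h : Synt.IsRelGCI R n c F) (q : Ideal (MvPolynomial (Fin n) R)) [q.IsPrime]
    (hq : Ideal.span (Set.range F) ≤ q) :
    IsWeaklyRegular (Localization.AtPrime q ⧸ fibIdeal q)
      (List.ofFn fun i => Ideal.Quotient.mk (fibIdeal q) (algebraMap _ (Localization.AtPrime q) (F i))) := by
  obtain ⟨Q, _, hQ⟩ := exists_prime_over q (q.comap (algebraMap R (MvPolynomial (Fin n) R))) rfl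
  have key : ∀ (q' : Ideal (MvPolynomial (Fin n) R)) [q'.IsPrime], q' = q →
      IsWeaklyRegular (Localization.AtPrime q' ⧸ fibIdeal q')
        (List.ofFn fun i => Ideal.Quotient.mk (fibIdeal q') (algebraMap _ (Localization.AtPrime q') (F i))) →
      IsWeaklyRegular (Localization.AtPrime q ⧸ fibIdeal q)
        (List.ofFn fun i => Ideal.Quotient.mk (fibIdeal q) (algebraMap _ (Localization.AtPrime q) (F i))) := by
    rintro q' _ rfl h'; exact h'
  exact key _ hQ (fibre_regular' h ⟨q.comap (algebraMap R (MvPolynomial (Fin n) R)), inferInstance⟩ Q (hQ.symm ▸ hq))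

theorem exists_sliced_take (h : Synt.IsRelGCI R n c F) (q : Ideal (MvPolynomial (Fin n) R)) [q.IsPrime]
    (hq : Ideal.span (Set.range F) ≤ q) (i : ℕ) :
    ∃ g ∉ q, FlatSlice.Sliced R ((List.ofFn F).take i) (Localization.Away g) := by
  let S := Localization.AtPrime q
  have h1 : IsWeaklyRegular (S ⧸ fibIdeal q) ((List.ofFn F).map (algebraMap (MvPolynomial (Fin n) R) (S ⧸ fibIdeal q))) := by
    rw [List.map_ofFn]
    exact fibre_regular h q hq
  rw [isWeaklyRegular_map_algebraMap_iff, ← List.take_append_drop i (List.ofFn F), isWeaklyRegular_append_iff] at h1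
  let pP := (q.comap (algebraMap R (MvPolynomial (Fin n) R))).map (algebraMap R (MvPolynomial (Fin n) R))
  have hsub : (pP • ⊤ : Submodule (MvPolynomial (Fin n) R) S) = (fibIdeal q).restrictScalars (MvPolynomial (Fin n) R) := by
    rw [Ideal.smul_top_eq_map, Ideal.map_map, ← IsScalarTower.algebraMap_eq]
    rfl
  have hreg2 : IsWeaklyRegular (S ⧸ (pP • ⊤ : Submodule (MvPolynomial (Fin n) R) S)) ((List.ofFn F).take i) :=
    (((Submodule.quotEquivOfEq _ _ hsub).trans
      (Submodule.Quotient.restrictScalarsEquiv (MvPolynomial (Fin n) R) (fibIdeal q))).isWeaklyRegular_congr _).2 h1.1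
  have : Module.Flat R S := by
    have : Module.Flat (MvPolynomial (Fin n) R) S := IsLocalization.flat S q.primeCompl
    exact Module.Flat.trans R (MvPolynomial (Fin n) R) S
  exact FlatSlice.exists_sliced (R := R) q _ hreg2

theorem flat_atPrime_quotient {P₀ : Type u} [CommRing P₀] [Algebra R P₀] (g : P₀) (q : Ideal P₀) [q.IsPrime] (hg : g ∉ q)
    (J : Ideal P₀) [Module.Flat R (Localization.Away g ⧸ (J • ⊤ : Submodule P₀ (Localization.Away g)))] :
    Module.Flat R (Localization.AtPrime q ⧸ J.map (algebraMap P₀ (Localization.AtPrime q))) := by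
  have hu : IsUnit (algebraMap P₀ (Localization.AtPrime q) g) := IsLocalization.map_units _ (⟨g, hg⟩ : q.primeCompl)
  let φ : Localization.Away g →+* Localization.AtPrime q := IsLocalization.Away.lift g hu
  letI := φ.toAlgebra
  have : IsScalarTower P₀ (Localization.Away g) (Localization.AtPrime q) :=
    .of_algebraMap_eq fun z => (IsLocalization.Away.lift_eq g hu z).symm
  have : IsScalarTower R (Localization.Away g) (Localization.AtPrime q) := .of_algebraMap_eq fun z => by
    rw [IsScalarTower.algebraMap_apply R P₀ (Localization.AtPrime q), IsScalarTower.algebraMap_apply P₀ (Localization.Away g) (Localization.AtPrime q),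
      ← IsScalarTower.algebraMap_apply R P₀ (Localization.Away g)]
  have : Module.Flat P₀ (Localization.AtPrime q) := IsLocalization.flat _ q.primeCompl
  have : Module.Flat (Localization.Away g) (Localization.AtPrime q) :=
    (Module.flat_iff_of_isLocalization (Localization.Away g) (Submonoid.powers g) (Localization.AtPrime q)).2 inferInstance
  let J' := J.map (algebraMap P₀ (Localization.Away g))
  have : Module.Flat R (Localization.Away g ⧸ J') := Module.Flat.of_linearEquiv
    (((Submodule.quotEquivOfEq _ _ (Ideal.smul_top_eq_map J)).trans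
      (Submodule.Quotient.restrictScalarsEquiv P₀ J')).restrictScalars R).symm
  have hJ : J.map (algebraMap P₀ (Localization.AtPrime q)) = J'.map (algebraMap (Localization.Away g) (Localization.AtPrime q)) := by
    rw [Ideal.map_map, ← IsScalarTower.algebraMap_eq]
  rw [hJ]
  have : Module.Flat (Localization.Away g ⧸ J') (Localization.AtPrime q ⧸ J'.map (algebraMap (Localization.Away g) (Localization.AtPrime q))) :=
    Module.Flat.of_linearEquiv (Algebra.TensorProduct.quotIdealMapEquivQuotTensor (Localization.AtPrime q) J').toLinearEquiv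
  have : IsScalarTower R (Localization.Away g ⧸ J') (Localization.AtPrime q ⧸ J'.map (algebraMap (Localization.Away g) (Localization.AtPrime q))) :=
    ⟨fun r x y => by
      obtain ⟨x, rfl⟩ := Ideal.Quotient.mk_surjective x
      obtain ⟨y, rfl⟩ := Ideal.Quotient.mk_surjective y
      exact congrArg (Ideal.Quotient.mk _) (smul_assoc r x y)⟩
  exact Module.Flat.trans R (Localization.Away g ⧸ J') _

theorem flat_take (h : Synt.IsRelGCI R n c F) (q : Ideal (MvPolynomial (Fin n) R)) [q.IsPrime]
    (hq : Ideal.span (Set.range F) ≤ q) (i : ℕ) :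
    Module.Flat R (Localization.AtPrime q ⧸ Ideal.ofList
      (((List.ofFn F).take i).map (algebraMap (MvPolynomial (Fin n) R) (Localization.AtPrime q)))) := by
  obtain ⟨g, hg, hs⟩ := exists_sliced_take h q hq i
  have := hs.flat_quotient
  rw [← Ideal.map_ofList]
  exact flat_atPrime_quotient g q hg _

theorem isWeaklyRegular_atPrime (h : Synt.IsRelGCI R n c F) (q : Ideal (MvPolynomial (Fin n) R)) [q.IsPrime]
    (hq : Ideal.span (Set.range F) ≤ q) :
    IsWeaklyRegular (Localization.AtPrime q) ((List.ofFn F).map (algebraMap (MvPolynomial (Fin n) R) (Localization.AtPrime q))) := by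
  obtain ⟨g, hg, hs⟩ := exists_sliced_take h q hq c
  rw [List.take_of_length_le (by rw [List.length_ofFn])] at hs
  have hu : IsUnit (algebraMap (MvPolynomial (Fin n) R) (Localization.AtPrime q) g) :=
    IsLocalization.map_units _ (⟨g, hg⟩ : q.primeCompl)
  let φ : Localization.Away g →+* Localization.AtPrime q := IsLocalization.Away.lift g hu
  letI := φ.toAlgebra
  have : IsScalarTower (MvPolynomial (Fin n) R) (Localization.Away g) (Localization.AtPrime q) :=
    .of_algebraMap_eq fun z => (IsLocalization.Away.lift_eq g hu z).symm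
  have : Module.Flat (MvPolynomial (Fin n) R) (Localization.AtPrime q) := IsLocalization.flat _ q.primeCompl
  have : Module.Flat (Localization.Away g) (Localization.AtPrime q) :=
    (Module.flat_iff_of_isLocalization (Localization.Away g) (Submonoid.powers g) (Localization.AtPrime q)).2 inferInstance
  have h2 := ((isWeaklyRegular_map_algebraMap_iff (Localization.Away g) (Localization.Away g) (List.ofFn F)).2 hs.isWeaklyRegular).of_flat (S := Localization.AtPrime q)
  rw [List.map_map, ← RingHom.coe_comp, ← IsScalarTower.algebraMap_eq] at h2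
  exact h2

theorem flat_relGCIRing (h : Synt.IsRelGCI R n c F) : Module.Flat R (Synt.RelGCIRing R n c F) := by
  set I := Ideal.span (Set.range F)
  refine Module.flat_of_isLocalized_maximal (R := R) (MvPolynomial (Fin n) R ⧸ I) (MvPolynomial (Fin n) R ⧸ I)
    (fun m _ => Localization.AtPrime m) (fun m _ => Algebra.linearMap _ _) fun m hm => ?_
  have hIm : I ≤ m.comap (Ideal.Quotient.mk I) := fun x hx => by
    rw [Ideal.mem_comap, Ideal.Quotient.eq_zero_iff_mem.2 hx]; exact zero_mem _
  have hfl := flat_take h (m.comap (Ideal.Quotient.mk I)) hIm c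
  rw [List.take_of_length_le (by rw [List.length_ofFn]), ← Ideal.map_ofList, NLAmp.ofList_ofFn] at hfl
  have : IsLocalization ((m.comap (Ideal.Quotient.mk I)).primeCompl.map (Ideal.Quotient.mkₐ R I).toRingHom)
      (Localization.AtPrime m) := by
    have h1 := map_primeCompl_comap (Ideal.Quotient.mkₐ R I).toRingHom Ideal.Quotient.mk_surjective m
    exact cast (congrArg (fun M => IsLocalization M (Localization.AtPrime m)) h1.symm) Localization.isLocalization
  obtain ⟨π, hπ, -, hker⟩ := exists_localizationMap (Ideal.Quotient.mkₐ R I) Ideal.Quotient.mk_surjective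
    (m.comap (Ideal.Quotient.mk I)).primeCompl
    (Localization.AtPrime (m.comap (Ideal.Quotient.mk I))) (Localization.AtPrime m)
  rw [show RingHom.ker (Ideal.Quotient.mkₐ R I).toRingHom = I from Ideal.mk_ker] at hker
  have e : (Localization.AtPrime (m.comap (Ideal.Quotient.mk I)) ⧸ I.map (algebraMap _ (Localization.AtPrime (m.comap (Ideal.Quotient.mk I))))) ≃ₐ[R] Localization.AtPrime m :=
    (Ideal.quotientEquivAlgOfEq R hker.symm).trans (Ideal.quotientKerAlgEquivOfSurjective hπ)
  exact @Module.Flat.of_linearEquiv R _ _ _ _ _ _ _ hfl e.symm.toLinearEquiv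

theorem isKoszulRegularSeq_relGCI (h : Synt.IsRelGCI R n c F) : LCI.IsKoszulRegularSeq (MvPolynomial (Fin n) R) (List.ofFn F) := by
  refine (KoszulExt.isExact_iff _).1 (isExact_of_localized F fun m _ => ?_)
  by_cases hm : Ideal.span (Set.range F) ≤ m
  · refine isExact_tensor_of_isWeaklyRegular F ?_
    have := isWeaklyRegular_atPrime h m hm
    rwa [List.map_ofFn] at this
  · obtain ⟨i, hi⟩ : ∃ i, F i ∉ m := by
      by_contra hno
      push Not at hno
      exact hm (Ideal.span_le.2 (Set.range_subset_iff.2 hno))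
    refine isExact_of_isUnit _ i ?_
    rw [← (Algebra.TensorProduct.lid (MvPolynomial (Fin n) R) (Localization.AtPrime m)).symm.commutes (F i)]
    exact (IsLocalization.map_units (Localization.AtPrime m) (⟨F i, hi⟩ : m.primeCompl)).map _

theorem isSyntomic_relGCI (h : Synt.IsRelGCI R n c F) : Synt.IsSyntomic R (Synt.RelGCIRing R n c F) := by
  have hflat := flat_relGCIRing h
  have hfg : (Ideal.span (Set.range F)).FG := Submodule.fg_span (Set.finite_range F)
  have hker : RingHom.ker (Ideal.Quotient.mkₐ R (Ideal.span (Set.range F))).toRingHom = Ideal.span (Set.range F) := Ideal.mk_ker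
  refine ⟨hflat, Algebra.FinitePresentation.quotient hfg, (fibres_isLCIOver_iff (Ideal.Quotient.mkₐ R (Ideal.span (Set.range F))) Ideal.Quotient.mk_surjective).2 ?_⟩
  intro q _ hq
  rw [hker] at hq ⊢
  refine ⟨c, fun i => algebraMap _ (Localization.AtPrime q) (F i), fun i => Ideal.mem_map_of_mem _ (Ideal.subset_span ⟨i, rfl⟩), ?_,
    fibre_regular h q hq⟩
  rw [Ideal.map_span, ← Set.range_comp]
  exact le_sup_left

end Groth.Agent.SyntLCI
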