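import Groth.Agent.SyntLCI.Field

/-!
# The codimension of a point in a presentation
-/

set_option autoImplicit false

noncomputable section

universe u

open IsLocalRing MvPolynomial

namespace Groth.Agent.SyntLCI

variable {k : Type u} [Field k] {n : ℕ}

theorem exists_dims (I : Ideal (MvPolynomial (Fin n) k)) (q : Ideal (MvPolynomial (Fin n) k ⧸ I)) [q.IsPrime] (c : ℕ)
    (hc : (c : ℕ∞) + q.height = (q.comap (Ideal.Quotient.mk I)).height) :
    ∃ d e : ℕ, d = e + c ∧
      I.map (algebraMap _ (Localization.AtPrime (q.comap (Ideal.Quotient.mk I)))) ≠ ⊤ ∧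
      ringKrullDim (Localization.AtPrime (q.comap (Ideal.Quotient.mk I))) = d ∧
      ringKrullDim (Localization.AtPrime (q.comap (Ideal.Quotient.mk I)) ⧸
        I.map (algebraMap _ (Localization.AtPrime (q.comap (Ideal.Quotient.mk I))))) = e := by
  have hIq : I ≤ q.comap (Ideal.Quotient.mk I) := fun x hx => by
    rw [Ideal.mem_comap, Ideal.Quotient.eq_zero_iff_mem.2 hx]
    exact zero_mem _
  have hne : I.map (algebraMap _ (Localization.AtPrime (q.comap (Ideal.Quotient.mk I)))) ≠ ⊤ := fun h =>
    (maximalIdeal.isMaximal _).ne_top (top_le_iff.1 (h ▸ map_le_maximal hIq))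
  obtain ⟨d, hd⟩ := CAlgReg.exists_dim (R := Localization.AtPrime (q.comap (Ideal.Quotient.mk I)))
  obtain ⟨e, he⟩ := exists_dim_quotient hne
  refine ⟨d, e, ?_, hne, hd, he⟩
  obtain ⟨e'⟩ := NLAmp.nonempty_localization_quotient (q.comap (Ideal.Quotient.mk I)) (Ideal.Quotient.mk I)
    Ideal.Quotient.mk_surjective q rfl
  have h1 : ringKrullDim (Localization.AtPrime q) = e := by
    rw [← he, ← ringKrullDim_eq_of_ringEquiv e']
    exact ringKrullDim_eq_of_ringEquiv (Ideal.quotEquivOfEq (by rw [Ideal.mk_ker]))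
  replace h1 := (IsLocalization.AtPrime.ringKrullDim_eq_height q (Localization.AtPrime q)).symm.trans h1
  replace hd := (IsLocalization.AtPrime.ringKrullDim_eq_height (q.comap (Ideal.Quotient.mk I)) (Localization.AtPrime (q.comap (Ideal.Quotient.mk I)))).symm.trans hd
  have h1' : q.height = (e : ℕ∞) := WithBot.coe_inj.1 h1
  have hd' : (q.comap (Ideal.Quotient.mk I)).height = (d : ℕ∞) := WithBot.coe_inj.1 hd
  rw [h1', hd'] at hc
  exact_mod_cast (hc.symm.trans (add_comm _ _))

end Groth.Agent.SyntLCI
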