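import Groth.Agent.SyntLCI.Nhd
import Mathlib.RingTheory.QuasiFinite.Basic

/-!
# Finite syntomic algebras have square presentations
-/

set_option autoImplicit false

noncomputable section

universe u

open MvPolynomial TensorProduct IsLocalRing RingTheory.Sequence

namespace Groth.Agent.SyntLCI

variable {R : Type u} [CommRing R] {n : ℕ}

theorem isRelGCI_of_finite (F : Fin n → MvPolynomial (Fin n) R) [Module.Finite R (Synt.RelGCIRing R n n F)] :
    Synt.IsRelGCI R n n F := by
  intro p hnt
  refine ⟨le_rfl, le_antisymm ?_ ?_⟩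
  · rw [Nat.sub_self]
    have : Algebra.QuasiFinite R (Synt.RelGCIRing R n n F) := inferInstance
    have hart : IsArtinianRing (p.asIdeal.Fiber (Synt.RelGCIRing R n n F)) := inferInstance
    exact Ring.krullDimLE_iff.1 (@IsArtinianRing.instKrullDimLEOfNatNat (p.asIdeal.Fiber (Synt.RelGCIRing R n n F)) _ hart)
  · rw [Nat.sub_self]
    exact ringKrullDim_nonneg_of_nontrivial

theorem isSyntomic_of_square {S : Type u} [CommRing S] [Algebra R S] [Module.Finite R S] (F : Fin n → MvPolynomial (Fin n) R)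
    (e : S ≃ₐ[R] Synt.RelGCIRing R n n F) : Synt.IsSyntomic R S :=
  have : Module.Finite R (Synt.RelGCIRing R n n F) := Module.Finite.equiv e.toLinearEquiv
  isRelGCI_congr (isRelGCI_of_finite F) e.symm

variable {S : Type u} [CommRing S] [Algebra R S]

theorem ringKrullDim_fibre_le (q : Ideal (MvPolynomial (Fin n) R)) [q.IsPrime] :
    ringKrullDim (Localization.AtPrime q ⧸ fibIdeal q) ≤ (n : WithBot ℕ∞) := by
  obtain ⟨Q, _, hQ⟩ := exists_prime_over q (q.comap (algebraMap R (MvPolynomial (Fin n) R))) rfl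
  obtain ⟨-, ψ, hψs, hker, -⟩ := exists_fibre_map (q.comap (algebraMap R (MvPolynomial (Fin n) R))) Q
  have key : ∀ (q' : Ideal (MvPolynomial (Fin n) R)) [q'.IsPrime], q' = q →
      ringKrullDim (Localization.AtPrime q' ⧸ fibIdeal q') ≤ (n : WithBot ℕ∞) →
      ringKrullDim (Localization.AtPrime q ⧸ fibIdeal q) ≤ (n : WithBot ℕ∞) := by
    rintro q' _ rfl h; exact h
  refine key _ hQ ?_
  rw [ringKrullDim_eq_of_ringEquiv ((Ideal.quotEquivOfEq hker.symm).trans (RingHom.quotientKerEquivOfSurjective hψs)),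
    ← ringKrullDim_mvPolynomial_field (q.comap (algebraMap R (MvPolynomial (Fin n) R))).ResidueField n]
  exact ringKrullDim_localization_le Q.primeCompl _

/-- `n` elements generating near `q`. -/
theorem exists_generators_at (φ : MvPolynomial (Fin n) R →ₐ[R] S) (hφ : Function.Surjective φ)
    (hfg : (RingHom.ker φ.toRingHom).FG) (h : Synt.IsSyntomic R S) (q : Ideal (MvPolynomial (Fin n) R)) [q.IsPrime]
    (hq : RingHom.ker φ.toRingHom ≤ q) :
    ∃ a : Fin n → MvPolynomial (Fin n) R, (∀ i, a i ∈ RingHom.ker φ.toRingHom) ∧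
      (RingHom.ker φ.toRingHom).map (algebraMap _ (Localization.AtPrime q)) =
        (Ideal.span (Set.range a)).map (algebraMap _ (Localization.AtPrime q)) := by
  set I := RingHom.ker φ.toRingHom
  have := h.1
  have : Module.Flat R (MvPolynomial (Fin n) R ⧸ I) :=
    Module.Flat.of_linearEquiv (Ideal.quotientKerAlgEquivOfSurjective hφ).toLinearEquiv
  obtain ⟨r, y, hy, hle, hreg⟩ := (fibres_isLCIOver_iff φ hφ).1 h.2.2 q hq
  have hyJ := span_eq_of_fibre I hfg q y hy hle
  have hr : r ≤ n := by
    have : IsRegularLocalRing (Localization.AtPrime q ⧸ fibIdeal q) := NLAmp.isRegularLocalRing_fibre R n q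
    have h1 := dim_add_length_le _ _ _ rfl hreg
    rw [List.length_ofFn] at h1
    have hne : Ideal.ofList (List.ofFn fun i => Ideal.Quotient.mk (fibIdeal q) (y i)) ≠ ⊤ := by
      intro htop
      refine (maximalIdeal.isMaximal (Localization.AtPrime q ⧸ fibIdeal q)).ne_top (top_le_iff.1 ?_)
      rw [← htop]
      refine Ideal.span_le.2 ?_
      intro x hx
      obtain ⟨i, rfl⟩ := List.mem_ofFn.1 hx
      intro hu
      have hm : y i ∈ maximalIdeal (Localization.AtPrime q) := (Ideal.map_le_iff_le_comap.2 fun x hx => by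
        rw [Ideal.mem_comap, IsLocalization.AtPrime.to_map_mem_maximal_iff (Localization.AtPrime q) q x]
        exact hq hx : I.map (algebraMap _ (Localization.AtPrime q)) ≤ _) (hy i)
      obtain ⟨v, hv⟩ : ∃ v, Ideal.Quotient.mk (fibIdeal q) (y i) * v = 1 := IsUnit.exists_right_inv (M := Localization.AtPrime q ⧸ fibIdeal q) hu
      obtain ⟨v, rfl⟩ := Ideal.Quotient.mk_surjective v
      rw [← map_mul, ← map_one (Ideal.Quotient.mk (fibIdeal q))] at hv
      have h2 := fibIdeal_le q (Ideal.Quotient.eq.1 hv)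
      refine (maximalIdeal.isMaximal (Localization.AtPrime q)).ne_top ((Ideal.eq_top_iff_one _).2 ?_)
      simpa using sub_mem (Ideal.mul_mem_right v (maximalIdeal (Localization.AtPrime q)) hm) h2
    obtain ⟨e, he⟩ := exists_dim_quotient (R := Localization.AtPrime q ⧸ fibIdeal q) (J := Ideal.ofList (List.ofFn fun i => Ideal.Quotient.mk (fibIdeal q) (y i))) hne
    rw [he] at h1
    have h3 := h1.trans (ringKrullDim_fibre_le q)
    have : e + r ≤ n := by exact_mod_cast h3
    omega
  choose a u haI hu hau using fun i => NLAmp.exists_mem_mul q (hy i)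
  let a' : Fin n → MvPolynomial (Fin n) R := fun i => if hi : (i : ℕ) < r then a ⟨i, hi⟩ else 0
  have ha' : ∀ i, a' i ∈ I := fun i => by
    simp only [a']; split
    · exact haI _
    · exact zero_mem _
  refine ⟨a', ha', le_antisymm ?_ (Ideal.map_mono (Ideal.span_le.2 (Set.range_subset_iff.2 ha')))⟩
  rw [← hyJ]
  refine Ideal.span_le.2 ?_
  rintro _ ⟨i, rfl⟩
  refine (Ideal.mul_unit_mem_iff_mem _ (hu i)).1 ?_
  rw [← hau]
  refine Ideal.mem_map_of_mem _ (Ideal.subset_span ⟨⟨i, i.2.trans_le hr⟩, ?_⟩)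
  simp [a', i.2]

/-- Combine generators at finitely many maximal ideals. -/
theorem exists_generators_semilocal {P₀ : Type u} [CommRing P₀] {I : Ideal P₀} (hI : I.FG) {ι : Type u} [Fintype ι]
    (q : ι → Ideal P₀) (hmax : ∀ i, (q i).IsMaximal) (hinj : Function.Injective q)
    (hloc : ∀ (i : ι) [(q i).IsPrime], ∃ a : Fin n → P₀, (∀ j, a j ∈ I) ∧
      I.map (algebraMap P₀ (Localization.AtPrime (q i))) = (Ideal.span (Set.range a)).map (algebraMap P₀ (Localization.AtPrime (q i)))) :
    ∃ f : Fin n → P₀, (∀ j, f j ∈ I) ∧ ∀ i, ∃ t, t ∉ q i ∧ ∀ z ∈ I, t * z ∈ Ideal.span (Set.range f) := by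
  classical
  have hp : ∀ i, (q i).IsPrime := fun i => (hmax i).isPrime
  choose a haI ha using fun i => @hloc i (hp i)
  have hco : Pairwise (Function.onFun IsCoprime q) := fun i j hij => by
    refine Ideal.isCoprime_iff_sup_eq.2 ((hmax i).coprime_of_ne (hmax j) fun h => hij (hinj h))
  choose e he using fun i => Ideal.exists_forall_sub_mem_ideal hco (fun j => if i = j then (1 : P₀) else 0)
  let f : Fin n → P₀ := fun j => ∑ i, e i * a i j
  have hfI : ∀ j, f j ∈ I := fun j => Ideal.sum_mem _ fun i _ => Ideal.mul_mem_left _ _ (haI i j)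
  refine ⟨f, hfI, fun i => ?_⟩
  have := hp i
  let L := Localization.AtPrime (q i)
  have hdiff : ∀ j, f j - a i j ∈ q i * I := by
    intro j
    have h1 : f j - a i j = ∑ l, (e l - if l = i then 1 else 0) * a l j := by
      simp [f, sub_mul, Finset.sum_sub_distrib]
    rw [h1]
    exact Ideal.sum_mem _ fun l _ => Ideal.mul_mem_mul (he l i) (haI l j)
  have hle : I.map (algebraMap P₀ L) ≤ (Ideal.span (Set.range f)).map (algebraMap P₀ L) := by
    refine Submodule.le_of_le_smul_of_le_jacobson_bot (hI.map _) (maximalIdeal_le_jacobson ⊥) ?_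
    conv_lhs => rw [ha i, Ideal.map_span, ← Set.range_comp]
    refine Ideal.span_le.2 ?_
    rintro _ ⟨j, rfl⟩
    show algebraMap P₀ L (a i j) ∈ _
    rw [show a i j = f j - (f j - a i j) by ring, map_sub]
    refine sub_mem (Submodule.mem_sup_left (Ideal.mem_map_of_mem _ (Ideal.subset_span ⟨j, rfl⟩))) (Submodule.mem_sup_right ?_)
    rw [smul_eq_mul, ← IsLocalization.AtPrime.map_eq_maximalIdeal (q i) L, ← Ideal.map_mul]
    exact Ideal.mem_map_of_mem _ (hdiff j)
  obtain ⟨s, hs⟩ := hI
  have : ∀ z ∈ s, ∃ t, t ∉ q i ∧ t * z ∈ Ideal.span (Set.range f) := fun z hz => by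
    obtain ⟨t, ht, htz⟩ := (IsLocalization.algebraMap_mem_map_algebraMap_iff (q i).primeCompl L _ z).1
      (hle (Ideal.mem_map_of_mem _ (hs.le (Ideal.subset_span hz))))
    exact ⟨t, ht, htz⟩
  choose t ht htz using this
  refine ⟨∏ z ∈ s.attach, t z.1 z.2, fun hmem => ?_, fun z hz => ?_⟩
  · obtain ⟨z, -, hz⟩ := (Ideal.IsPrime.prod_mem_iff).mp hmem
    exact ht z.1 z.2 hz
  · rw [← hs] at hz
    induction hz using Submodule.span_induction with
    | mem z hz =>
      obtain ⟨c, hc⟩ := Finset.dvd_prod_of_mem (fun z : s => t z.1 z.2) (Finset.mem_attach s ⟨z, hz⟩)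
      rw [hc, mul_right_comm]
      exact Ideal.mul_mem_right _ _ (htz z hz)
    | zero => simp
    | add x y _ _ hx hy => rw [mul_add]; exact add_mem hx hy
    | smul c x _ hx => rw [smul_eq_mul, mul_left_comm]; exact Ideal.mul_mem_left _ _ hx

/-- Finite syntomic algebras over a local ring have square presentations. -/
theorem exists_square {A B : Type u} [CommRing A] [IsLocalRing A] [CommRing B] [Algebra A B] [Module.Finite A B]
    (h : Synt.IsSyntomic A B) : ∃ (m : ℕ) (F : Fin m → MvPolynomial (Fin m) A), Nonempty (B ≃ₐ[A] Synt.RelGCIRing A m m F) := by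
  classical
  obtain ⟨-, hfp, -⟩ := id h
  obtain ⟨N, φ, hφ, hfg⟩ := Algebra.FinitePresentation.out (R := A) (A := B)
  set I := RingHom.ker φ.toRingHom with hIdef
  let ι := {Q : Ideal B // Q.IsMaximal}
  have hfin : Finite ι := by
    have hsub : {Q : Ideal B | Q.IsMaximal} ⊆ (maximalIdeal A).primesOver B := fun Q hQ => by
      have : Q.IsMaximal := hQ
      refine ⟨hQ.isPrime, ⟨?_⟩⟩
      exact (IsLocalRing.eq_maximalIdeal (Ideal.isMaximal_comap_of_isIntegral_of_isMaximal Q)).symm
    exact ((Algebra.QuasiFinite.finite_primesOver _).subset hsub).to_subtype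
  let _ : Fintype ι := Fintype.ofFinite ι
  let q : ι → Ideal (MvPolynomial (Fin N) A) := fun Q => Q.1.comap φ.toRingHom
  have hmax : ∀ Q, (q Q).IsMaximal := fun Q =>
    have := Q.2
    Ideal.comap_isMaximal_of_surjective _ hφ
  have hinj : Function.Injective q := fun Q Q' hQQ => Subtype.ext (Ideal.comap_injective_of_surjective _ hφ hQQ)
  obtain ⟨f, hfI, hf⟩ := exists_generators_semilocal hfg q hmax hinj
    (fun Q _ => exists_generators_at φ hφ hfg h (q Q) (Ideal.comap_mono bot_le))
  let C : Ideal (MvPolynomial (Fin N) A) :=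
    { carrier := {t | ∀ z ∈ I, t * z ∈ Ideal.span (Set.range f)}
      add_mem' := fun ha hb z hz => by rw [add_mul]; exact add_mem (ha z hz) (hb z hz)
      zero_mem' := fun z _ => by simp
      smul_mem' := fun c t ht z hz => by rw [smul_eq_mul, mul_assoc]; exact Ideal.mul_mem_left _ _ (ht z hz) }
  have htop : C ⊔ I = ⊤ := by
    by_contra hne
    obtain ⟨m, hm, hle⟩ := Ideal.exists_le_maximal _ hne
    have hIm : I ≤ m := le_sup_right.trans hle
    have hmB : (m.map φ.toRingHom).IsMaximal := by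
      rcases Ideal.map_eq_top_or_isMaximal_of_surjective φ.toRingHom hφ hm with h1 | h1
      · exfalso
        have h2 := congrArg (Ideal.comap φ.toRingHom) h1
        rw [Ideal.comap_map_of_surjective φ.toRingHom hφ, Ideal.comap_top, ← RingHom.ker_eq_comap_bot] at h2
        exact hm.ne_top (by rwa [sup_eq_left.2 hIm] at h2)
      · exact h1
    have hqm : q ⟨_, hmB⟩ = m := by
      show (m.map φ.toRingHom).comap φ.toRingHom = m
      rw [Ideal.comap_map_of_surjective φ.toRingHom hφ, ← RingHom.ker_eq_comap_bot, sup_eq_left.2 hIm]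
    obtain ⟨t, ht, htI⟩ := hf ⟨_, hmB⟩
    rw [hqm] at ht
    exact ht (le_sup_left.trans hle (show t ∈ C from htI))
  obtain ⟨hh, hC, x, hx, hsum⟩ := Submodule.mem_sup.1 (htop.ge (Submodule.mem_top : (1 : MvPolynomial (Fin N) A) ∈ ⊤))
  have hφh : φ hh = 1 := by
    have := congrArg φ hsum
    rwa [map_add, show φ x = 0 from hx, add_zero, map_one] at this
  let Φ : MvPolynomial (Fin (N + 1)) A →ₐ[A] B := aeval (Fin.snoc (fun i => φ (X i)) 1)
  have hΦr : ∀ v, Φ (rename Fin.castSucc v) = φ v := by
    intro v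
    have : Φ.comp (rename Fin.castSucc) = φ := MvPolynomial.algHom_ext fun i => by simp [Φ]
    exact DFunLike.congr_fun this v
  let w : MvPolynomial (Fin (N + 1)) A := rename Fin.castSucc hh * X (Fin.last N) - 1
  let F : Fin (N + 1) → MvPolynomial (Fin (N + 1)) A := Fin.snoc (fun j => rename Fin.castSucc (f j)) w
  let K := Ideal.span (Set.range F)
  have hwK : w ∈ K := Ideal.subset_span ⟨Fin.last N, by simp [F]⟩
  have hΦw : Φ w = 0 := by simp [w, hΦr, hφh, Φ]
  refine ⟨N + 1, F, ⟨((Ideal.quotientEquivAlgOfEq A ?_).trans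
    (Ideal.quotientKerAlgEquivOfSurjective (f := Φ) (fun b => ?_))).symm⟩⟩
  swap
  · obtain ⟨v, rfl⟩ := hφ b
    exact ⟨_, hΦr v⟩
  refine le_antisymm (Ideal.span_le.2 ?_) fun u hu => ?_
  · rintro _ ⟨j, rfl⟩
    induction j using Fin.lastCases with
    | last => simp [F, RingHom.mem_ker, hΦw]
    | cast j =>
      simp only [F, Fin.snoc_castSucc]
      show Φ (rename Fin.castSucc (f j)) = 0
      rw [hΦr]
      exact hfI j
  · have hex : ∀ u, ∃ (M : ℕ) (v : MvPolynomial (Fin N) A),
        rename Fin.castSucc hh ^ M * u - rename Fin.castSucc v ∈ K := by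
      intro u
      induction u using MvPolynomial.induction_on with
      | C c => exact ⟨0, MvPolynomial.C c, by simp⟩
      | add u₁ u₂ h₁ h₂ =>
        obtain ⟨M₁, v₁, hv₁⟩ := h₁
        obtain ⟨M₂, v₂, hv₂⟩ := h₂
        refine ⟨M₁ + M₂, hh ^ M₂ * v₁ + hh ^ M₁ * v₂, ?_⟩
        convert add_mem (Ideal.mul_mem_left K (rename Fin.castSucc hh ^ M₂) hv₁)
          (Ideal.mul_mem_left K (rename Fin.castSucc hh ^ M₁) hv₂) using 1
        simp only [map_add, map_mul, map_pow, pow_add]
        ring
      | mul_X u i h₁ =>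
        obtain ⟨M, v, hv⟩ := h₁
        induction i using Fin.lastCases with
        | last =>
          refine ⟨M + 1, v, ?_⟩
          convert add_mem (Ideal.mul_mem_left K (rename Fin.castSucc hh ^ M * u) hwK) hv using 1
          simp only [w, pow_succ]
          ring
        | cast i =>
          refine ⟨M, v * X i, ?_⟩
          convert Ideal.mul_mem_right (X i.castSucc) K hv using 1
          simp only [map_mul, rename_X]
          ring
    obtain ⟨M, v, hv⟩ := hex u
    have hKker : K ≤ RingHom.ker Φ.toRingHom := Ideal.span_le.2 (by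
      rintro _ ⟨j, rfl⟩
      induction j using Fin.lastCases with
      | last => simp [F, hΦw]
      | cast j =>
        simp only [F, Fin.snoc_castSucc]
        show Φ (rename Fin.castSucc (f j)) = 0
        rw [hΦr]
        exact hfI j)
    have hvI : v ∈ I := by
      have h1 : Φ (rename Fin.castSucc hh ^ M * u - rename Fin.castSucc v) = 0 := hKker hv
      rw [map_sub, map_mul, map_pow, hΦr, hΦr, hφh, show Φ u = 0 from hu, mul_zero, zero_sub, neg_eq_zero] at h1
      exact h1
    have hhv : rename Fin.castSucc (hh * v) ∈ K := by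
      have h1 := Ideal.mem_map_of_mem (rename (R := A) (Fin.castSucc : Fin N → Fin (N + 1))).toRingHom (hC v hvI)
      rw [Ideal.map_span] at h1
      refine Ideal.span_mono ?_ h1
      rintro _ ⟨_, ⟨j, rfl⟩, rfl⟩
      exact ⟨j.castSucc, by simp [F]⟩
    have h2 : rename Fin.castSucc hh ^ (M + 1) * u ∈ K := by
      have h3 := add_mem (Ideal.mul_mem_left K (rename Fin.castSucc hh) hv) hhv
      convert h3 using 1
      simp only [map_mul, pow_succ]
      ring
    have h4 : (rename Fin.castSucc hh * X (Fin.last N)) ^ (M + 1) - 1 ∈ K := by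
      obtain ⟨c, hc⟩ := sub_dvd_pow_sub_pow (rename Fin.castSucc hh * X (Fin.last N)) 1 (M + 1)
      rw [one_pow] at hc
      rw [hc]
      exact Ideal.mul_mem_right _ _ hwK
    have h5 := sub_mem (Ideal.mul_mem_right (X (Fin.last N) ^ (M + 1)) K h2) (Ideal.mul_mem_right u K h4)
    convert h5 using 1
    ring

end Groth.Agent.SyntLCI
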