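import Groth.Agent.SyntLCI.Field
import Mathlib.RingTheory.LocalRing.ResidueField.Fiber
import Mathlib.RingTheory.TensorProduct.MvPolynomial

/-!
# Fibres of finitely presented algebras and the fibre criterion
-/

set_option autoImplicit false

noncomputable section

universe u

open IsLocalRing RingTheory.Sequence MvPolynomial TensorProduct

namespace Groth.Agent.SyntLCI

variable {A : Type u} [CommRing A] {n : ℕ}

local notation "P" => MvPolynomial (Fin n) A

theorem isWeaklyRegular_map_ringEquiv {R R' : Type u} [CommRing R] [CommRing R'] (e : R ≃+* R') {l : List R}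
    (h : IsWeaklyRegular R l) : IsWeaklyRegular R' (l.map e) := by
  letI := e.toRingHom.toAlgebra
  have : Module.Flat R R' := Module.Flat.of_linearEquiv (M := R)
    (LinearEquiv.ofBijective (Algebra.linearMap R R') e.bijective).symm
  exact h.of_flat (S := R')

theorem exists_C_mul_eq_map (p : Ideal A) [p.IsPrime] (b : MvPolynomial (Fin n) p.ResidueField) :
    ∃ s : A, s ∉ p ∧ ∃ a : P, MvPolynomial.C (algebraMap A p.ResidueField s) * b =
      MvPolynomial.map (algebraMap A p.ResidueField) a := by
  induction b using MvPolynomial.induction_on with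
  | C c =>
    obtain ⟨x, y, hy, rfl⟩ := IsFractionRing.div_surjective (A ⧸ p) c
    obtain ⟨x, rfl⟩ := Ideal.Quotient.mk_surjective x
    obtain ⟨y, rfl⟩ := Ideal.Quotient.mk_surjective y
    have hy' : y ∉ p := fun h => nonZeroDivisors.ne_zero hy (Ideal.Quotient.eq_zero_iff_mem.2 h)
    refine ⟨y, hy', MvPolynomial.C x, ?_⟩
    rw [MvPolynomial.map_C, ← map_mul]
    congr 1
    have h1 : algebraMap A p.ResidueField y ≠ 0 := fun h => hy' (Ideal.algebraMap_residueField_eq_zero.1 h)
    rw [← Ideal.Quotient.algebraMap_eq, ← IsScalarTower.algebraMap_apply, ← IsScalarTower.algebraMap_apply,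
      mul_div_cancel₀ _ h1]
  | add b₁ b₂ h₁ h₂ =>
    obtain ⟨s₁, hs₁, a₁, ha₁⟩ := h₁
    obtain ⟨s₂, hs₂, a₂, ha₂⟩ := h₂
    refine ⟨s₁ * s₂, fun h => (Ideal.IsPrime.mem_or_mem ‹_› h).elim hs₁ hs₂,
      MvPolynomial.C s₂ * a₁ + MvPolynomial.C s₁ * a₂, ?_⟩
    simp only [map_add, map_mul, MvPolynomial.map_C, ← ha₁, ← ha₂]
    ring
  | mul_X b i h =>
    obtain ⟨s, hs, a, ha⟩ := h
    exact ⟨s, hs, a * MvPolynomial.X i, by rw [map_mul, MvPolynomial.map_X, ← ha, mul_assoc]⟩

/-- The local ring of the fibre at `q` is the local ring of the affine space over the residue field. -/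
theorem exists_fibre_map (p : Ideal A) [p.IsPrime] (Q : Ideal (MvPolynomial (Fin n) p.ResidueField)) [Q.IsPrime] :
    (Q.comap (MvPolynomial.map (algebraMap A p.ResidueField))).comap (algebraMap A (MvPolynomial (Fin n) A)) = p ∧
      ∃ ψ : Localization.AtPrime (Q.comap (MvPolynomial.map (algebraMap A p.ResidueField))) →+* Localization.AtPrime Q,
        Function.Surjective ψ ∧
        RingHom.ker ψ = fibIdeal (Q.comap (MvPolynomial.map (algebraMap A p.ResidueField))) ∧
        ∀ x, ψ (algebraMap (MvPolynomial (Fin n) A) _ x) =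
          algebraMap _ (Localization.AtPrime Q) (MvPolynomial.map (algebraMap A p.ResidueField) x) := by
  set χ := MvPolynomial.map (σ := Fin n) (algebraMap A p.ResidueField) with hχ
  set q := Q.comap χ with hq
  have hp : q.comap (algebraMap A (MvPolynomial (Fin n) A)) = p := by
    ext a
    simp only [hq, Ideal.mem_comap, hχ, MvPolynomial.algebraMap_eq, MvPolynomial.map_C]
    constructor
    · intro h
      by_contra hap
      have h1 : algebraMap A p.ResidueField a ≠ 0 := fun h' => hap (Ideal.algebraMap_residueField_eq_zero.1 h')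
      exact Ideal.IsPrime.ne_top ‹Q.IsPrime› (Ideal.eq_top_of_isUnit_mem _ h ((isUnit_iff_ne_zero.2 h1).map _))
    · intro h
      rw [Ideal.algebraMap_residueField_eq_zero.2 h, map_zero]
      exact zero_mem _
  let ψ := Localization.localRingHom q Q χ hq
  have hψ : ∀ x, ψ (algebraMap (MvPolynomial (Fin n) A) _ x) = algebraMap _ (Localization.AtPrime Q) (χ x) :=
    Localization.localRingHom_to_map _ _ _ _
  have hscal : ∀ s, s ∉ p → MvPolynomial.C (algebraMap A p.ResidueField s) ∉ Q := fun s hs h => hs (by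
    rw [← hp, Ideal.mem_comap, MvPolynomial.algebraMap_eq, hq, Ideal.mem_comap, hχ, MvPolynomial.map_C]
    exact h)
  refine ⟨hp, ψ, ?_, ?_, hψ⟩
  · intro z
    obtain ⟨b, t, rfl⟩ := IsLocalization.exists_mk'_eq Q.primeCompl z
    obtain ⟨s₁, hs₁, a, ha⟩ := exists_C_mul_eq_map p b
    obtain ⟨s₂, hs₂, u, hu⟩ := exists_C_mul_eq_map p (t : MvPolynomial (Fin n) p.ResidueField)
    have hu' : MvPolynomial.C s₁ * u ∉ q := by
      rw [hq, Ideal.mem_comap, map_mul, hχ, MvPolynomial.map_C, ← hu]
      exact fun h => (Ideal.IsPrime.mem_or_mem ‹_› h).elim (hscal _ hs₁) fun h' =>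
        (Ideal.IsPrime.mem_or_mem ‹_› h').elim (hscal _ hs₂) t.2
    refine ⟨IsLocalization.mk' _ (MvPolynomial.C s₂ * a) (⟨_, hu'⟩ : q.primeCompl), ?_⟩
    rw [Localization.localRingHom_mk', IsLocalization.mk'_eq_iff_eq]
    congr 1
    simp only [map_mul, hχ, MvPolynomial.map_C, ← ha, ← hu]
    ring
  · refine le_antisymm (fun z hz => ?_) (Ideal.map_le_iff_le_comap.2 fun a ha => ?_)
    · obtain ⟨a, t, rfl⟩ := IsLocalization.exists_mk'_eq q.primeCompl z
      have h0 : algebraMap _ (Localization.AtPrime Q) (χ a) = 0 := by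
        rw [← hψ, ← IsLocalization.mk'_spec (Localization.AtPrime q) a t, map_mul, RingHom.mem_ker.1 hz, zero_mul]
      have h1 : χ a = 0 := (IsLocalization.to_map_eq_zero_iff (Localization.AtPrime Q) Q.primeCompl_le_nonZeroDivisors).1 h0
      have h2 : a ∈ p.map (algebraMap A (MvPolynomial (Fin n) A)) := by
        rw [MvPolynomial.algebraMap_eq, MvPolynomial.mem_map_C_iff]
        intro m
        have := congrArg (MvPolynomial.coeff m) h1
        rw [hχ, MvPolynomial.coeff_map, MvPolynomial.coeff_zero] at this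
        exact Ideal.algebraMap_residueField_eq_zero.1 this
      rw [fibIdeal, hp, IsScalarTower.algebraMap_eq A (MvPolynomial (Fin n) A) (Localization.AtPrime q), ← Ideal.map_map,
        IsLocalization.mk'_mem_map_algebraMap_iff]
      exact ⟨1, Submonoid.one_mem _, by rwa [one_mul]⟩
    · rw [hp] at ha
      rw [Ideal.mem_comap, RingHom.mem_ker, IsScalarTower.algebraMap_apply A (MvPolynomial (Fin n) A) (Localization.AtPrime q),
        hψ, MvPolynomial.algebraMap_eq, hχ, MvPolynomial.map_C, Ideal.algebraMap_residueField_eq_zero.2 ha, map_zero, map_zero]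

theorem fibReg_iff_isCIIdeal (I : Ideal (MvPolynomial (Fin n) A)) (p : Ideal A) [p.IsPrime]
    (Q : Ideal (MvPolynomial (Fin n) p.ResidueField)) [Q.IsPrime]
    (hIQ : I.map (MvPolynomial.map (algebraMap A p.ResidueField)) ≤ Q) :
    FibReg I (Q.comap (MvPolynomial.map (algebraMap A p.ResidueField))) ↔
      IsCIIdeal ((I.map (MvPolynomial.map (algebraMap A p.ResidueField))).map (algebraMap _ (Localization.AtPrime Q))) := by
  obtain ⟨hp, ψ, hψs, hker, hψ⟩ := exists_fibre_map p Q
  set q := Q.comap (MvPolynomial.map (σ := Fin n) (algebraMap A p.ResidueField))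
  have hmap : (I.map (algebraMap (MvPolynomial (Fin n) A) (Localization.AtPrime q))).map ψ =
      (I.map (MvPolynomial.map (algebraMap A p.ResidueField))).map (algebraMap _ (Localization.AtPrime Q)) := by
    rw [Ideal.map_map, Ideal.map_map]
    congr 1
    exact RingHom.ext hψ
  let e : (Localization.AtPrime q ⧸ fibIdeal q) ≃+* Localization.AtPrime Q :=
    (Ideal.quotEquivOfEq hker.symm).trans (RingHom.quotientKerEquivOfSurjective hψs)
  have he : ∀ z, e (Ideal.Quotient.mk (fibIdeal q) z) = ψ z := fun z => rfl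
  have hloc : IsLocalRing (Localization.AtPrime q ⧸ fibIdeal q) := e.symm.isLocalRing
  rw [← hmap]
  constructor
  · rintro ⟨r, y, hy, hle, hreg⟩
    refine ⟨fun h => (maximalIdeal.isMaximal _).ne_top (top_le_iff.1 (h ▸ hmap ▸ map_le_maximal hIQ)),
      List.ofFn fun i => ψ (y i), ?_, ?_⟩
    · rw [ofList_ofFn', Set.range_comp' ψ y, ← Ideal.map_span]
      refine le_antisymm (Ideal.map_mono (Ideal.span_le.2 (Set.range_subset_iff.2 hy))) ?_
      refine (Ideal.map_mono hle).trans ?_
      rw [Ideal.map_sup, ← hker, show (RingHom.ker ψ).map ψ = ⊥ from (Ideal.map_eq_bot_iff_le_ker ψ).2 le_rfl, sup_bot_eq]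
    · have h := isWeaklyRegular_map_ringEquiv (R := Localization.AtPrime q ⧸ fibIdeal q)
        (R' := Localization.AtPrime Q) e hreg
      rw [List.map_ofFn] at h
      exact h
  · rintro ⟨-, l, hl, hreg⟩
    choose y hy hyl using fun i : Fin l.length => (Ideal.mem_map_iff_of_surjective ψ hψs).1 (hl.le (Ideal.subset_span (List.get_mem l i)))
    refine ⟨l.length, y, hy, ?_, ?_⟩
    · intro z hz
      have h1 : ψ z ∈ (Ideal.span (Set.range y)).map ψ := by
        rw [Ideal.map_span, ← Set.range_comp, show ψ ∘ y = l.get from funext hyl, ← ofList_ofFn', List.ofFn_get, hl]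
        exact Ideal.mem_map_of_mem _ hz
      rw [← Ideal.mem_comap, Ideal.comap_map_of_surjective _ hψs, ← RingHom.ker_eq_comap_bot, hker] at h1
      exact h1
    · have h := isWeaklyRegular_map_ringEquiv (R := Localization.AtPrime Q)
        (R' := Localization.AtPrime q ⧸ fibIdeal q) e.symm hreg
      rw [← List.ofFn_get l, List.map_ofFn] at h
      have hf : (fun i => Ideal.Quotient.mk (fibIdeal q) (y i)) = e.symm ∘ l.get := by
        funext i
        show _ = e.symm (l.get i)
        rw [e.eq_symm_apply, he, hyl]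
      rw [hf]
      exact h

variable {S : Type u} [CommRing S] [Algebra A S]

theorem exists_fibre_pres (φ : MvPolynomial (Fin n) A →ₐ[A] S) (hφ : Function.Surjective φ) (p : Ideal A) [p.IsPrime] :
    ∃ φp : MvPolynomial (Fin n) p.ResidueField →ₐ[p.ResidueField] p.Fiber S, Function.Surjective φp ∧
      RingHom.ker φp.toRingHom = (RingHom.ker φ.toRingHom).map (MvPolynomial.map (algebraMap A p.ResidueField)) ∧
      ∀ x, φp (MvPolynomial.map (algebraMap A p.ResidueField) x) = (1 : p.ResidueField) ⊗ₜ[A] φ x := by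
  let e := MvPolynomial.algebraTensorAlgEquiv A p.ResidueField (σ := Fin n)
  let g : p.ResidueField ⊗[A] MvPolynomial (Fin n) A →ₐ[p.ResidueField] p.Fiber S :=
    Algebra.TensorProduct.map (AlgHom.id p.ResidueField p.ResidueField) φ
  have hg : RingHom.ker g.toRingHom =
      (RingHom.ker φ.toRingHom).map (Algebra.TensorProduct.includeRight : _ →ₐ[A] p.ResidueField ⊗[A] MvPolynomial (Fin n) A).toRingHom :=
    Algebra.TensorProduct.lTensor_ker φ hφ
  have hgs : Function.Surjective g := LinearMap.lTensor_surjective _ hφ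
  refine ⟨g.comp e.symm.toAlgHom, hgs.comp e.symm.surjective, ?_, fun x => ?_⟩
  swap
  · show g (e.symm (MvPolynomial.map (algebraMap A p.ResidueField) x)) = _
    rw [MvPolynomial.algebraTensorAlgEquiv_symm_map]
    simp [g]
  rw [show RingHom.ker (g.comp e.symm.toAlgHom).toRingHom = (RingHom.ker g.toRingHom).comap e.symm.toAlgHom.toRingHom from
    (RingHom.comap_ker _ _).symm, hg]
  have hc : e.symm.toAlgHom.toRingHom.comp (MvPolynomial.map (algebraMap A p.ResidueField)) =
      (Algebra.TensorProduct.includeRight : _ →ₐ[A] p.ResidueField ⊗[A] MvPolynomial (Fin n) A).toRingHom :=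
    RingHom.ext fun x => MvPolynomial.algebraTensorAlgEquiv_symm_map A p.ResidueField x
  rw [← hc, ← Ideal.map_map]
  exact Ideal.comap_map_of_bijective e.symm.toAlgHom.toRingHom e.symm.bijective

theorem exists_prime_over (q : Ideal (MvPolynomial (Fin n) A)) [q.IsPrime] (p : Ideal A) [p.IsPrime]
    (hp : q.comap (algebraMap A (MvPolynomial (Fin n) A)) = p) :
    ∃ Q : Ideal (MvPolynomial (Fin n) p.ResidueField), Q.IsPrime ∧
      Q.comap (MvPolynomial.map (algebraMap A p.ResidueField)) = q := by
  let f : p.ResidueField →+* q.ResidueField := Ideal.ResidueField.map p q (algebraMap A (MvPolynomial (Fin n) A)) hp.symm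
  let ev : MvPolynomial (Fin n) p.ResidueField →+* q.ResidueField :=
    MvPolynomial.eval₂Hom f fun i => algebraMap (MvPolynomial (Fin n) A) q.ResidueField (MvPolynomial.X i)
  refine ⟨RingHom.ker ev, RingHom.ker_isPrime ev, ?_⟩
  have hc : ev.comp (MvPolynomial.map (algebraMap A p.ResidueField)) = algebraMap (MvPolynomial (Fin n) A) q.ResidueField := by
    ext x
    · simp only [RingHom.comp_apply, ev, MvPolynomial.map_C, MvPolynomial.eval₂Hom_C, f]
      exact IsLocalRing.ResidueField.map_residue _ _ |>.trans (by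
        rw [Localization.localRingHom_to_map, ← MvPolynomial.algebraMap_eq]; rfl)
    · simp [ev]
  rw [RingHom.comap_ker, hc, Ideal.ker_algebraMap_residueField]

/-- All fibres are local complete intersections iff all points satisfy the fibre criterion. -/
theorem fibres_isLCIOver_iff (φ : MvPolynomial (Fin n) A →ₐ[A] S) (hφ : Function.Surjective φ) :
    (∀ p : PrimeSpectrum A, Synt.IsLCIOver p.asIdeal.ResidueField (p.asIdeal.Fiber S)) ↔
      ∀ (q : Ideal (MvPolynomial (Fin n) A)) [q.IsPrime], RingHom.ker φ.toRingHom ≤ q → FibReg (RingHom.ker φ.toRingHom) q := by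
  constructor
  · intro h q _ hq
    obtain ⟨Q, _, hQ⟩ := exists_prime_over q (q.comap (algebraMap A (MvPolynomial (Fin n) A))) rfl
    obtain ⟨φp, hφp, hker, -⟩ := exists_fibre_pres φ hφ (q.comap (algebraMap A (MvPolynomial (Fin n) A)))
    have hle : RingHom.ker φp.toRingHom ≤ Q := by
      rw [hker, Ideal.map_le_iff_le_comap, hQ]; exact hq
    have : Module.Flat (q.comap (algebraMap A (MvPolynomial (Fin n) A))).ResidueField
        (MvPolynomial (Fin n) (q.comap (algebraMap A (MvPolynomial (Fin n) A))).ResidueField ⧸ RingHom.ker φp.toRingHom) :=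
      have := Module.Free.of_divisionRing (q.comap (algebraMap A (MvPolynomial (Fin n) A))).ResidueField
        (MvPolynomial (Fin n) (q.comap (algebraMap A (MvPolynomial (Fin n) A))).ResidueField ⧸ RingHom.ker φp.toRingHom)
      Module.Flat.of_free
    have hci := (fibReg_iff _ Q hle).1 ((isKoszulRegularIdeal_iff_fibReg _ (IsNoetherian.noetherian _)).1
      ((isCIOver_all_iff_isKoszulRegularIdeal φp hφp).1
        ((isLCIOver_iff_atPrime _ _).1 (h ⟨q.comap (algebraMap A (MvPolynomial (Fin n) A)), inferInstance⟩)).2) Q hle)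
    rw [hker] at hci hle
    have key : ∀ (q' : Ideal (MvPolynomial (Fin n) A)) [q'.IsPrime], q' = q → FibReg (RingHom.ker φ.toRingHom) q' →
        FibReg (RingHom.ker φ.toRingHom) q := by rintro q' _ rfl h'; exact h'
    exact key _ hQ ((fibReg_iff_isCIIdeal _ _ Q hle).2 hci)
  · intro h p
    obtain ⟨φp, hφp, hker, -⟩ := exists_fibre_pres φ hφ p.asIdeal
    have hft : Algebra.FiniteType p.asIdeal.ResidueField (p.asIdeal.Fiber S) := .of_surjective φp hφp
    refine (isLCIOver_iff_atPrime _ _).2 ⟨hft, (isCIOver_all_iff_isKoszulRegularIdeal φp hφp).2 ?_⟩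
    refine isKoszulRegularIdeal_of_ci _ fun Q _ hle => ?_
    rw [hker] at hle ⊢
    exact (fibReg_iff_isCIIdeal _ _ Q hle).1 (h _ (Ideal.map_le_iff_le_comap.1 hle))

/-- Syntomic means flat and a local complete intersection. -/
theorem isSyntomic_iff (R S : Type u) [CommRing R] [CommRing S] [Algebra R S] :
    Synt.IsSyntomic R S ↔ Module.Flat R S ∧ LCI.IsLCI R S := by
  constructor
  · rintro ⟨hflat, hfp, h⟩
    obtain ⟨m, φ, hφ, hfg⟩ := Algebra.FinitePresentation.out (R := R) (A := S)
    have : Module.Flat R (MvPolynomial (Fin m) R ⧸ RingHom.ker φ.toRingHom) :=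
      Module.Flat.of_linearEquiv (Ideal.quotientKerAlgEquivOfSurjective hφ).toLinearEquiv
    exact ⟨hflat, .of_surjective φ hφ, m, φ, hφ,
      isKoszulRegularIdeal_of_fibReg _ hfg ((fibres_isLCIOver_iff φ hφ).1 h)⟩
  · rintro ⟨hflat, -, m, φ, hφ, hI⟩
    have hfg := (NLAmp.hasLocalBases_of_isKoszulRegularIdeal hI).fg
    have : Module.Flat R (MvPolynomial (Fin m) R ⧸ RingHom.ker φ.toRingHom) :=
      Module.Flat.of_linearEquiv (Ideal.quotientKerAlgEquivOfSurjective hφ).toLinearEquiv
    exact ⟨hflat, .of_surjective (f := φ) hφ hfg, (fibres_isLCIOver_iff φ hφ).2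
      ((isKoszulRegularIdeal_iff_fibReg _ hfg).1 hI)⟩

end Groth.Agent.SyntLCI
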