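import Groth.Agent.SyntLCI.Nhd

/-!
# Relative global complete intersections from fibre dimensions
-/

set_option autoImplicit false

noncomputable section

universe u

open IsLocalRing RingTheory.Sequence MvPolynomial TensorProduct

namespace Groth.Agent.SyntLCI

variable {R : Type u} [CommRing R] {n c : ℕ}

/-- Regularity in a fibre of the expected dimension. -/
theorem fibre_regular_of_dim (F : Fin c → MvPolynomial (Fin n) R) (p : Ideal R) [p.IsPrime]
    (hd : ringKrullDim (MvPolynomial (Fin n) p.ResidueField ⧸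
      Ideal.span (Set.range fun i => MvPolynomial.map (algebraMap R p.ResidueField) (F i))) + c ≤ (n : WithBot ℕ∞))
    (q : Ideal (MvPolynomial (Fin n) R)) [q.IsPrime] (hp : q.comap (algebraMap R (MvPolynomial (Fin n) R)) = p)
    (hq : Ideal.span (Set.range F) ≤ q) :
    IsWeaklyRegular (Localization.AtPrime q ⧸ fibIdeal q)
      (List.ofFn fun i => Ideal.Quotient.mk (fibIdeal q) (algebraMap _ (Localization.AtPrime q) (F i))) := by
  obtain ⟨Q, _, hQ⟩ := exists_prime_over q p hp
  have key : ∀ (q' : Ideal (MvPolynomial (Fin n) R)) [q'.IsPrime], q' = q →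
      IsWeaklyRegular (Localization.AtPrime q' ⧸ fibIdeal q')
        (List.ofFn fun i => Ideal.Quotient.mk (fibIdeal q') (algebraMap _ (Localization.AtPrime q') (F i))) →
      IsWeaklyRegular (Localization.AtPrime q ⧸ fibIdeal q)
        (List.ofFn fun i => Ideal.Quotient.mk (fibIdeal q) (algebraMap _ (Localization.AtPrime q) (F i))) := by
    rintro q' _ rfl h'; exact h'
  refine key _ hQ ?_
  let G : Fin c → MvPolynomial (Fin n) p.ResidueField := fun i => MvPolynomial.map (algebraMap R p.ResidueField) (F i)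
  have hGQ : Ideal.span (Set.range G) ≤ Q := Ideal.span_le.2 (by
    rintro _ ⟨i, rfl⟩
    show F i ∈ Q.comap (MvPolynomial.map (algebraMap R p.ResidueField))
    rw [hQ]
    exact hq (Ideal.subset_span ⟨i, rfl⟩))
  have hregQ : IsWeaklyRegular (Localization.AtPrime Q) ((List.ofFn G).map (algebraMap _ (Localization.AtPrime Q))) :=
    isWeaklyRegular_field (Ideal.Quotient.mkₐ _ (Ideal.span (Set.range G))) Ideal.Quotient.mk_surjective G
      Ideal.mk_ker.symm hd Q hGQ
  obtain ⟨-, ψ, hψs, hψker, hψ⟩ := exists_fibre_map p Q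
  set q₀ := Q.comap (MvPolynomial.map (σ := Fin n) (algebraMap R p.ResidueField))
  let e : (Localization.AtPrime q₀ ⧸ fibIdeal q₀) ≃+* Localization.AtPrime Q :=
    (Ideal.quotEquivOfEq hψker.symm).trans (RingHom.quotientKerEquivOfSurjective hψs)
  have : IsLocalRing (Localization.AtPrime q₀ ⧸ fibIdeal q₀) := e.symm.isLocalRing
  have h1 := isWeaklyRegular_map_ringEquiv (R := Localization.AtPrime Q) (R' := Localization.AtPrime q₀ ⧸ fibIdeal q₀) e.symm hregQ
  rw [List.map_ofFn, List.map_ofFn] at h1
  have hf : (fun i => Ideal.Quotient.mk (fibIdeal q₀) (algebraMap _ (Localization.AtPrime q₀) (F i))) =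
      ⇑e.symm ∘ ⇑(algebraMap _ (Localization.AtPrime Q)) ∘ G := funext fun i => by
    show _ = e.symm (algebraMap _ (Localization.AtPrime Q) (G i))
    rw [e.eq_symm_apply]
    exact hψ (F i)
  rw [hf]
  exact h1

theorem isRelGCI_of_span_eq {F F' : Fin c → MvPolynomial (Fin n) R} (h : Ideal.span (Set.range F) = Ideal.span (Set.range F'))
    (hF : Synt.IsRelGCI R n c F) : Synt.IsRelGCI R n c F' := by
  intro p hnt
  let e : Synt.RelGCIRing R n c F ≃ₐ[R] Synt.RelGCIRing R n c F' := Ideal.quotientEquivAlgOfEq R h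
  let e' := Algebra.TensorProduct.congr (AlgEquiv.refl (R := R) (A₁ := p.asIdeal.ResidueField)) e
  have hnt' : Nontrivial (p.asIdeal.Fiber (Synt.RelGCIRing R n c F)) := e'.toEquiv.nontrivial
  obtain ⟨h1, h2⟩ := hF p hnt'
  refine ⟨h1, ?_⟩
  rw [← ringKrullDim_eq_of_ringEquiv (R := p.asIdeal.Fiber (Synt.RelGCIRing R n c F))
    (S := p.asIdeal.Fiber (Synt.RelGCIRing R n c F')) e'.toRingEquiv, h2]

/-- One basic open containing all the fibre points under consideration. -/
theorem exists_relGCI_locus (F : Fin c → MvPolynomial (Fin n) R) (J₀ : Ideal (MvPolynomial (Fin n) R))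
    (M : Submonoid (MvPolynomial (Fin n) R))
    (H : ∀ (q : Ideal (MvPolynomial (Fin n) R)) [q.IsPrime], Ideal.span (Set.range F) ⊔ J₀ ≤ q →
      Disjoint (q : Set (MvPolynomial (Fin n) R)) (M : Set (MvPolynomial (Fin n) R)) →
      IsWeaklyRegular (Localization.AtPrime q ⧸ fibIdeal q)
        (List.ofFn fun i => Ideal.Quotient.mk (fibIdeal q) (algebraMap _ (Localization.AtPrime q) (F i)))) :
    ∃ h : MvPolynomial (Fin n) R, (∃ s ∈ M, h - s ∈ Ideal.span (Set.range F) ⊔ J₀) ∧
      Synt.IsRelGCI R (n + 1) (c + 1)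
        (Fin.snoc (fun i => rename Fin.castSucc (F i)) (rename Fin.castSucc h * X (Fin.last n) - 1)) ∧
      Nonempty (Localization.Away (Ideal.Quotient.mk (Ideal.span (Set.range F)) h) ≃ₐ[R]
        Synt.RelGCIRing R (n + 1) (c + 1)
          (Fin.snoc (fun i => rename Fin.castSucc (F i)) (rename Fin.castSucc h * X (Fin.last n) - 1))) := by
  set I := Ideal.span (Set.range F)
  let good : Set (MvPolynomial (Fin n) R) := {g | ∀ (q' : Ideal (MvPolynomial (Fin n) R)) [q'.IsPrime], g ∉ q' →
    FlatSlice.Sliced R (List.ofFn F) (LocalizedModule q'.primeCompl (MvPolynomial (Fin n) R))}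
  let G := Ideal.span good
  obtain ⟨s, hsM, hsG⟩ : ∃ s ∈ M, s ∈ G ⊔ (I ⊔ J₀) := by
    by_contra hno
    push Not at hno
    obtain ⟨q, hq, hle, hdis⟩ := Ideal.exists_le_prime_disjoint (G ⊔ (I ⊔ J₀)) M
      (Set.disjoint_left.2 fun x hx hxM => hno x hxM hx)
    have h1 := H q (le_sup_right.trans hle) hdis
    let S := Localization.AtPrime q
    have h2 : IsWeaklyRegular (S ⧸ fibIdeal q) ((List.ofFn F).map (algebraMap (MvPolynomial (Fin n) R) (S ⧸ fibIdeal q))) := by
      rw [List.map_ofFn]; exact h1
    rw [isWeaklyRegular_map_algebraMap_iff] at h2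
    let pP := (q.comap (algebraMap R (MvPolynomial (Fin n) R))).map (algebraMap R (MvPolynomial (Fin n) R))
    have hsub : (pP • ⊤ : Submodule (MvPolynomial (Fin n) R) S) = (fibIdeal q).restrictScalars (MvPolynomial (Fin n) R) := by
      rw [Ideal.smul_top_eq_map, Ideal.map_map, ← IsScalarTower.algebraMap_eq]
      rfl
    have hreg2 : IsWeaklyRegular (S ⧸ (pP • ⊤ : Submodule (MvPolynomial (Fin n) R) S)) (List.ofFn F) :=
      (((Submodule.quotEquivOfEq _ _ hsub).trans
        (Submodule.Quotient.restrictScalarsEquiv (MvPolynomial (Fin n) R) (fibIdeal q))).isWeaklyRegular_congr _).2 h2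
    have : Module.Flat R S := by
      have : Module.Flat (MvPolynomial (Fin n) R) S := IsLocalization.flat S q.primeCompl
      exact Module.Flat.trans R (MvPolynomial (Fin n) R) S
    let e := IsLocalizedModule.iso q.primeCompl (Algebra.linearMap (MvPolynomial (Fin n) R) S)
    have : Module.Flat R (LocalizedModule q.primeCompl (MvPolynomial (Fin n) R)) :=
      Module.Flat.of_linearEquiv (e.restrictScalars R)
    have hreg' := ((Submodule.Quotient.equiv _
      (pP • (⊤ : Submodule (MvPolynomial (Fin n) R) (LocalizedModule q.primeCompl (MvPolynomial (Fin n) R)))) e.symm (by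
        rw [Submodule.map_smul'', Submodule.map_top, LinearEquiv.range])).isWeaklyRegular_congr _).1 hreg2
    obtain ⟨g, hg, hgood⟩ := FlatSlice.exists_sliced_pointwise (R := R) (List.ofFn F) (MvPolynomial (Fin n) R) q hreg'
    exact hg (le_sup_left.trans hle (Ideal.subset_span (show g ∈ good from hgood)))
  obtain ⟨h, hh, z, hz, hsum⟩ := Submodule.mem_sup.1 hsG
  refine ⟨h, ⟨s, hsM, ?_⟩, ?_⟩
  · rw [show h - s = -z by rw [← hsum]; ring]
    exact neg_mem hz
  have hsl : FlatSlice.Sliced R (List.ofFn F) (Localization.Away h) :=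
    (FlatSlice.sliced_away h _ (MvPolynomial (Fin n) R) fun q' hq' hhq' => by
      obtain ⟨g, hg, hgq'⟩ : ∃ g ∈ good, g ∉ q' := by
        by_contra hno
        push Not at hno
        exact hhq' (Ideal.span_le.2 hno hh)
      exact hg q' hgq').congr
        (IsLocalizedModule.iso (Submonoid.powers h) (Algebra.linearMap (MvPolynomial (Fin n) R) (Localization.Away h)))
  obtain ⟨hgci, -, ⟨e⟩⟩ := isRelGCI_away h F hsl
  have hspan : Ideal.span (Set.range (Fin.cons (rename Fin.castSucc h * X (Fin.last n) - 1) (fun i => rename Fin.castSucc (F i)) :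
      Fin (c + 1) → MvPolynomial (Fin (n + 1)) R)) =
      Ideal.span (Set.range (Fin.snoc (fun i => rename Fin.castSucc (F i)) (rename Fin.castSucc h * X (Fin.last n) - 1) :
      Fin (c + 1) → MvPolynomial (Fin (n + 1)) R)) := by
    rw [Fin.range_cons, Fin.range_snoc]
  have : IsLocalization ((Submonoid.powers h).map (Ideal.Quotient.mkₐ R I).toRingHom) (Localization.Away (Ideal.Quotient.mk I h)) := by
    rw [Submonoid.map_powers]
    exact inferInstanceAs (IsLocalization (Submonoid.powers (Ideal.Quotient.mk I h)) _)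
  obtain ⟨π, hπ, -, hπker⟩ := exists_localizationMap (Ideal.Quotient.mkₐ R I) Ideal.Quotient.mk_surjective
    (Submonoid.powers h) (Localization.Away h) (Localization.Away (Ideal.Quotient.mk I h))
  rw [show RingHom.ker (Ideal.Quotient.mkₐ R I).toRingHom = I from Ideal.mk_ker] at hπker
  refine ⟨isRelGCI_of_span_eq hspan hgci, ⟨?_⟩⟩
  exact (((Ideal.quotientKerAlgEquivOfSurjective hπ).symm.trans (Ideal.quotientEquivAlgOfEq R hπker)).trans e.symm).trans
    (Ideal.quotientEquivAlgOfEq R hspan)

theorem fibre_quotient_dim (F : Fin c → MvPolynomial (Fin n) R) (p : Ideal R) [p.IsPrime] :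
    ringKrullDim (MvPolynomial (Fin n) p.ResidueField ⧸
      Ideal.span (Set.range fun i => MvPolynomial.map (algebraMap R p.ResidueField) (F i))) =
    ringKrullDim (p.Fiber (Synt.RelGCIRing R n c F)) := by
  obtain ⟨φp, hφp, hker, -⟩ := exists_fibre_pres (Ideal.Quotient.mkₐ R (Ideal.span (Set.range F))) Ideal.Quotient.mk_surjective p
  rw [show RingHom.ker (Ideal.Quotient.mkₐ R (Ideal.span (Set.range F))).toRingHom = Ideal.span (Set.range F) from Ideal.mk_ker,
    Ideal.map_span, ← Set.range_comp] at hker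
  rw [ringKrullDim_eq_of_ringEquiv (Ideal.quotEquivOfEq (show Ideal.span (Set.range fun i =>
      MvPolynomial.map (algebraMap R p.ResidueField) (F i)) = RingHom.ker φp.toRingHom from hker.symm))]
  exact ringKrullDim_eq_of_ringEquiv (S := p.Fiber (Synt.RelGCIRing R n c F))
    (RingHom.quotientKerEquivOfSurjective (f := φp.toRingHom) hφp)

/-- The fibre dimension does not depend on whether it is computed over `R` or over `R/I`. -/
theorem fibre_quotient_dim_reduce (F : Fin c → MvPolynomial (Fin n) R) (I : Ideal R) (p : Ideal R) [p.IsPrime]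
    (p' : Ideal (R ⧸ I)) [p'.IsPrime] (hp : p'.comap (Ideal.Quotient.mk I) = p) :
    ringKrullDim (MvPolynomial (Fin n) p.ResidueField ⧸
      Ideal.span (Set.range fun i => MvPolynomial.map (algebraMap R p.ResidueField) (F i))) =
    ringKrullDim (MvPolynomial (Fin n) p'.ResidueField ⧸
      Ideal.span (Set.range fun i => MvPolynomial.map (algebraMap (R ⧸ I) p'.ResidueField)
        (MvPolynomial.map (Ideal.Quotient.mk I) (F i)))) := by
  let f := Ideal.ResidueField.map p p' (Ideal.Quotient.mk I) hp.symm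
  have hf : Function.Bijective f :=
    RingHom.SurjectiveOnStalks.residueFieldMap_bijective
      (RingHom.surjectiveOnStalks_of_surjective Ideal.Quotient.mk_surjective) p p' hp.symm
  let ef : p.ResidueField ≃+* p'.ResidueField := RingEquiv.ofBijective f hf
  refine ringKrullDim_eq_of_ringEquiv (Ideal.quotientEquiv _ _ (MvPolynomial.mapEquiv (Fin n) ef) ?_)
  rw [Ideal.map_span, ← Set.range_comp]
  congr 2
  funext i
  show _ = MvPolynomial.map (ef : p.ResidueField →+* p'.ResidueField) (MvPolynomial.map (algebraMap R p.ResidueField) (F i))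
  rw [MvPolynomial.map_map, MvPolynomial.map_map]
  congr 2
  ext a
  exact (IsLocalRing.ResidueField.map_residue _ _ |>.trans (by rw [Localization.localRingHom_to_map]; rfl)).symm

end Groth.Agent.SyntLCI
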