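import Groth.Agent.SyntLCI.Nhd
import Groth.Agent.SyntLCI.Local

/-!
# Syntomic points seen on the reduction modulo an ideal of the base
-/

set_option autoImplicit false

noncomputable section

universe u

open IsLocalRing RingTheory.Sequence MvPolynomial

namespace Groth.Agent.SyntLCI

variable {A : Type u} [CommRing A] {n : ℕ}

/-- The local rings of the fibre, over `A` and over `A ⧸ I`. -/
theorem exists_red_localRing (I : Ideal A) (q' : Ideal (MvPolynomial (Fin n) (A ⧸ I))) [q'.IsPrime] :
    ∃ (ψ : Localization.AtPrime (q'.comap (MvPolynomial.map (Ideal.Quotient.mk I))) →+* Localization.AtPrime q')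
      (e : (Localization.AtPrime (q'.comap (MvPolynomial.map (Ideal.Quotient.mk I))) ⧸
          fibIdeal (q'.comap (MvPolynomial.map (Ideal.Quotient.mk I)))) ≃+* (Localization.AtPrime q' ⧸ fibIdeal q')),
      Function.Surjective ψ ∧
      (∀ x, ψ (algebraMap (MvPolynomial (Fin n) A) _ x) = algebraMap _ _ (MvPolynomial.map (Ideal.Quotient.mk I) x)) ∧
      (∀ x, e (Ideal.Quotient.mk _ x) = Ideal.Quotient.mk _ (ψ x)) ∧
      (fibIdeal q').comap ψ = fibIdeal (q'.comap (MvPolynomial.map (Ideal.Quotient.mk I))) := by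
  set μ := MvPolynomial.map (σ := Fin n) (Ideal.Quotient.mk I) with hμ
  set q := q'.comap μ with hq
  have hμs : Function.Surjective μ := MvPolynomial.map_surjective _ Ideal.Quotient.mk_surjective
  let ψ := Localization.localRingHom q q' μ rfl
  have hψ : ∀ x, ψ (algebraMap (MvPolynomial (Fin n) A) _ x) = algebraMap _ (Localization.AtPrime q') (μ x) :=
    fun x => Localization.localRingHom_to_map q q' μ rfl x
  have hloc : IsLocalization (q.primeCompl.map μ) (Localization.AtPrime q') :=
    cast (congrArg (fun M => IsLocalization M (Localization.AtPrime q')) (map_primeCompl_comap μ hμs q').symm)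
      Localization.isLocalization
  have hψs : Function.Surjective ψ := IsLocalization.map_surjective_of_surjective _ _ _ hμs
  have hIp : I ≤ q.comap (algebraMap A (MvPolynomial (Fin n) A)) := fun a ha => by
    rw [Ideal.mem_comap, hq, Ideal.mem_comap, hμ, MvPolynomial.algebraMap_eq, MvPolynomial.map_C,
      Ideal.Quotient.eq_zero_iff_mem.2 ha, map_zero]
    exact zero_mem _
  have hker : RingHom.ker ψ ≤ fibIdeal q := by
    rw [show RingHom.ker ψ = (RingHom.ker μ).map (algebraMap _ (Localization.AtPrime q)) from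
      IsLocalization.ker_map (Localization.AtPrime q') μ rfl,
      show RingHom.ker μ = I.map MvPolynomial.C from (MvPolynomial.ker_map _).trans (congrArg _ Ideal.mk_ker), Ideal.map_map]
    exact (Ideal.map_mono hIp).trans (le_of_eq (by
      rw [fibIdeal, IsScalarTower.algebraMap_eq A (MvPolynomial (Fin n) A) (Localization.AtPrime q)]; rfl))
  have hfib : (fibIdeal q).map ψ = fibIdeal q' := by
    have hp : (q'.comap (algebraMap (A ⧸ I) (MvPolynomial (Fin n) (A ⧸ I)))).comap (Ideal.Quotient.mk I) =
        q.comap (algebraMap A (MvPolynomial (Fin n) A)) := by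
      ext a
      simp only [hq, Ideal.mem_comap, MvPolynomial.algebraMap_eq, hμ, MvPolynomial.map_C]
    rw [fibIdeal, fibIdeal, Ideal.map_map, ← hp]
    conv_rhs => rw [← Ideal.map_comap_of_surjective (Ideal.Quotient.mk I) Ideal.Quotient.mk_surjective
      (q'.comap (algebraMap (A ⧸ I) (MvPolynomial (Fin n) (A ⧸ I)))), Ideal.map_map]
    congr 1
    ext a
    simp only [RingHom.comp_apply]
    rw [IsScalarTower.algebraMap_apply A (MvPolynomial (Fin n) A) (Localization.AtPrime q), hψ,
      IsScalarTower.algebraMap_apply (A ⧸ I) (MvPolynomial (Fin n) (A ⧸ I)) (Localization.AtPrime q'),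
      MvPolynomial.algebraMap_eq, MvPolynomial.algebraMap_eq, hμ, MvPolynomial.map_C]
  have hcomap : (fibIdeal q').comap ψ = fibIdeal q := by
    rw [← hfib, Ideal.comap_map_of_surjective _ hψs, ← RingHom.ker_eq_comap_bot]
    exact sup_eq_left.2 hker
  let f := (Ideal.Quotient.mk (fibIdeal q')).comp ψ
  have hfk : RingHom.ker f = fibIdeal q := by
    rw [← RingHom.comap_ker, Ideal.mk_ker, hcomap]
  let e := (Ideal.quotEquivOfEq hfk.symm).trans
    (RingHom.quotientKerEquivOfSurjective (f := f) (Ideal.Quotient.mk_surjective.comp hψs))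
  exact ⟨ψ, e, hψs, hψ, fun x => rfl, hcomap⟩

/-- A flat point over `V(I)` of a finitely presented algebra with syntomic reduction has a syntomic neighbourhood. -/
theorem exists_syntomic_nhd_of_reduction (I : Ideal A) {S T : Type u} [CommRing S] [Algebra A S]
    [Algebra.FinitePresentation A S] [CommRing T] [Algebra A T] [Algebra (A ⧸ I) T] [IsScalarTower A (A ⧸ I) T]
    (τ : S →ₐ[A] T) (hτ : Function.Surjective τ) (hker : RingHom.ker τ.toRingHom = I.map (algebraMap A S))
    (hT : Synt.IsSyntomic (A ⧸ I) T) (q : Ideal S) [q.IsPrime] [Module.Flat A (Localization.AtPrime q)]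
    (hIq : I.map (algebraMap A S) ≤ q) :
    ∃ h : S, h ∉ q ∧ Synt.IsSyntomic A (Localization.Away h) := by
  obtain ⟨m, φ, hφ, hfg⟩ := Algebra.FinitePresentation.out (R := A) (A := S)
  let μ := MvPolynomial.map (σ := Fin m) (Ideal.Quotient.mk I)
  let φb : MvPolynomial (Fin m) (A ⧸ I) →ₐ[A ⧸ I] T := aeval fun i => τ (φ (X i))
  have hc : φb.toRingHom.comp μ = τ.toRingHom.comp φ.toRingHom := by
    refine MvPolynomial.ringHom_ext (fun a => ?_) fun i => ?_
    · show φb (MvPolynomial.map (Ideal.Quotient.mk I) (MvPolynomial.C a)) = τ (φ (MvPolynomial.C a))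
      rw [MvPolynomial.map_C, ← MvPolynomial.algebraMap_eq, φb.commutes, ← MvPolynomial.algebraMap_eq, φ.commutes,
        τ.commutes, IsScalarTower.algebraMap_apply A (A ⧸ I) T]
      rfl
    · simp [μ, φb]
  have hμs : Function.Surjective μ := MvPolynomial.map_surjective _ Ideal.Quotient.mk_surjective
  have hφb : Function.Surjective φb := fun t => by
    obtain ⟨s, rfl⟩ := hτ t
    obtain ⟨x, rfl⟩ := hφ s
    exact ⟨μ x, RingHom.congr_fun hc x⟩
  have hkb : RingHom.ker φb.toRingHom = (RingHom.ker φ.toRingHom).map μ := by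
    refine le_antisymm (fun y hy => ?_) (Ideal.map_le_iff_le_comap.2 fun x hx => ?_)
    · obtain ⟨x, rfl⟩ := hμs y
      have h1 : φ x ∈ (I.map (algebraMap A (MvPolynomial (Fin m) A))).map φ.toRingHom := by
        rw [Ideal.map_map, show φ.toRingHom.comp (algebraMap A _) = algebraMap A S from φ.comp_algebraMap, ← hker]
        exact (RingHom.congr_fun hc x).symm.trans hy
      obtain ⟨z, hz, hzx⟩ := (Ideal.mem_map_iff_of_surjective φ.toRingHom hφ).1 h1
      have h0 : μ z = 0 := by
        rw [← RingHom.mem_ker, show RingHom.ker μ = _ from MvPolynomial.ker_map _, Ideal.mk_ker, ← MvPolynomial.algebraMap_eq]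
        exact hz
      rw [show μ x = μ (x - z) by rw [map_sub, h0, sub_zero]]
      exact Ideal.mem_map_of_mem _ (RingHom.mem_ker.2 (by rw [map_sub, hzx]; exact sub_self _))
    · rw [Ideal.mem_comap, RingHom.mem_ker]
      exact (RingHom.congr_fun hc x).trans (by show τ (φ x) = 0; rw [show φ x = 0 from hx, map_zero])
  let q₁ := q.comap φ.toRingHom
  let q' := q₁.map μ
  have hkμ : RingHom.ker μ ≤ q₁ := by
    rw [show RingHom.ker μ = _ from MvPolynomial.ker_map _, Ideal.mk_ker, Ideal.map_le_iff_le_comap]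
    intro a ha
    show φ (MvPolynomial.C a) ∈ q
    rw [← MvPolynomial.algebraMap_eq, φ.commutes]
    exact hIq (Ideal.mem_map_of_mem _ ha)
  have : q'.IsPrime := Ideal.map_isPrime_of_surjective hμs hkμ
  have hq' : q'.comap μ = q₁ := by
    rw [Ideal.comap_map_of_surjective _ hμs, ← RingHom.ker_eq_comap_bot]
    exact sup_eq_left.2 hkμ
  have hfr : FibReg (RingHom.ker φb.toRingHom) q' := (fibres_isLCIOver_iff φb hφb).1 hT.2.2 q' (by
    rw [hkb]
    exact Ideal.map_mono (Ideal.comap_mono bot_le))
  obtain ⟨ψ, e, hψs, hψ, he, hfib⟩ := exists_red_localRing I q'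
  obtain ⟨r, y, hy, hle, hreg⟩ := hfr
  have hmap : ((RingHom.ker φ.toRingHom).map (algebraMap _ (Localization.AtPrime (q'.comap μ)))).map ψ =
      (RingHom.ker φb.toRingHom).map (algebraMap _ (Localization.AtPrime q')) := by
    rw [hkb, Ideal.map_map, Ideal.map_map]
    congr 1
    exact RingHom.ext hψ
  choose z hz hzy using fun i => (Ideal.mem_map_iff_of_surjective ψ hψs).1 (hmap.ge (hy i))
  have key : ∀ (q₂ : Ideal (MvPolynomial (Fin m) A)) [q₂.IsPrime], q₂ = q₁ →
      FibReg (RingHom.ker φ.toRingHom) q₂ → FibReg (RingHom.ker φ.toRingHom) q₁ := by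
    rintro q₂ _ rfl h'; exact h'
  have hfr' : FibReg (RingHom.ker φ.toRingHom) (q'.comap μ) := by
    refine ⟨r, z, hz, fun x hx => ?_, ?_⟩
    · have h1 : ψ x ∈ Ideal.span (Set.range y) ⊔ fibIdeal q' := hle (hmap.le (Ideal.mem_map_of_mem _ hx))
      obtain ⟨a, ha, b, hb, hab⟩ := Submodule.mem_sup.1 h1
      rw [← funext hzy, show (Set.range fun i => ψ (z i)) = ψ '' Set.range z from Set.range_comp _ _, ← Ideal.map_span,
        Ideal.mem_map_iff_of_surjective _ hψs] at ha
      obtain ⟨a', ha', rfl⟩ := ha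
      refine Submodule.mem_sup.2 ⟨a', ha', x - a', ?_, add_sub_cancel _ _⟩
      rw [← hfib, Ideal.mem_comap, map_sub, ← hab]
      convert hb using 1
      ring
    · have h1 := isWeaklyRegular_map_ringEquiv (R := Localization.AtPrime q' ⧸ fibIdeal q')
        (R' := Localization.AtPrime (q'.comap μ) ⧸ fibIdeal (q'.comap μ)) e.symm hreg
      rw [List.map_ofFn] at h1
      have hf : (fun i => Ideal.Quotient.mk (fibIdeal (q'.comap μ)) (z i)) =
          e.symm ∘ fun i => Ideal.Quotient.mk (fibIdeal q') (y i) := funext fun i => by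
        show _ = e.symm _
        rw [e.eq_symm_apply, he, hzy]
      rw [hf]
      exact h1
  obtain ⟨g, hg, _, _, F, hF, -, ⟨E⟩⟩ := exists_relGCI_nhd φ hφ hfg q (key _ hq' hfr')
  exact ⟨g, hg, isRelGCI_congr hF E.symm⟩

/-- Inverting an element which reduces to `1`. -/
theorem exists_away_reduction (I : Ideal A) {S T : Type u} [CommRing S] [Algebra A S] [CommRing T] [Algebra A T]
    (τ : S →ₐ[A] T) (hτ : Function.Surjective τ) (hI : I.map (algebraMap A S) ≤ RingHom.ker τ.toRingHom) (v : S) (hv : τ v = 1)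
    (hker : ∀ x, τ x = 0 → v * x ∈ I.map (algebraMap A S)) :
    ∃ τ' : Localization.Away v →ₐ[A] T, Function.Surjective τ' ∧
      (∀ x, τ' (algebraMap S _ x) = τ x) ∧ RingHom.ker τ'.toRingHom = I.map (algebraMap A (Localization.Away v)) := by
  let τ' : Localization.Away v →ₐ[A] T := IsLocalization.liftAlgHom (M := Submonoid.powers v) (f := τ) fun ⟨z, N, hN⟩ => by
    subst hN
    simp [hv]
  have hτ' : ∀ x, τ' (algebraMap S _ x) = τ x := fun x => IsLocalization.lift_eq _ x
  refine ⟨τ', fun t => ?_, hτ', le_antisymm (fun x hx => ?_) ?_⟩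
  · obtain ⟨s, rfl⟩ := hτ t
    exact ⟨algebraMap S _ s, hτ' s⟩
  · obtain ⟨x₀, N, rfl⟩ := IsLocalization.exists_mk'_eq (Submonoid.powers v) x
    have h1 : τ x₀ = 0 := by
      rw [← hτ', ← IsLocalization.mk'_spec (Localization.Away v) x₀ N, map_mul]
      rw [show τ' (IsLocalization.mk' (Localization.Away v) x₀ N) = 0 from hx, zero_mul]
    have h2 := Ideal.mem_map_of_mem (algebraMap S (Localization.Away v)) (hker x₀ h1)
    rw [Ideal.map_map, ← IsScalarTower.algebraMap_eq, map_mul,
      Ideal.unit_mul_mem_iff_mem _ (IsLocalization.Away.algebraMap_isUnit v),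
      ← IsLocalization.mk'_spec (Localization.Away v) x₀ N,
      Ideal.mul_unit_mem_iff_mem _ (IsLocalization.map_units _ N)] at h2
    exact h2
  · refine Ideal.map_le_iff_le_comap.2 fun a ha => ?_
    rw [Ideal.mem_comap, RingHom.mem_ker]
    refine (τ'.commutes a).trans ?_
    rw [← τ.commutes]
    exact hI (Ideal.mem_map_of_mem _ ha)

end Groth.Agent.SyntLCI
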