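import Groth.Agent.SyntLCI.Point

/-!
# The conormal module on a syntomic basic open
-/

set_option autoImplicit false

noncomputable section

universe u

open MvPolynomial TensorProduct IsLocalRing RingTheory.Sequence

namespace Groth.Agent.SyntLCI

variable {R : Type u} [CommRing R] {n : ℕ}

theorem exists_regular_nhd_syntomic (I : Ideal (MvPolynomial (Fin n) R)) (hI : I.FG) (g : MvPolynomial (Fin n) R ⧸ I)
    (hg : Synt.IsSyntomic R (Localization.Away g)) (q : Ideal (MvPolynomial (Fin n) R ⧸ I)) [q.IsPrime] (hgq : g ∉ q) :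
    ∃ (h : MvPolynomial (Fin n) R) (r : ℕ) (a : Fin r → MvPolynomial (Fin n) R), Ideal.Quotient.mk I h ∉ q ∧
      IsWeaklyRegular (Localization.Away h) ((List.ofFn a).map (algebraMap _ (Localization.Away h))) ∧
      I.map (algebraMap _ (Localization.Away h)) = Ideal.ofList ((List.ofFn a).map (algebraMap _ (Localization.Away h))) := by
  let φ := Ideal.Quotient.mkₐ R I
  have hker : RingHom.ker φ.toRingHom = I := Ideal.mk_ker
  let p : PrimeSpectrum R := ⟨q.comap (algebraMap R (MvPolynomial (Fin n) R ⧸ I)), inferInstance⟩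
  let Q := PrimeSpectrum.preimageEquivFiber R (MvPolynomial (Fin n) R ⧸ I) p ⟨⟨q, ‹_›⟩, rfl⟩
  have hQ : Q.asIdeal.comap (Algebra.TensorProduct.includeRight (R := R) (A := p.asIdeal.ResidueField)
      (B := MvPolynomial (Fin n) R ⧸ I)).toRingHom = q := by
    have := congrArg (fun z => z.1.asIdeal) ((PrimeSpectrum.preimageEquivFiber R (MvPolynomial (Fin n) R ⧸ I) p).symm_apply_apply ⟨⟨q, ‹_›⟩, rfl⟩)
    exact this
  have hci := isCIOver_of_syntomic_nhd g hg p.asIdeal Q.asIdeal (fun hmem => hgq (hQ ▸ hmem))
  have hfr := fibReg_of_isCIOver φ Ideal.Quotient.mk_surjective p.asIdeal Q.asIdeal hci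
  rw [hker] at hfr
  have key : ∀ (q₁ q₂ : Ideal (MvPolynomial (Fin n) R)) [q₁.IsPrime] [q₂.IsPrime], q₁ = q₂ → FibReg I q₁ → FibReg I q₂ := by
    rintro q₁ q₂ _ _ rfl h; exact h
  let q' := q.comap φ.toRingHom
  obtain ⟨r, y, hy, hle, hreg⟩ := key _ q' (by rw [hQ]) hfr
  have : IsLocalization (q'.primeCompl.map φ.toRingHom) (Localization.AtPrime q) :=
    cast (congrArg (fun M => IsLocalization M (Localization.AtPrime q))
      (map_primeCompl_comap φ.toRingHom Ideal.Quotient.mk_surjective q).symm) Localization.isLocalization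
  obtain ⟨π, hπ, -, hπker⟩ := exists_localizationMap φ Ideal.Quotient.mk_surjective q'.primeCompl
    (Localization.AtPrime q') (Localization.AtPrime q)
  rw [hker] at hπker
  have hflatq : Module.Flat R (Localization.AtPrime q) := by
    have := hg.1
    let _ : Algebra (Localization.Away g) (Localization.AtPrime q) :=
      (IsLocalization.Away.lift g (IsLocalization.map_units (Localization.AtPrime q) (⟨g, hgq⟩ : q.primeCompl))).toAlgebra
    have : IsScalarTower (MvPolynomial (Fin n) R ⧸ I) (Localization.Away g) (Localization.AtPrime q) :=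
      .of_algebraMap_eq fun z => (IsLocalization.Away.lift_eq g _ z).symm
    have : IsScalarTower R (Localization.Away g) (Localization.AtPrime q) := .of_algebraMap_eq fun z => by
      rw [IsScalarTower.algebraMap_apply R (MvPolynomial (Fin n) R ⧸ I) (Localization.AtPrime q),
        IsScalarTower.algebraMap_apply (MvPolynomial (Fin n) R ⧸ I) (Localization.Away g) (Localization.AtPrime q),
        ← IsScalarTower.algebraMap_apply R (MvPolynomial (Fin n) R ⧸ I) (Localization.Away g)]
    have : Module.Flat (MvPolynomial (Fin n) R ⧸ I) (Localization.AtPrime q) := IsLocalization.flat _ q.primeCompl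
    have : Module.Flat (Localization.Away g) (Localization.AtPrime q) :=
      (Module.flat_iff_of_isLocalization (Localization.Away g) (Submonoid.powers g) (Localization.AtPrime q)).2 inferInstance
    exact Module.Flat.trans R (Localization.Away g) _
  have : Module.Flat R (Localization.AtPrime q' ⧸ I.map (algebraMap _ (Localization.AtPrime q'))) :=
    Module.Flat.of_linearEquiv ((Ideal.quotientEquivAlgOfEq R hπker.symm).trans (Ideal.quotientKerAlgEquivOfSurjective hπ)).toLinearEquiv
  obtain ⟨h, hh, a, -, hreg', hspan⟩ := NLAmp.exists_koszulRegular_nhd I hI q' y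
    (span_eq_of_flat_localization I hI q' y hy hle) hreg
  exact ⟨h, r, a, hh, hreg', hspan⟩

/-- The localised kernel is Koszul regular in the localised polynomial ring. -/
theorem isKoszulRegularIdeal_away (I : Ideal (MvPolynomial (Fin n) R)) (hI : I.FG) (g : MvPolynomial (Fin n) R)
    (hg : Synt.IsSyntomic R (Localization.Away (Ideal.Quotient.mk I g))) :
    LCI.IsKoszulRegularIdeal (I.map (algebraMap _ (Localization.Away g))) := by
  rintro ⟨Q, hQ⟩ hIQ
  change I.map (algebraMap _ (Localization.Away g)) ≤ Q at hIQ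
  let q' := Q.comap (algebraMap (MvPolynomial (Fin n) R) (Localization.Away g))
  have hIq : RingHom.ker (Ideal.Quotient.mk I) ≤ q' := by rw [Ideal.mk_ker]; exact Ideal.map_le_iff_le_comap.1 hIQ
  have : (q'.map (Ideal.Quotient.mk I)).IsPrime := Ideal.map_isPrime_of_surjective Ideal.Quotient.mk_surjective hIq
  have hcm : (q'.map (Ideal.Quotient.mk I)).comap (Ideal.Quotient.mk I) = q' := by
    rw [Ideal.comap_map_of_surjective _ Ideal.Quotient.mk_surjective, ← RingHom.ker_eq_comap_bot]
    exact sup_eq_left.2 hIq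
  obtain ⟨h, r, a, hh, hreg, hspan⟩ := exists_regular_nhd_syntomic I hI (Ideal.Quotient.mk I g) hg (q'.map (Ideal.Quotient.mk I))
    (fun hmem => hQ.ne_top (Ideal.eq_top_of_isUnit_mem _ (show algebraMap _ (Localization.Away g) g ∈ Q from
      (hcm ▸ hmem : g ∈ q')) (IsLocalization.Away.algebraMap_isUnit g)))
  refine ⟨algebraMap _ (Localization.Away g) h, fun hmem => hh (Ideal.mem_map_of_mem _ (show h ∈ q' from hmem)), ?_⟩
  let L := Localization.Away (algebraMap (MvPolynomial (Fin n) R) (Localization.Away g) h)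
  have : IsLocalization.Away (g * h) L := IsLocalization.Away.mul' (Localization.Away g) L g h
  have hu : IsUnit (algebraMap (MvPolynomial (Fin n) R) L h) := by
    rw [IsScalarTower.algebraMap_apply (MvPolynomial (Fin n) R) (Localization.Away g) L]
    exact IsLocalization.Away.algebraMap_isUnit _
  let φ : Localization.Away h →+* L := IsLocalization.Away.lift h hu
  let _ : Algebra (Localization.Away h) L := φ.toAlgebra
  have : IsScalarTower (MvPolynomial (Fin n) R) (Localization.Away h) L :=
    .of_algebraMap_eq fun z => (IsLocalization.Away.lift_eq h hu z).symm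
  have : Module.Flat (MvPolynomial (Fin n) R) L := IsLocalization.flat L (Submonoid.powers (g * h))
  have : Module.Flat (Localization.Away h) L :=
    (Module.flat_iff_of_isLocalization (Localization.Away h) (Submonoid.powers h) L).2 inferInstance
  refine ⟨(List.ofFn a).map (algebraMap _ L), KoszulExt.isKoszulRegularSeq_of_isWeaklyRegular ?_, ?_⟩
  · have h2 := hreg.of_flat (S := L)
    rw [List.map_map, ← RingHom.coe_comp, ← IsScalarTower.algebraMap_eq] at h2
    exact h2
  · have h3 := congrArg (Ideal.map (algebraMap (Localization.Away h) L)) hspan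
    rw [Ideal.map_map, ← IsScalarTower.algebraMap_eq, Ideal.map_ofList, List.map_map, ← RingHom.coe_comp,
      ← IsScalarTower.algebraMap_eq] at h3
    rw [Ideal.map_map, ← IsScalarTower.algebraMap_eq]
    exact h3

theorem finite_projective_localized_cotangent (I : Ideal (MvPolynomial (Fin n) R)) (hI : I.FG) (g : MvPolynomial (Fin n) R)
    (hg : Synt.IsSyntomic R (Localization.Away (Ideal.Quotient.mk I g))) :
    Module.Finite (Localization.Away (Ideal.Quotient.mk I g)) (LocalizedModule (Submonoid.powers (Ideal.Quotient.mk I g)) I.Cotangent) ∧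
      Module.Projective (Localization.Away (Ideal.Quotient.mk I g)) (LocalizedModule (Submonoid.powers (Ideal.Quotient.mk I g)) I.Cotangent) := by
  classical
  let P₀ := MvPolynomial (Fin n) R
  let T := Localization.Away (Ideal.Quotient.mk I g)
  have : IsLocalization ((Submonoid.powers g).map (Ideal.Quotient.mkₐ R I).toRingHom) T := by
    rw [Submonoid.map_powers]
    exact inferInstanceAs (IsLocalization (Submonoid.powers (Ideal.Quotient.mk I g)) _)
  obtain ⟨π, hπ, hπx, hπker⟩ := exists_localizationMap (Ideal.Quotient.mkₐ R I) Ideal.Quotient.mk_surjective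
    (Submonoid.powers g) (Localization.Away g) T
  rw [show RingHom.ker (Ideal.Quotient.mkₐ R I).toRingHom = I from Ideal.mk_ker] at hπker
  let _ : Algebra (Localization.Away g) T := π.toRingHom.toAlgebra
  have : IsScalarTower R (Localization.Away g) T := .of_algebraMap_eq fun a => (π.commutes a).symm
  have htow : IsScalarTower P₀ (Localization.Away g) T := .of_algebraMap_eq fun x => (hπx x).symm
  let E : Algebra.Extension.{u} R T :=
    { Ring := Localization.Away g, σ := Function.surjInv hπ, algebraMap_σ := Function.surjInv_eq hπ }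
  have hk : E.ker = I.map (algebraMap P₀ (Localization.Away g)) := hπker
  obtain ⟨hfin, hproj⟩ := NLAmp.projective_cotangent E (by
    rw [hk]; exact NLAmp.hasLocalBases_of_isKoszulRegularIdeal (isKoszulRegularIdeal_away I hI g hg))
  let ι : I → E.ker := fun x => ⟨algebraMap P₀ (Localization.Away g) x.1, hk ▸ Ideal.mem_map_of_mem _ x.2⟩
  let θ₀ : I →ₗ[P₀] E.Cotangent :=
    { toFun := fun x => Algebra.Extension.Cotangent.mk (ι x)
      map_add' := fun x y => by
        rw [← map_add]; congr 1; exact Subtype.ext (map_add _ _ _)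
      map_smul' := fun c x => by
        rw [RingHom.id_apply]
        refine Eq.trans (congrArg _ (Subtype.ext ?_)) (Eq.trans
          (LinearMap.map_smul Algebra.Extension.Cotangent.mk (algebraMap P₀ (Localization.Away g) c : E.Ring) (ι x))
          (algebraMap_smul (Localization.Away g) c (Algebra.Extension.Cotangent.mk (ι x))))
        exact map_mul (algebraMap P₀ (Localization.Away g)) c x.1 }
  let θ₁ : I.Cotangent →ₗ[P₀] E.Cotangent := Ideal.Cotangent.lift θ₀ (fun x y => by
    show Algebra.Extension.Cotangent.mk (ι (x * y)) = 0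
    rw [Algebra.Extension.Cotangent.mk_eq_zero_iff, pow_two]
    show algebraMap P₀ (Localization.Away g) _ ∈ _
    rw [show ((x * y : I) : P₀) = x.1 * y.1 from rfl, map_mul]
    exact Ideal.mul_mem_mul (ι x).2 (ι y).2)
  have hθ₁ : ∀ x : I, θ₁ (I.toCotangent x) = Algebra.Extension.Cotangent.mk (ι x) := fun x =>
    Ideal.Cotangent.lift_toCotangent _ _ x
  let θ : I.Cotangent →ₗ[P₀ ⧸ I] E.Cotangent := θ₁.extendScalarsOfSurjective Ideal.Quotient.mk_surjective
  have : IsLocalizedModule (Submonoid.powers (Ideal.Quotient.mk I g)) θ := by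
    refine ⟨fun s => ?_, fun y => ?_, fun {x₁ x₂} he => ?_⟩
    · rw [Module.End.isUnit_iff]
      have hs := IsLocalization.map_units T s
      constructor
      · intro a b hab
        simp only [Module.algebraMap_end_apply, ← algebraMap_smul T (s : P₀ ⧸ I)] at hab
        exact hs.smul_left_cancel.1 hab
      · intro b
        refine ⟨(↑hs.unit⁻¹ : T) • b, ?_⟩
        simp only [Module.algebraMap_end_apply, ← algebraMap_smul T (s : P₀ ⧸ I), smul_smul, IsUnit.mul_val_inv, one_smul]
    · obtain ⟨⟨z, hz⟩, rfl⟩ := Algebra.Extension.Cotangent.mk_surjective y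
      obtain ⟨⟨⟨x, hx⟩, ⟨_, N, rfl⟩⟩, hxe⟩ := (IsLocalization.mem_map_algebraMap_iff (Submonoid.powers g) (Localization.Away g)).1 (hk ▸ hz)
      refine ⟨⟨I.toCotangent ⟨x, hx⟩, ⟨Ideal.Quotient.mk I g ^ N, N, rfl⟩⟩, ?_⟩
      show (Ideal.Quotient.mk I g ^ N) • Algebra.Extension.Cotangent.mk _ = θ₁ (I.toCotangent ⟨x, hx⟩)
      rw [hθ₁, ← map_pow]
      refine Eq.trans (Eq.trans (algebraMap_smul (P₀ ⧸ I) (g ^ N) _) (algebraMap_smul (Localization.Away g) (g ^ N) _).symm) ?_
      show (algebraMap P₀ (Localization.Away g) (g ^ N) : E.Ring) • Algebra.Extension.Cotangent.mk (⟨z, hz⟩ : E.ker) = _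
      rw [← LinearMap.map_smul]
      refine congrArg _ (Subtype.ext ?_)
      show algebraMap P₀ (Localization.Away g) (g ^ N) * z = _
      rw [mul_comm]
      exact hxe
    · obtain ⟨x₁, rfl⟩ := I.toCotangent_surjective x₁
      obtain ⟨x₂, rfl⟩ := I.toCotangent_surjective x₂
      change θ₁ _ = θ₁ _ at he
      rw [hθ₁, hθ₁, Algebra.Extension.Cotangent.mk_eq_mk_iff_sub_mem] at he
      have hk2 : E.ker ^ 2 = (I ^ 2).map (algebraMap P₀ (Localization.Away g)) := by
        rw [Ideal.map_pow]; exact congrArg (· ^ 2) hk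
      replace he := hk2.le he
      change algebraMap P₀ (Localization.Away g) x₁.1 - algebraMap P₀ (Localization.Away g) x₂.1 ∈ _ at he
      rw [← map_sub] at he
      obtain ⟨_, ⟨N, rfl⟩, hN⟩ := (IsLocalization.algebraMap_mem_map_algebraMap_iff (Submonoid.powers g) (Localization.Away g) _ _).1 he
      refine ⟨⟨Ideal.Quotient.mk I g ^ N, N, rfl⟩, ?_⟩
      show (Ideal.Quotient.mk I g ^ N) • I.toCotangent x₁ = (Ideal.Quotient.mk I g ^ N) • I.toCotangent x₂
      rw [← map_pow]
      refine ((algebraMap_smul (P₀ ⧸ I) (g ^ N) (I.toCotangent x₁)).trans ?_).trans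
        (algebraMap_smul (P₀ ⧸ I) (g ^ N) (I.toCotangent x₂)).symm
      rw [← map_smul, ← map_smul, Ideal.toCotangent_eq]
      simpa [mul_sub] using hN
  let e₀ := IsLocalizedModule.iso (Submonoid.powers (Ideal.Quotient.mk I g)) θ
  let e : LocalizedModule (Submonoid.powers (Ideal.Quotient.mk I g)) I.Cotangent ≃ₗ[T] E.Cotangent :=
    LinearEquiv.extendScalarsOfIsLocalization (Submonoid.powers (Ideal.Quotient.mk I g)) T e₀
  exact ⟨Module.Finite.equiv e.symm, Module.Projective.of_equiv e.symm⟩

end Groth.Agent.SyntLCI
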