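import Groth.Agent.SyntLCI.Mor
import Groth.Agent.SyntLCI.Nhd

/-!
# Syntomic at a point and standard syntomic neighbourhoods
-/

set_option autoImplicit false

universe u

open AlgebraicGeometry CategoryTheory

namespace Groth.Agent.SyntLCI

variable {X S : Scheme.{u}} (f : X ⟶ S)

/-- Syntomic at `x` gives syntomic ring maps out of any affine neighbourhood of the image. -/
theorem exists_syntomic_nhd_over {x : X} (h : Synt.IsSyntomicAt f x) (V : S.affineOpens) (hV : f x ∈ V.1) :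
    ∃ (U : X.affineOpens) (e : U.1 ≤ f ⁻¹ᵁ V.1), x ∈ U.1 ∧
      letI := (f.appLE V.1 U.1 e).hom.toAlgebra
      Synt.IsSyntomic Γ(S, V.1) Γ(X, U.1) := by
  obtain ⟨U₀, V₀, e₀, hx₀, h⟩ := h
  obtain ⟨_, ⟨U₁, hU₁, rfl⟩, hxU₁, hUV₁⟩ :=
    X.isBasis_affineOpens.exists_subset_of_mem_open (show x ∈ (f ⁻¹ᵁ V.1 : X.Opens) from hV) (f ⁻¹ᵁ V.1).isOpen
  obtain ⟨r, s, hxs, e, hQ⟩ := exists_basicOpen_le_appLE_of_appLE_of_isAffine
    syn_stableUnderCompositionWithLocalizationAwayTarget syn_localizationAwayPreserves x V V₀ ⟨U₁, hU₁⟩ U₀ hxU₁ hx₀ e₀ h hV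
  have e' : X.basicOpen s ≤ f ⁻¹ᵁ V.1 := (X.basicOpen_le s).trans hUV₁
  refine ⟨⟨X.basicOpen s, hU₁.basicOpen s⟩, e', hxs, ?_⟩
  have := V.2.isLocalization_basicOpen r
  have h' := syn_stableUnderCompositionWithLocalizationAwaySource Γ(S, S.basicOpen r) r _ hQ
  rwa [RingHom.algebraMap_toAlgebra, ← CommRingCat.hom_comp, Scheme.Hom.map_appLE] at h'

theorem isStandardSyntomic_resLE {U : X.Opens} {V : S.Opens} (hU : IsAffineOpen U) (hV : IsAffineOpen V)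
    (e : U ≤ f ⁻¹ᵁ V) (n c : ℕ) (F : Fin c → MvPolynomial (Fin n) Γ(S, V)) (hF : Synt.IsRelGCI Γ(S, V) n c F)
    (E : letI := (f.appLE V U e).hom.toAlgebra; Γ(X, U) ≃ₐ[Γ(S, V)] Synt.RelGCIRing Γ(S, V) n c F) :
    Synt.IsStandardSyntomic (f.resLE V U e) := by
  let := (f.appLE V U e).hom.toAlgebra
  refine ⟨Γ(S, V), inferInstance, n, c, F, hF,
    hU.isoSpec ≪≫ Scheme.Spec.mapIso (E.toRingEquiv.toCommRingCatIso.op).symm, hV.isoSpec, ?_⟩
  show (U.toSpecΓ ≫ Spec.map (CommRingCat.ofHom E.symm.toRingEquiv.toRingHom)) ≫ _ = f.resLE V U e ≫ V.toSpecΓ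
  rw [Category.assoc, ← Spec.map_comp, ← Scheme.Opens.toSpecΓ_SpecMap_appLE f V U e]
  congr 2
  ext a
  exact E.symm.commutes a

end Groth.Agent.SyntLCI
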