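import Groth.Agent.SyntLCI.Dim
import Groth.Agent.RelDim.Basic
import Groth.Agent.FieldExtLD.Scheme
import Groth.Agent.DimTheory.Algebra
import Mathlib.RingTheory.Jacobson.Ring

/-!
# Local dimension of a quotient of affine space by `c` equations
-/

set_option autoImplicit false

noncomputable section

universe u

open MvPolynomial TensorProduct

namespace Groth.Agent.SyntLCI

variable {k : Type u} [Field k] {n c : ℕ} {T : Type u} [CommRing T] [Algebra k T]

theorem le_ringKrullDim_away (φ : MvPolynomial (Fin n) k →ₐ[k] T) (hφ : Function.Surjective φ)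
    (G : Fin c → MvPolynomial (Fin n) k) (hG : RingHom.ker φ.toRingHom = Ideal.span (Set.range G)) (h : T)
    [Nontrivial (Localization.Away h)] : (n : WithBot ℕ∞) ≤ ringKrullDim (Localization.Away h) + c := by
  have : Algebra.FiniteType k T := .of_surjective φ hφ
  have : IsJacobsonRing T := isJacobsonRing_of_finiteType (A := k)
  obtain ⟨m', hm'⟩ := Ideal.exists_maximal (Localization.Away h)
  have hm : (m'.under T).IsMaximal := ((IsLocalization.isMaximal_iff_isMaximal_disjoint (Localization.Away h) h m').1 hm').1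
  have hM : ((m'.under T).comap φ.toRingHom).IsMaximal := Ideal.comap_isMaximal_of_surjective _ hφ
  let e : (MvPolynomial (Fin n) k ⧸ Ideal.span (Set.range G)) ≃+* T :=
    (Ideal.quotEquivOfEq hG.symm).trans (RingHom.quotientKerEquivOfSurjective (f := φ.toRingHom) hφ)
  have h1 := Ideal.height_le_height_add_encard_of_subset (Set.range G) (p := (m'.under T).comap φ.toRingHom)
    (fun x hx => show φ x ∈ m'.under T by
      rw [show φ x = 0 from RingHom.mem_ker.1 (hG.ge (Ideal.subset_span hx))]; exact zero_mem _)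
  rw [DimTheory.height_maximal_mvPolynomial k n] at h1
  have h2 : (((m'.under T).comap φ.toRingHom).map (Ideal.Quotient.mk (Ideal.span (Set.range G)))).height =
      (m'.under T).height := by
    have he : e.toRingHom.comp (Ideal.Quotient.mk (Ideal.span (Set.range G))) = φ.toRingHom := RingHom.ext fun x => rfl
    rw [← RingEquiv.height_map e]
    show (Ideal.map e.toRingHom _).height = _
    rw [Ideal.map_map, he, Ideal.map_comap_of_surjective φ.toRingHom hφ]
  rw [h2, IsLocalization.height_under (Submonoid.powers h) m'] at h1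
  have h3 : ((n : ℕ∞) : WithBot ℕ∞) ≤ ((m'.height + c : ℕ∞) : WithBot ℕ∞) :=
    WithBot.coe_le_coe.2 (h1.trans (add_le_add le_rfl (by
      rw [← Set.image_univ]; exact (Set.encard_image_le _ _).trans (by simp))))
  rw [WithBot.coe_add] at h3
  exact h3.trans (add_le_add (Ideal.height_le_ringKrullDim_of_ne_top hm'.ne_top) le_rfl)

theorem le_localDim (φ : MvPolynomial (Fin n) k →ₐ[k] T) (hφ : Function.Surjective φ)
    (G : Fin c → MvPolynomial (Fin n) k) (hG : RingHom.ker φ.toRingHom = Ideal.span (Set.range G))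
    (Q : PrimeSpectrum T) : (n : WithBot ℕ∞) ≤ FlatMor.localDim (PrimeSpectrum T) Q + c := by
  obtain ⟨U, hQU, hU⟩ := TopDimLib.exists_localDim_eq Q
  obtain ⟨_, ⟨h, rfl⟩, hQh, hsub⟩ := PrimeSpectrum.isTopologicalBasis_basic_opens.exists_subset_of_mem_open hQU U.2
  rw [← hU]
  refine le_trans ?_ (add_le_add (TopDimLib.dim_subtype_mono hsub) le_rfl)
  have : Nontrivial (Localization.Away h) := by
    refine ⟨⟨0, 1, fun h01 => hQh ?_⟩⟩
    obtain ⟨⟨_, N, rfl⟩, hN⟩ := (IsLocalization.eq_iff_exists (Submonoid.powers h) (Localization.Away h)).1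
      (show algebraMap T (Localization.Away h) 0 = algebraMap T _ 1 by rw [map_zero, map_one, h01])
    simp only [mul_zero, mul_one] at hN
    exact Q.2.mem_of_pow_mem N (hN ▸ zero_mem _)
  rw [← RelDim.dim_away]
  exact le_ringKrullDim_away φ hφ G hG h

theorem localDim_eq (φ : MvPolynomial (Fin n) k →ₐ[k] T) (hφ : Function.Surjective φ)
    (G : Fin c → MvPolynomial (Fin n) k) (hG : RingHom.ker φ.toRingHom = Ideal.span (Set.range G))
    (hcn : c ≤ n) (hdim : ringKrullDim T = ((n - c : ℕ) : WithBot ℕ∞))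
    (Q : PrimeSpectrum T) : FlatMor.localDim (PrimeSpectrum T) Q = ((n - c : ℕ) : WithBot ℕ∞) := by
  refine le_antisymm ((TopDimLib.localDim_le_dim Q).trans (le_of_eq ?_)) ?_
  · rw [PrimeSpectrum.topologicalKrullDim_eq_ringKrullDim]
    exact hdim
  have h := le_localDim φ hφ G hG Q
  revert h
  generalize FlatMor.localDim (PrimeSpectrum T) Q = d
  intro h
  induction d with
  | bot => simp at h
  | coe a =>
    induction a using ENat.recTopCoe with
    | top => exact le_top
    | coe b =>
      have h' : n ≤ b + c := by exact_mod_cast h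
      exact WithBot.coe_le_coe.2 (Nat.cast_le.2 (Nat.sub_le_iff_le_add.2 h'))

/-- Every point of a fibre of a relative global complete intersection has local dimension `n - c`. -/
theorem localDim_fibre_relGCI {R : Type u} [CommRing R] {F : Fin c → MvPolynomial (Fin n) R} (hF : Synt.IsRelGCI R n c F)
    (p : Ideal R) [p.IsPrime] (Q : PrimeSpectrum (p.Fiber (Synt.RelGCIRing R n c F))) :
    FlatMor.localDim (PrimeSpectrum (p.Fiber (Synt.RelGCIRing R n c F))) Q = ((n - c : ℕ) : WithBot ℕ∞) := by
  obtain ⟨hcn, hdim⟩ := hF ⟨p, inferInstance⟩ (PrimeSpectrum.nontrivial Q)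
  obtain ⟨φp, hφp, hker, -⟩ := exists_fibre_pres (Ideal.Quotient.mkₐ R (Ideal.span (Set.range F))) Ideal.Quotient.mk_surjective p
  rw [show RingHom.ker (Ideal.Quotient.mkₐ R (Ideal.span (Set.range F))).toRingHom = Ideal.span (Set.range F) from Ideal.mk_ker,
    Ideal.map_span, ← Set.range_comp] at hker
  have h1 := @localDim_eq p.ResidueField _ n c (p.Fiber (Synt.RelGCIRing R n c F)) _ _ φp hφp
  have h2 := h1 (fun i => MvPolynomial.map (algebraMap R p.ResidueField) (F i)) hker hcn
  have h3 := h2 hdim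
  exact h3 Q

end Groth.Agent.SyntLCI

namespace Groth.Agent.SyntLCI

theorem localDim_fibre_of_equiv {R : Type u} [CommRing R] {n c : ℕ} {F : Fin c → MvPolynomial (Fin n) R}
    (hF : Synt.IsRelGCI R n c F) {S : Type u} [CommRing S] [Algebra R S] (E : S ≃ₐ[R] Synt.RelGCIRing R n c F)
    (p : Ideal R) [p.IsPrime] (Q : PrimeSpectrum (p.Fiber S)) :
    FlatMor.localDim (PrimeSpectrum (p.Fiber S)) Q = ((n - c : ℕ) : WithBot ℕ∞) := by
  let e := Algebra.TensorProduct.congr (AlgEquiv.refl (R := R) (A₁ := p.ResidueField)) E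
  let h : PrimeSpectrum (p.Fiber S) ≃ₜ PrimeSpectrum (p.Fiber (Synt.RelGCIRing R n c F)) :=
    PrimeSpectrum.homeomorphOfRingEquiv (R := p.Fiber S) (S := p.Fiber (Synt.RelGCIRing R n c F)) e.toRingEquiv
  have h1 := localDim_fibre_relGCI hF p (h Q)
  rw [← h1]
  exact (FieldExtLD.localDim_of_isOpenEmbedding h.isOpenEmbedding Q).symm

end Groth.Agent.SyntLCI
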