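import Groth.Agent.NLAmp.Main

/-!
# Flat conormal modules and regular sequences in the fibres

For a finitely generated ideal `I` of `A[x_1, …, x_n]` with flat quotient: `I` is Koszul-regular iff at every prime
`q ⊇ I` the image of `I` in the local ring of the fibre is generated by a regular sequence.
-/

set_option autoImplicit false

noncomputable section

universe u

open IsLocalRing RingTheory.Sequence

namespace Groth.Agent.SyntLCI

variable {A : Type u} [CommRing A] {n : ℕ}

local notation "P" => MvPolynomial (Fin n) A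

/-- The extension of `q ∩ A` to the local ring at `q`; the quotient is the local ring of the fibre. -/
def fibIdeal (q : Ideal P) [q.IsPrime] : Ideal (Localization.AtPrime q) :=
  (q.comap (algebraMap A P)).map (algebraMap A (Localization.AtPrime q))

theorem fibIdeal_le (q : Ideal P) [q.IsPrime] : fibIdeal q ≤ maximalIdeal (Localization.AtPrime q) :=
  Ideal.map_le_iff_le_comap.2 fun a ha => by
    rw [Ideal.mem_comap, IsScalarTower.algebraMap_apply A P (Localization.AtPrime q),
      IsLocalization.AtPrime.to_map_mem_maximal_iff (Localization.AtPrime q) q]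
    exact ha

/-- The image of `I` in the local ring of the fibre at `q` is generated by a regular sequence. -/
def FibReg (I q : Ideal P) [q.IsPrime] : Prop :=
  ∃ (r : ℕ) (y : Fin r → Localization.AtPrime q),
    (∀ i, y i ∈ I.map (algebraMap P (Localization.AtPrime q))) ∧
    I.map (algebraMap P (Localization.AtPrime q)) ≤ Ideal.span (Set.range y) ⊔ fibIdeal q ∧
    IsWeaklyRegular (Localization.AtPrime q ⧸ fibIdeal q) (List.ofFn fun i => Ideal.Quotient.mk (fibIdeal q) (y i))

theorem fibReg_of_conormalFlat (I : Ideal P) (hI : I.FG) [Module.Flat A (P ⧸ I)] (h : NLAmp.ConormalFlat I)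
    (q : Ideal P) [q.IsPrime] (hIq : I ≤ q) : FibReg I q := by
  have hJm : I.map (algebraMap P (Localization.AtPrime q)) ≤ maximalIdeal (Localization.AtPrime q) :=
    Ideal.map_le_iff_le_comap.mpr fun a ha => by
      rw [Ideal.mem_comap, IsLocalization.AtPrime.to_map_mem_maximal_iff (Localization.AtPrime q) q a]
      exact hIq ha
  have hJ : I.map (algebraMap P (Localization.AtPrime q)) ≠ ⊤ := fun h =>
    (maximalIdeal.isMaximal _).ne_top (top_le_iff.1 (h ▸ hJm))
  obtain ⟨r, x, hxI, hxJ, hind⟩ := NLAmp.exists_minimal_generators q hI h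
  have : IsRegularLocalRing (Localization.AtPrime q ⧸ fibIdeal q) := NLAmp.isRegularLocalRing_fibre A n q
  obtain ⟨y, hyJ, hyreg⟩ := NLAmp.exists_regular_generators _ _ hJ (hI.map _) (fibIdeal_le q) _ hxJ hind
    (NLAmp.inter_le_mul_localization q _)
  exact ⟨r, y, fun i => hyJ.le (Ideal.subset_span ⟨i, rfl⟩), le_sup_of_le_left hyJ.ge, hyreg⟩

/-- A fibrewise regular system of generators generates, when the quotient is flat. -/
theorem span_eq_of_fibre (I : Ideal P) (hI : I.FG) [Module.Flat A (P ⧸ I)] (q : Ideal P) [q.IsPrime] {r : ℕ}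
    (y : Fin r → Localization.AtPrime q) (hy : ∀ i, y i ∈ I.map (algebraMap P (Localization.AtPrime q)))
    (hle : I.map (algebraMap P (Localization.AtPrime q)) ≤ Ideal.span (Set.range y) ⊔ fibIdeal q) :
    Ideal.span (Set.range y) = I.map (algebraMap P (Localization.AtPrime q)) := by
  have h1 : Ideal.span (Set.range y) ≤ I.map (algebraMap P (Localization.AtPrime q)) :=
    Ideal.span_le.2 (Set.range_subset_iff.2 hy)
  refine le_antisymm h1 (Submodule.le_of_le_smul_of_le_jacobson_bot (hI.map _)
    ((fibIdeal_le q).trans (maximalIdeal_le_jacobson ⊥)) ?_)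
  intro z hz
  obtain ⟨a, ha, b, hb, rfl⟩ := Submodule.mem_sup.1 (hle hz)
  refine Submodule.mem_sup.2 ⟨a, ha, b, ?_, rfl⟩
  rw [smul_eq_mul]
  exact NLAmp.inter_le_mul_localization q _ ⟨by simpa using sub_mem hz (h1 ha), hb⟩

theorem isKoszulRegularIdeal_of_fibReg (I : Ideal P) (hI : I.FG) [Module.Flat A (P ⧸ I)]
    (h : ∀ (q : Ideal P) [q.IsPrime], I ≤ q → FibReg I q) : LCI.IsKoszulRegularIdeal I := by
  rintro ⟨q, hq⟩ hIq
  obtain ⟨r, y, hy, hle, hreg⟩ := h q hIq
  obtain ⟨g, hg, a, -, hreg', hspan⟩ :=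
    NLAmp.exists_koszulRegular_nhd I hI q y (span_eq_of_fibre I hI q y hy hle) hreg
  exact ⟨g, hg, _, KoszulExt.isKoszulRegularSeq_of_isWeaklyRegular hreg', hspan⟩

/-- The fibre criterion. -/
theorem isKoszulRegularIdeal_iff_fibReg (I : Ideal P) (hI : I.FG) [Module.Flat A (P ⧸ I)] :
    LCI.IsKoszulRegularIdeal I ↔ ∀ (q : Ideal P) [q.IsPrime], I ≤ q → FibReg I q :=
  ⟨fun h q _ hIq => fibReg_of_conormalFlat I hI (NLAmp.hasLocalBases_of_isKoszulRegularIdeal h).conormalFlat q hIq,
    fun h => isKoszulRegularIdeal_of_fibReg I hI h⟩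

end Groth.Agent.SyntLCI
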