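import Groth.Agent.S5758
import Groth.Agent.LocCohBasic.RegularPd
import Groth.Agent.CAlgReg.Basic
import Mathlib

/-!
# Complete intersection ideals in regular local rings
-/

set_option autoImplicit false

noncomputable section

universe u

open IsLocalRing RingTheory.Sequence

namespace Groth.Agent.SyntLCI

variable {R : Type u} [CommRing R]

/-- A proper ideal generated by a regular sequence. -/
def IsCIIdeal [IsLocalRing R] (J : Ideal R) : Prop :=
  J ≠ ⊤ ∧ ∃ l : List R, Ideal.ofList l = J ∧ IsWeaklyRegular R l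

theorem isLocalRing_quotient [IsLocalRing R] {J : Ideal R} (h : J ≠ ⊤) : IsLocalRing (R ⧸ J) := by
  have : Nontrivial (R ⧸ J) := Ideal.Quotient.nontrivial_iff.2 h
  exact .of_surjective' _ Ideal.Quotient.mk_surjective

theorem exists_dim_quotient [IsLocalRing R] [IsNoetherianRing R] {J : Ideal R} (h : J ≠ ⊤) :
    ∃ e : ℕ, ringKrullDim (R ⧸ J) = e := by
  have := isLocalRing_quotient h
  exact CAlgReg.exists_dim

theorem supportDim_ofList (l : List R) :
    Module.supportDim R (R ⧸ (Ideal.ofList l • ⊤ : Submodule R R)) = ringKrullDim (R ⧸ Ideal.ofList l) := by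
  rw [Module.supportDim_eq_of_equiv (Submodule.quotEquivOfEq _ _ (by rw [smul_eq_mul, Ideal.mul_top]) :
    (R ⧸ (Ideal.ofList l • ⊤ : Submodule R R)) ≃ₗ[R] R ⧸ Ideal.ofList l), Module.supportDim_quotient_eq_ringKrullDim]

theorem mem_maximal_of_ne_top [IsLocalRing R] {l : List R} (h : Ideal.ofList l ≠ ⊤) :
    ∀ x ∈ l, x ∈ maximalIdeal R :=
  fun x hx => le_maximalIdeal h (Ideal.subset_span hx)

/-- Krull's bound. -/
theorem dim_le_add_length [IsLocalRing R] [IsNoetherianRing R] {l : List R} {d e : ℕ} (hl : Ideal.ofList l ≠ ⊤)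
    (hd : ringKrullDim R = d) (he : ringKrullDim (R ⧸ Ideal.ofList l) = e) : d ≤ e + l.length := by
  have h := S5758.supportDim_le_add l R (mem_maximal_of_ne_top hl)
  rw [supportDim_ofList, Module.supportDim_self_eq_ringKrullDim, hd, he] at h
  exact_mod_cast h

variable [IsRegularLocalRing R]

theorem isWeaklyRegular_iff_dim {l : List R} {d e : ℕ} (hl : Ideal.ofList l ≠ ⊤) (hd : ringKrullDim R = d)
    (he : ringKrullDim (R ⧸ Ideal.ofList l) = e) : IsWeaklyRegular R l ↔ e + l.length = d := by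
  have : LocCoh.IsCohenMacaulayLocalRing R := LocCohBasic.isCohenMacaulayLocalRing_of_isRegularLocalRing
  constructor
  · intro h
    have h1 := (CMAux.quot_ofList l R Depth.isCohenMacaulayModule_self (mem_maximal_of_ne_top hl) h).2
    rw [supportDim_ofList, Module.supportDim_self_eq_ringKrullDim, hd, he] at h1
    exact_mod_cast h1
  · intro h
    refine S5758.isWeaklyRegular_of_supportDim l R Depth.isCohenMacaulayModule_self (mem_maximal_of_ne_top hl) ?_
    rw [supportDim_ofList, Module.supportDim_self_eq_ringKrullDim, hd, he]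
    exact_mod_cast h

theorem ofList_ofFn' {R : Type u} [CommRing R] {r : ℕ} (f : Fin r → R) :
    Ideal.ofList (List.ofFn f) = Ideal.span (Set.range f) := by
  rw [Ideal.ofList]; congr 1; ext x; exact List.mem_ofFn

/-- Generated by at most `dim R - dim R/J` elements. -/
theorem isWeaklyRegular_of_dim {c : ℕ} (a : Fin c → R) {J : Ideal R} (hJ : J ≠ ⊤) (ha : Ideal.span (Set.range a) = J)
    {d e : ℕ} (hd : ringKrullDim R = d) (he : ringKrullDim (R ⧸ J) = e) (h : e + c ≤ d) :
    IsWeaklyRegular R (List.ofFn a) := by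
  have hl : Ideal.ofList (List.ofFn a) = J := (ofList_ofFn' a).trans ha
  subst hl
  refine (isWeaklyRegular_iff_dim hJ hd he).2 ?_
  have := dim_le_add_length hJ hd he
  rw [List.length_ofFn] at this ⊢
  omega

theorem isCIIdeal_iff_dim {J : Ideal R} (hJ : J ≠ ⊤) {d e : ℕ} (hd : ringKrullDim R = d)
    (he : ringKrullDim (R ⧸ J) = e) :
    IsCIIdeal J ↔ ∃ (c : ℕ) (a : Fin c → R), Ideal.span (Set.range a) = J ∧ e + c ≤ d := by
  constructor
  · rintro ⟨-, l, rfl, hl⟩
    refine ⟨l.length, l.get, ?_, ((isWeaklyRegular_iff_dim hJ hd he).1 hl).le⟩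
    rw [← ofList_ofFn', List.ofFn_get]
  · rintro ⟨c, a, ha, h⟩
    exact ⟨hJ, List.ofFn a, (ofList_ofFn' a).trans ha, isWeaklyRegular_of_dim a hJ ha hd he h⟩

omit [IsRegularLocalRing R] in
theorem map_ne_top_of_le {J : Ideal R} {h : R} (hh : h ∈ J) (hJ : J ≠ ⊤) :
    J.map (Ideal.Quotient.mk (Ideal.span {h})) ≠ ⊤ := by
  intro e
  have h1 := congrArg (Ideal.comap (Ideal.Quotient.mk (Ideal.span {h}))) e
  rw [Ideal.comap_map_of_surjective _ Ideal.Quotient.mk_surjective, Ideal.comap_top, ← RingHom.ker_eq_comap_bot,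
    Ideal.mk_ker, sup_eq_left.2 ((Ideal.span_singleton_le_iff_mem J).2 hh)] at h1
  exact hJ h1

/-- Dividing by a regular parameter. -/
theorem isCIIdeal_map_iff {J : Ideal R} {h : R} (hh : h ∈ J) (hJ : J ≠ ⊤) (h2 : h ∉ maximalIdeal R ^ 2) :
    ∃ _ : IsRegularLocalRing (R ⧸ Ideal.span {h}),
      IsCIIdeal J ↔ IsCIIdeal (J.map (Ideal.Quotient.mk (Ideal.span {h}))) := by
  classical
  set π := Ideal.Quotient.mk (Ideal.span {h}) with hπ
  have hhm : h ∈ maximalIdeal R := le_maximalIdeal hJ hh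
  obtain ⟨d, hd⟩ := CAlgReg.exists_dim (R := R)
  obtain ⟨hd1, hreg, hd'⟩ := CAlgReg.quotient_span_singleton hhm h2 hd
  have hle : Ideal.span {h} ≤ J := (Ideal.span_singleton_le_iff_mem J).2 hh
  have hJ' : J.map π ≠ ⊤ := map_ne_top_of_le hh hJ
  obtain ⟨e, he⟩ := exists_dim_quotient hJ
  have he' : ringKrullDim ((R ⧸ Ideal.span {h}) ⧸ J.map π) = e := by
    rw [ringKrullDim_eq_of_ringEquiv (DoubleQuot.quotQuotEquivQuotOfLE hle), he]
  refine ⟨hreg, ?_⟩
  rw [isCIIdeal_iff_dim hJ hd he, isCIIdeal_iff_dim hJ' hd' he']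
  constructor
  · rintro ⟨c, a, ha, hc⟩
    obtain ⟨b, hb⟩ := Ideal.mem_span_range_iff_exists_fun.1 (ha.ge hh)
    obtain ⟨i, hi⟩ : ∃ i, IsUnit (b i) := by
      by_contra hno
      push Not at hno
      refine h2 ?_
      rw [← hb, pow_two]
      exact Ideal.sum_mem _ fun i _ =>
        Ideal.mul_mem_mul (hno i) (le_maximalIdeal hJ (ha.le (Ideal.subset_span ⟨i, rfl⟩)))
    match c, a, b, i, ha, hb, hi, hc with
    | c + 1, a, b, i, ha, hb, hi, hc =>
      refine ⟨c, fun j => π (a (i.succAbove j)), le_antisymm (Ideal.span_le.2 ?_) ?_, by omega⟩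
      · rintro _ ⟨j, rfl⟩
        exact Ideal.mem_map_of_mem _ (ha.le (Ideal.subset_span ⟨_, rfl⟩))
      · rw [← ha, Ideal.map_span, Ideal.span_le]
        rintro _ ⟨_, ⟨j, rfl⟩, rfl⟩
        rcases Fin.eq_self_or_eq_succAbove i j with rfl | ⟨j', rfl⟩
        · have h0 : π h = 0 := Ideal.Quotient.eq_zero_iff_mem.2 (Ideal.mem_span_singleton_self h)
          have hb' := congrArg π hb
          rw [h0, map_sum, Fin.sum_univ_succAbove _ j, add_eq_zero_iff_eq_neg, map_mul] at hb'
          clear h0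
          have h0 := hb'
          refine (Ideal.unit_mul_mem_iff_mem _ (hi.map π)).1 ?_
          rw [h0]
          refine neg_mem (Ideal.sum_mem _ fun l _ => ?_)
          rw [map_mul]
          exact Ideal.mul_mem_left _ _ (Ideal.subset_span ⟨l, rfl⟩)
        · exact Ideal.subset_span ⟨j', rfl⟩
  · rintro ⟨c, a, ha, hc⟩
    choose b hb using fun j => Ideal.Quotient.mk_surjective (a j)
    refine ⟨c + 1, Fin.cons h b, ?_, by omega⟩
    have h1 : Ideal.comap π (Ideal.span (Set.range a)) = J := by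
      rw [ha, Ideal.comap_map_of_surjective _ Ideal.Quotient.mk_surjective, ← RingHom.ker_eq_comap_bot,
        Ideal.mk_ker, sup_eq_left.2 hle]
    rw [show a = π ∘ b from funext fun j => (hb j).symm, Set.range_comp, ← Ideal.map_span,
      Ideal.comap_map_of_surjective _ Ideal.Quotient.mk_surjective, ← RingHom.ker_eq_comap_bot, Ideal.mk_ker] at h1
    rw [Fin.range_cons, Ideal.span_insert, sup_comm]
    exact h1

omit [IsRegularLocalRing R] in
theorem isCIIdeal_map_equiv_mp {R' : Type u} [CommRing R'] [IsLocalRing R] [IsLocalRing R'] (e : R ≃+* R')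
    {J : Ideal R} (h : IsCIIdeal J) : IsCIIdeal (J.map e.toRingHom) := by
  obtain ⟨hne, l, hl, hreg⟩ := h
  refine ⟨fun h1 => hne ?_, l.map e.toRingHom, by rw [← Ideal.map_ofList, hl], ?_⟩
  · rw [← Ideal.comap_map_of_bijective e.toRingHom e.bijective (I := J), h1, Ideal.comap_top]
  · letI := e.toRingHom.toAlgebra
    have : Module.Flat R R' := Module.Flat.of_linearEquiv (M := R)
      (LinearEquiv.ofBijective (Algebra.linearMap R R') e.bijective).symm
    exact hreg.of_flat (S := R')

omit [IsRegularLocalRing R] in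
theorem isCIIdeal_map_equiv {R' : Type u} [CommRing R'] [IsLocalRing R] [IsLocalRing R'] (e : R ≃+* R')
    {J : Ideal R} : IsCIIdeal (J.map e.toRingHom) ↔ IsCIIdeal J := by
  refine ⟨fun h => ?_, isCIIdeal_map_equiv_mp e⟩
  have h1 := isCIIdeal_map_equiv_mp e.symm h
  rwa [Ideal.map_map, show e.symm.toRingHom.comp e.toRingHom = RingHom.id R from RingHom.ext e.symm_apply_apply,
    Ideal.map_id] at h1

/-- Invariance under surjections of regular local rings. -/
theorem isCIIdeal_iff_map_aux : ∀ (N : ℕ) (R : Type u) [CommRing R] [IsRegularLocalRing R]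
    (R' : Type u) [CommRing R'] [IsRegularLocalRing R'] (φ : R →+* R'), Function.Surjective φ →
    ∀ {d d' : ℕ}, ringKrullDim R = d → ringKrullDim R' = d' → d ≤ d' + N →
    ∀ (J : Ideal R), RingHom.ker φ ≤ J → J ≠ ⊤ → (IsCIIdeal J ↔ IsCIIdeal (J.map φ)) := by
  intro N
  induction N with
  | zero =>
    intro R _ _ R' _ _ φ hφ d d' hd hd' hle J hJ hne
    by_cases hK : RingHom.ker φ = ⊥
    · exact (isCIIdeal_map_equiv (RingEquiv.ofBijective φ ⟨(RingHom.injective_iff_ker_eq_bot φ).2 hK, hφ⟩)).symm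
    · exfalso
      obtain ⟨x, hx, hx0⟩ := Submodule.exists_mem_ne_zero_of_ne_bot hK
      have := CAlgReg.isDomain (R := R)
      have hxm : x ∈ maximalIdeal R := le_maximalIdeal hne (hJ hx)
      have h1 := ringKrullDim_quotient_span_singleton_succ_eq_ringKrullDim_of_mem_nonZeroDivisors
        (mem_nonZeroDivisors_of_ne_zero hx0) hxm
      have h2 : ringKrullDim R' ≤ ringKrullDim (R ⧸ Ideal.span {x}) :=
        ringKrullDim_le_of_surjective (Ideal.Quotient.lift (Ideal.span {x}) φ
          (fun a ha => RingHom.mem_ker.1 ((Ideal.span_singleton_le_iff_mem _).2 hx ha)))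
          (Ideal.Quotient.lift_surjective_of_surjective _ _ hφ)
      obtain ⟨e, he⟩ := exists_dim_quotient (J := Ideal.span {x}) (fun h =>
        (maximalIdeal.isMaximal R).ne_top (top_le_iff.1 (h ▸ (Ideal.span_singleton_le_iff_mem _).2 hxm)))
      rw [he, hd] at h1
      rw [he, hd'] at h2
      have h1' : e + 1 = d := by exact_mod_cast h1
      have h2' : d' ≤ e := by exact_mod_cast h2
      omega
  | succ N ih =>
    intro R _ _ R' _ _ φ hφ d d' hd hd' hle J hJ hne
    by_cases hsmall : d ≤ d' + N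
    · exact ih R R' φ hφ hd hd' hsmall J hJ hne
    obtain ⟨h, hh, hh2⟩ : ∃ h ∈ RingHom.ker φ, h ∉ maximalIdeal R ^ 2 := by
      by_contra hno
      push Not at hno
      have hφm : (maximalIdeal R).map φ = maximalIdeal R' := IsLocalRing.map_maximalIdeal_of_surjective φ hφ
      classical
      obtain ⟨t, ht⟩ : ∃ t : Finset R', Ideal.span (t : Set R') = maximalIdeal R' ∧ t.card = d' := by
        have hfg := (maximalIdeal R').fg_of_isNoetherianRing
        have hc := Submodule.FG.finite_generators hfg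
        refine ⟨hc.toFinset, by rw [Set.Finite.coe_toFinset]; exact Submodule.span_generators _, ?_⟩
        rw [← Set.ncard_eq_toFinset_card _ hc, Submodule.FG.generators_ncard hfg, CAlgReg.spanFinrank_eq_of_dim hd']
      let s : Finset R := t.image (Function.surjInv hφ)
      have hs : Ideal.span (s : Set R) ⊔ maximalIdeal R ^ 2 ≥ maximalIdeal R := by
        intro z hz
        have h1 : φ z ∈ (Ideal.span (s : Set R)).map φ := by
          rw [Ideal.map_span, Finset.coe_image, Set.image_image]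
          simp only [Function.surjInv_eq hφ, Set.image_id', ht.1, ← hφm]
          exact Ideal.mem_map_of_mem _ hz
        obtain ⟨w, hw, hwz⟩ := (Ideal.mem_map_iff_of_surjective φ hφ).1 h1
        refine Submodule.mem_sup.2 ⟨w, hw, z - w, hno _ ?_, by ring⟩
        rw [RingHom.mem_ker, map_sub, hwz, sub_self]
      have h3 : maximalIdeal R ≤ Ideal.span (s : Set R) :=
        Submodule.le_of_le_smul_of_le_jacobson_bot (maximalIdeal R).fg_of_isNoetherianRing
          (maximalIdeal_le_jacobson ⊥) (by rw [smul_eq_mul, ← pow_two]; exact hs)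
      have h4 : Ideal.span (s : Set R) ≤ maximalIdeal R := Ideal.span_le.2 fun z hz => by
        obtain ⟨w, hw, rfl⟩ := Finset.mem_image.1 hz
        intro hu
        have := hu.map φ
        rw [Function.surjInv_eq hφ] at this
        exact (ht.1 ▸ Ideal.subset_span hw : w ∈ maximalIdeal R') this
      have h5 := CAlgReg.card_ge_of_span_eq hd s.finite_toSet (le_antisymm h4 h3)
      rw [Set.ncard_coe_finset] at h5
      have : s.card ≤ t.card := Finset.card_image_le
      omega
    obtain ⟨hreg, hiff⟩ := isCIIdeal_map_iff (hJ hh) hne hh2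
    obtain ⟨hd1, -, hdim⟩ := CAlgReg.quotient_span_singleton (le_maximalIdeal hne (hJ hh)) hh2 hd
    let φ' : R ⧸ Ideal.span {h} →+* R' := Ideal.Quotient.lift (Ideal.span {h}) φ
      (fun a ha => RingHom.mem_ker.1 ((Ideal.span_singleton_le_iff_mem _).2 hh ha))
    have hk : RingHom.ker φ' ≤ J.map (Ideal.Quotient.mk (Ideal.span {h})) := by
      intro z hz
      obtain ⟨z, rfl⟩ := Ideal.Quotient.mk_surjective z
      exact Ideal.mem_map_of_mem _ (hJ hz)
    have h1 := ih (R ⧸ Ideal.span {h}) R' φ' (Ideal.Quotient.lift_surjective_of_surjective _ _ hφ) hdim hd' (by omega)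
      _ hk (map_ne_top_of_le (hJ hh) hne)
    rw [Ideal.map_map, show φ'.comp (Ideal.Quotient.mk _) = φ from RingHom.ext fun _ => rfl] at h1
    exact hiff.trans h1

theorem isCIIdeal_iff_map {R' : Type u} [CommRing R'] [IsRegularLocalRing R'] (φ : R →+* R')
    (hφ : Function.Surjective φ) {J : Ideal R} (hJ : RingHom.ker φ ≤ J) (hne : J ≠ ⊤) :
    IsCIIdeal J ↔ IsCIIdeal (J.map φ) := by
  obtain ⟨d, hd⟩ := CAlgReg.exists_dim (R := R)
  obtain ⟨d', hd'⟩ := CAlgReg.exists_dim (R := R')
  exact isCIIdeal_iff_map_aux d R R' φ hφ hd hd' (by omega) J hJ hne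

end Groth.Agent.SyntLCI
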